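import Mathlib
import Cfsg.Agent.Solvable.Carter
import Cfsg.Agent.Lib.NormalAbelian

/-!
# Fixed-point-free nilpotent groups of automorphisms of solvable groups (helper523)

Internal form: `Fpf L A` : `A` is a nilpotent subgroup of `X` normalising the subgroup `L` with
`C_L(A) = 1`.

* `Fpf.carter` : `A` is a Carter subgroup of `L A`;
* `Fpf.map` : `A` acts without fixed points on the quotients of `L` (`L` solvable);
* `exists_conj_le` : a supplement `H` of `L` in `L A` contains a conjugate of `A` (`L` solvable);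
* `exists_fixed` : if `A` preserves an orbit of `L` then it fixes a point of the orbit.
-/

set_option autoImplicit false

namespace Cfsg.Agent.H523.FpfN

open Subgroup Pointwise
open scoped commutatorElement
open Cfsg.Agent.Solvable.Carter (IsCarter mem_conj_smul_iff exists_conj_of_le)

universe u v

/-- `A` is a nilpotent group acting without (nontrivial) fixed points on `L`. -/
structure Fpf {X : Type*} [Group X] (L A : Subgroup X) : Prop where
  nil : Group.IsNilpotent A
  norm : A ≤ normalizer (L : Set X)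
  fix : L ⊓ centralizer (A : Set X) = ⊥

section

variable {X : Type u} [Group X] {L A : Subgroup X}

theorem Fpf.eq_one (h : Fpf L A) {x : X} (hx : x ∈ L) (hc : ∀ a ∈ A, a * x = x * a) : x = 1 := by
  have : x ∈ L ⊓ centralizer (A : Set X) := mem_inf.mpr ⟨hx, mem_centralizer_iff.mpr hc⟩
  rwa [h.fix, mem_bot] at this

theorem Fpf.inf (h : Fpf L A) : L ⊓ A = ⊥ := by
  have := h.nil
  by_contra hne
  let N : Subgroup A := (L ⊓ A).subgroupOf A
  have hN : N.Normal := by
    refine ⟨fun n hn g => ?_⟩
    rw [mem_subgroupOf] at hn ⊢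
    refine mem_inf.mpr ⟨?_, ?_⟩
    · exact (mem_normalizer_iff.mp (h.norm g.2) _).mp hn.1
    · exact (g * n * g⁻¹).2
  have hN1 : N ≠ ⊥ := by
    intro h1
    apply hne
    rw [eq_bot_iff]
    intro x hx
    have h2 : (⟨x, hx.2⟩ : A) ∈ N := mem_subgroupOf.mpr hx
    rw [h1, mem_bot] at h2
    rw [mem_bot]
    exact congrArg Subtype.val h2
  have h2 := Cfsg.Agent.Lib.NormalAbelian.normal_inf_center_ne_bot N hN1
  apply h2
  rw [eq_bot_iff]
  intro z hz
  obtain ⟨hz1, hz2⟩ := mem_inf.mp hz
  rw [mem_bot]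
  apply Subtype.ext
  refine h.eq_one (mem_subgroupOf.mp hz1).1 fun a ha => ?_
  exact congrArg Subtype.val (mem_center_iff.mp hz2 ⟨a, ha⟩)

theorem Fpf.inf_normalizer (h : Fpf L A) {x : X} (hx : x ∈ L) (hn : x ∈ normalizer (A : Set X)) :
    x = 1 := by
  refine h.eq_one hx fun a ha => ?_
  have h1 : x * a * x⁻¹ * a⁻¹ ∈ L ⊓ A := by
    refine mem_inf.mpr ⟨?_, A.mul_mem ((mem_normalizer_iff.mp hn a).mp ha) (A.inv_mem ha)⟩
    have h2 : a * x⁻¹ * a⁻¹ ∈ L := (mem_normalizer_iff.mp (h.norm ha) _).mp (L.inv_mem hx)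
    have h3 : x * a * x⁻¹ * a⁻¹ = x * (a * x⁻¹ * a⁻¹) := by group
    rw [h3]
    exact L.mul_mem hx h2
  rw [h.inf, mem_bot] at h1
  have h2 : x * a = a * x := by
    have := congrArg (fun t => t * a * x) h1
    simpa [mul_assoc] using this
  exact h2.symm

theorem Fpf.exists_mul (h : Fpf L A) {y : X} (hy : y ∈ L ⊔ A) : ∃ l ∈ L, ∃ a ∈ A, y = l * a := by
  have h1 : y ∈ ((L ⊔ A : Subgroup X) : Set X) := hy
  rw [Subgroup.coe_mul_of_right_le_normalizer_left L A h.norm] at h1
  obtain ⟨l, hl, a, ha, rfl⟩ := Set.mem_mul.mp h1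
  exact ⟨l, hl, a, ha, rfl⟩

theorem Fpf.normalizer_le (h : Fpf L A) {x : X} (hx : x ∈ L ⊔ A) (hn : x ∈ normalizer (A : Set X)) :
    x ∈ A := by
  obtain ⟨l, hl, a, ha, rfl⟩ := h.exists_mul hx
  have h1 : l ∈ normalizer (A : Set X) := by
    have := (normalizer (A : Set X)).mul_mem hn (inv_mem (le_normalizer ha))
    simpa using this
  rw [h.inf_normalizer hl h1, one_mul]
  exact ha

theorem Fpf.mono (h : Fpf L A) {M : Subgroup X} (hM : M ≤ L) (hn : A ≤ normalizer (M : Set X)) :
    Fpf M A :=
  ⟨h.nil, hn, by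
    rw [eq_bot_iff, ← h.fix]
    exact inf_le_inf_right _ hM⟩

theorem Fpf.conj (h : Fpf L A) (g : X) : Fpf (MulAut.conj g • L) (MulAut.conj g • A) := by
  refine ⟨Cfsg.Agent.Solvable.Carter.isNilpotent_conj h.nil g, ?_, ?_⟩
  · intro x hx
    rw [Cfsg.Agent.Solvable.Carter.mem_normalizer_conj_smul]
    exact h.norm (mem_conj_smul_iff.mp hx)
  · rw [eq_bot_iff]
    intro x hx
    obtain ⟨h1, h2⟩ := mem_inf.mp hx
    have h3 : g⁻¹ * x * g = 1 := by
      refine h.eq_one (mem_conj_smul_iff.mp h1) fun a ha => ?_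
      have h4 : g * a * g⁻¹ ∈ MulAut.conj g • A := by
        rw [mem_conj_smul_iff]
        simpa [mul_assoc] using ha
      have h5 := mem_centralizer_iff.mp h2 _ h4
      calc a * (g⁻¹ * x * g) = g⁻¹ * ((g * a * g⁻¹) * x) * g := by group
        _ = g⁻¹ * (x * (g * a * g⁻¹)) * g := by rw [h5]
        _ = g⁻¹ * x * g * a := by group
    rw [mem_bot]
    calc x = g * (g⁻¹ * x * g) * g⁻¹ := by group
      _ = 1 := by rw [h3]; group

theorem Fpf.conj_of_normal (h : Fpf L A) [hL : L.Normal] (g : X) : Fpf L (MulAut.conj g • A) := by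
  have h1 := h.conj g
  have h2 : MulAut.conj g • L = L := hL.conj_smul_eq_self g
  rwa [h2] at h1

theorem Fpf.subgroupOf (h : Fpf L A) {H : Subgroup X} (hA : A ≤ H) :
    Fpf (L.subgroupOf H) (A.subgroupOf H) := by
  have := h.nil
  refine ⟨Group.nilpotent_of_mulEquiv (subgroupOfEquivOfLe hA).symm, ?_, ?_⟩
  · intro x hx
    rw [mem_normalizer_iff]
    intro y
    rw [mem_subgroupOf, mem_subgroupOf]
    exact mem_normalizer_iff.mp (h.norm (mem_subgroupOf.mp hx)) _
  · rw [eq_bot_iff]
    intro x hx
    obtain ⟨h1, h2⟩ := mem_inf.mp hx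
    rw [mem_bot]
    apply Subtype.ext
    refine h.eq_one (mem_subgroupOf.mp h1) fun a ha => ?_
    exact congrArg Subtype.val (mem_centralizer_iff.mp h2 ⟨a, hA ha⟩ (mem_subgroupOf.mpr ha))

/-- `A` is a Carter subgroup of `L A`. -/
theorem Fpf.carter (h : Fpf L A) : IsCarter (A.subgroupOf (L ⊔ A)) := by
  have := h.nil
  refine ⟨Group.nilpotent_of_mulEquiv (subgroupOfEquivOfLe le_sup_right).symm, ?_⟩
  refine le_antisymm ?_ le_normalizer
  intro x hx
  rw [← subgroupOf_normalizer_eq (le_sup_right : A ≤ L ⊔ A)] at hx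
  exact mem_subgroupOf.mpr (h.normalizer_le x.2 (mem_subgroupOf.mp hx))

theorem Fpf.carter_of_sup (h : Fpf L A) (hs : L ⊔ A = ⊤) : IsCarter A := by
  refine ⟨h.nil, le_antisymm ?_ le_normalizer⟩
  intro x hx
  exact h.normalizer_le (by rw [hs]; trivial) hx

/-- `A` acts without fixed points on the images of `L`. -/
theorem Fpf.map [Finite X] [Group.IsSolvable X] (h : Fpf L A) (hs : L ⊔ A = ⊤) {X' : Type v}
    [Group X'] {f : X →* X'} (hf : Function.Surjective f) (hker : f.ker ≤ L) :
    Fpf (L.map f) (A.map f) := by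
  have hc : IsCarter (A.map f) := by
    refine IsCarter.map hf (fun H _ => ?_) (h.carter_of_sup hs)
    exact (Cfsg.Agent.Solvable.Carter.carter H inferInstance).2
  refine ⟨hc.1, ?_, ?_⟩
  · rintro _ ⟨a, ha, rfl⟩
    rw [mem_normalizer_iff]
    have key : ∀ b ∈ A, ∀ y ∈ L.map f, f b * y * (f b)⁻¹ ∈ L.map f := by
      rintro b hb _ ⟨l, hl, rfl⟩
      refine ⟨b * l * b⁻¹, (mem_normalizer_iff.mp (h.norm hb) l).mp hl, by simp⟩
    intro y
    constructor
    · exact key a ha y
    · intro hy
      have := key a⁻¹ (A.inv_mem ha) _ hy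
      simpa [mul_assoc] using this
  · rw [eq_bot_iff]
    intro x hx
    obtain ⟨h1, h2⟩ := mem_inf.mp hx
    have h3 : x ∈ A.map f := by
      rw [← hc.2]
      exact centralizer_le_normalizer _ h2
    obtain ⟨l, hl, hlx⟩ := h1
    obtain ⟨a, ha, rfl⟩ := h3
    have h4 : l⁻¹ * a ∈ L := hker (by rw [MonoidHom.mem_ker, map_mul, map_inv, hlx]; group)
    have h5 : a ∈ L ⊓ A := by
      refine mem_inf.mpr ⟨?_, ha⟩
      have := L.mul_mem hl h4
      simpa using this
    rw [h.inf, mem_bot] at h5
    rw [h5, map_one]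
    exact one_mem _

end

section Main

theorem exists_conj_carter {X : Type u} [Group X] [Finite X] {Y : Subgroup X}
    [Group.IsSolvable Y] {C D : Subgroup X} (hC : IsCarter (C.subgroupOf Y))
    (hD : IsCarter (D.subgroupOf Y)) (hCY : C ≤ Y) (hDY : D ≤ Y) :
    ∃ g ∈ Y, MulAut.conj g • C = D := by
  obtain ⟨g, hg⟩ := (Cfsg.Agent.Solvable.Carter.carter Y inferInstance).2 _ _ hC hD
  refine ⟨g, g.2, ?_⟩
  rw [conj_smul_subgroupOf hCY, subgroupOf_inj] at hg
  rwa [inf_eq_left.mpr hDY, inf_eq_left.mpr (conj_smul_le_of_le hCY g)] at hg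

theorem exists_conj_le_aux (n : ℕ) : ∀ (X : Type u) [Group X] [Finite X], Nat.card X = n →
    Group.IsSolvable X → ∀ L A H : Subgroup X, L.Normal → Fpf L A → L ⊔ A = ⊤ → L ⊔ H = ⊤ →
    ∃ g : X, MulAut.conj g • A ≤ H := by
  induction n using Nat.strong_induction_on with
  | _ n ih =>
  intro X _ _ hn hsol L A H hL hF hLA hLH
  by_cases hH : H = ⊤
  · exact ⟨1, by rw [hH]; exact le_top⟩
  obtain ⟨M, hM, hHM⟩ : ∃ M : Subgroup X, IsCoatom M ∧ H ≤ M := by
    rcases IsCoatomic.eq_top_or_exists_le_coatom H with h | h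
    · exact absurd h hH
    · exact h
  have hLM : L ⊔ M = ⊤ := by
    rw [eq_top_iff, ← hLH]
    exact sup_le_sup_left hHM _
  -- Step 1
  have step1 : ∃ g : X, MulAut.conj g • A ≤ M := by
    have hL1 : L ≠ ⊥ := by
      rintro rfl
      rw [bot_sup_eq] at hLM
      exact hM.1 hLM
    -- a minimal normal subgroup of `X` in `L`
    obtain ⟨N, ⟨hN, hN1, hNL⟩, hmin⟩ := (Set.toFinite
      {N : Subgroup X | N.Normal ∧ N ≠ ⊥ ∧ N ≤ L}).exists_minimal ⟨L, hL, hL1, le_rfl⟩
    have hmin' : ∀ K : Subgroup X, K.Normal → K ≤ N → K = ⊥ ∨ K = N := by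
      intro K hK hKN
      by_cases hKb : K = ⊥
      · exact Or.inl hKb
      · exact Or.inr (le_antisymm hKN (hmin ⟨hK, hKb, hKN.trans hNL⟩ hKN))
    have hNab : ∀ x ∈ N, ∀ y ∈ N, x * y = y * x := by
      have h1 : ⁅N, N⁆ = ⊥ := by
        rcases hmin' ⁅N, N⁆ inferInstance (commutator_le_left N N) with h | h
        · exact h
        · exfalso
          have h2 : Group.IsSolvable N := inferInstance
          have : Nontrivial N := (Subgroup.nontrivial_iff_ne_bot N).mpr hN1
          have h3 : commutator N = ⊤ := by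
            rw [_root_.eq_top_iff]
            have h4 : (⊤ : Subgroup N).map N.subtype ≤ (commutator N).map N.subtype := by
              rw [← MonoidHom.range_eq_map, range_subtype, commutator_def, map_commutator,
                ← MonoidHom.range_eq_map, range_subtype, h]
            exact (Subgroup.map_le_map_iff_of_injective N.subtype_injective).mp h4
          exact absurd h3 (Group.IsSolvable.commutator_lt_top_of_nontrivial N).ne
      intro x hx y hy
      have h2 : ⁅x, y⁆ ∈ ⁅N, N⁆ := commutator_mem_commutator hx hy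
      rw [h1, mem_bot, commutatorElement_eq_one_iff_mul_comm] at h2
      exact h2
    have hcard : Nat.card (X ⧸ N) < n := by
      rw [← hn]
      have : Nontrivial N := (Subgroup.nontrivial_iff_ne_bot N).mpr hN1
      rw [Subgroup.card_eq_card_quotient_mul_card_subgroup N]
      exact lt_mul_of_one_lt_right Nat.card_pos Finite.one_lt_card
    let π := QuotientGroup.mk' N
    have hπ : Function.Surjective π := QuotientGroup.mk'_surjective N
    have hkerπ : π.ker = N := QuotientGroup.ker_mk' N
    have hFπ : Fpf (L.map π) (A.map π) := hF.map hLA hπ (by rw [hkerπ]; exact hNL)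
    by_cases hNM : N ≤ M
    · -- in the quotient
      have h1 : L.map π ⊔ A.map π = ⊤ := by
        rw [← Subgroup.map_sup, hLA, map_top_of_surjective π hπ]
      have h2 : L.map π ⊔ M.map π = ⊤ := by
        rw [← Subgroup.map_sup, hLM, map_top_of_surjective π hπ]
      obtain ⟨g', hg'⟩ := ih _ hcard (X ⧸ N) rfl inferInstance (L.map π) (A.map π) (M.map π)
        (hL.map π hπ) hFπ h1 h2
      obtain ⟨g, rfl⟩ := hπ g'
      refine ⟨g, fun x hx => ?_⟩
      rw [mem_conj_smul_iff] at hx
      have h3 : π x ∈ M.map π := by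
        apply hg'
        rw [mem_conj_smul_iff]
        refine ⟨g⁻¹ * x * g, hx, by simp⟩
      obtain ⟨m, hm, hmx⟩ := h3
      have h4 : m⁻¹ * x ∈ N := by
        rw [← hkerπ, MonoidHom.mem_ker, map_mul, map_inv, hmx]; group
      have h5 := M.mul_mem hm (hNM h4)
      simpa using h5
    · -- `M` is a complement of `N`
      have hNMtop : N ⊔ M = ⊤ := by
        rcases hM.le_iff.mp (le_sup_right : M ≤ N ⊔ M) with h | h
        · exact h
        · exact absurd (h ▸ le_sup_left) hNM
      have hNMn : (N ⊓ M).Normal := by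
        rw [← normalizer_eq_top_iff, _root_.eq_top_iff, ← hNMtop]
        refine sup_le ?_ ?_
        · intro x hx
          rw [mem_normalizer_iff]
          intro y
          constructor
          · intro hy
            have : x * y * x⁻¹ = y := by rw [hNab x hx y hy.1]; group
            rwa [this]
          · intro hy
            have h1 : x⁻¹ * (x * y * x⁻¹) * x = x * y * x⁻¹ := by
              have h2 := hNab x hx _ hy.1
              calc x⁻¹ * (x * y * x⁻¹) * x = x⁻¹ * ((x * y * x⁻¹) * x) := by group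
                _ = x⁻¹ * (x * (x * y * x⁻¹)) := by rw [h2]
                _ = _ := by group
            have h3 : y = x * y * x⁻¹ := by
              calc y = x⁻¹ * (x * y * x⁻¹) * x := by group
                _ = _ := h1
            rw [h3]; exact hy
        · intro x hx
          rw [mem_normalizer_iff]
          intro y
          constructor
          · rintro ⟨h1, h2⟩
            exact ⟨hN.conj_mem y h1 x, M.mul_mem (M.mul_mem hx h2) (M.inv_mem hx)⟩
          · rintro ⟨h1, h2⟩
            refine ⟨?_, ?_⟩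
            · have := hN.conj_mem _ h1 x⁻¹
              simpa [mul_assoc] using this
            · have := M.mul_mem (M.mul_mem (M.inv_mem hx) h2) hx
              simpa [mul_assoc] using this
      have hNMb : N ⊓ M = ⊥ := by
        rcases hmin' (N ⊓ M) hNMn inf_le_left with h | h
        · exact h
        · exact absurd (inf_eq_left.mp h) hNM
      -- a Carter subgroup of `M`
      obtain ⟨C0, hC0⟩ := (Cfsg.Agent.Solvable.Carter.carter M inferInstance).1
      let f : M →* X ⧸ N := π.comp M.subtype
      have hfs : Function.Surjective f := by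
        intro y
        obtain ⟨x, rfl⟩ := hπ y
        have hx : x ∈ ((N ⊔ M : Subgroup X) : Set X) := by rw [hNMtop]; trivial
        rw [normal_mul] at hx
        obtain ⟨k, hk, m, hm, rfl⟩ := Set.mem_mul.mp hx
        refine ⟨⟨m, hm⟩, ?_⟩
        show π m = π (k * m)
        rw [map_mul]
        have : π k = 1 := by rw [← MonoidHom.mem_ker, hkerπ]; exact hk
        rw [this, one_mul]
      have hC1 : IsCarter (C0.map f) := by
        refine IsCarter.map hfs (fun K _ => ?_) hC0
        exact (Cfsg.Agent.Solvable.Carter.carter K inferInstance).2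
      have hA1 : IsCarter (A.map π) := by
        refine hFπ.carter_of_sup ?_
        rw [← Subgroup.map_sup, hLA, map_top_of_surjective π hπ]
      obtain ⟨g', hg'⟩ := (Cfsg.Agent.Solvable.Carter.carter (X ⧸ N) inferInstance).2 _ _ hA1 hC1
      obtain ⟨g, rfl⟩ := hπ g'
      let C : Subgroup X := C0.map M.subtype
      let A' : Subgroup X := MulAut.conj g • A
      have hA'L : Fpf L A' := hF.conj_of_normal g
      have hA'N : Fpf N A' := hA'L.mono hNL le_normalizer_of_normal
      have hmapA' : A'.map π = C.map π := by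
        have h1 : A'.map π = MulAut.conj (π g) • A.map π := by
          ext y
          rw [mem_conj_smul_iff]
          constructor
          · rintro ⟨x, hx, rfl⟩
            exact ⟨g⁻¹ * x * g, mem_conj_smul_iff.mp hx, by simp⟩
          · rintro ⟨a, ha, hay⟩
            refine ⟨g * a * g⁻¹, ?_, ?_⟩
            · show g * a * g⁻¹ ∈ MulAut.conj g • A
              rw [mem_conj_smul_iff]
              simpa [mul_assoc] using ha
            · rw [map_mul, map_mul, map_inv, hay]; group
        rw [h1, hg', map_map]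
      have hsup : N ⊔ A' = N ⊔ C := by
        have h1 := congrArg (fun K => comap π K) hmapA'
        simp only [comap_map_eq, hkerπ] at h1
        rw [sup_comm N, sup_comm N, h1]
      have hCM : C ≤ M := by
        rintro _ ⟨c, _, rfl⟩
        exact c.2
      have hCnil : Group.IsNilpotent C := by
        have := hC0.1
        exact Group.nilpotent_of_mulEquiv (C0.equivMapOfInjective _ M.subtype_injective)
      have hCN : Fpf N C := by
        refine ⟨hCnil, le_normalizer_of_normal, ?_⟩
        rw [eq_bot_iff]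
        intro x hx
        obtain ⟨h1, h2⟩ := mem_inf.mp hx
        rw [mem_bot]
        have h3 : N ⊔ C ≤ centralizer {x} := by
          refine sup_le ?_ ?_
          · intro y hy
            rw [mem_centralizer_singleton_iff]
            exact hNab y hy x h1
          · intro y hy
            rw [mem_centralizer_singleton_iff]
            exact mem_centralizer_iff.mp h2 y hy
        refine hA'N.eq_one h1 fun a ha => ?_
        have h4 : a ∈ N ⊔ C := by rw [← hsup]; exact mem_sup_right ha
        exact mem_centralizer_singleton_iff.mp (h3 h4)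
      have hc1 := hA'N.carter
      have hc2 := hCN.carter
      rw [hsup] at hc1
      obtain ⟨k, _, hk⟩ := exists_conj_carter (Y := N ⊔ C) hc1 hc2 (by rw [← hsup]; exact le_sup_right)
        le_sup_right
      refine ⟨k * g, ?_⟩
      rw [map_mul, ← smul_smul]
      exact hk.le.trans hCM
  -- Step 2
  obtain ⟨g, hg⟩ := step1
  have hF' : Fpf L (MulAut.conj g • A) := hF.conj_of_normal g
  have hsup' : L ⊔ MulAut.conj g • A = ⊤ := by
    have h1 : MulAut.conj g • (L ⊔ A) = ⊤ := by
      rw [hLA]
      ext x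
      rw [mem_conj_smul_iff]
      simp
    rw [smul_sup, hL.conj_smul_eq_self g] at h1
    exact h1
  have hcardM : Nat.card M < n := by
    rw [← hn]
    refine lt_of_le_of_ne (Nat.card_le_card_of_injective _ M.subtype_injective) fun h => hM.1 ?_
    exact Subgroup.eq_top_of_card_eq M h
  -- Dedekind
  have hded : ∀ K : Subgroup X, K ≤ M → L ⊔ K = ⊤ → L.subgroupOf M ⊔ K.subgroupOf M = ⊤ := by
    intro K hKM hK
    rw [_root_.eq_top_iff]
    intro m _
    have hm : (m : X) ∈ ((L ⊔ K : Subgroup X) : Set X) := by rw [hK]; trivial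
    rw [normal_mul] at hm
    obtain ⟨l, hl, k, hk, hlk⟩ := Set.mem_mul.mp hm
    have hlM : l ∈ M := by
      have h1 := M.mul_mem m.2 (M.inv_mem (hKM hk))
      rw [← hlk] at h1
      simpa using h1
    have h2 : m = ⟨l, hlM⟩ * ⟨k, hKM hk⟩ := Subtype.ext hlk.symm
    rw [h2]
    exact mul_mem (mem_sup_left (mem_subgroupOf.mpr hl)) (mem_sup_right (mem_subgroupOf.mpr hk))
  obtain ⟨m, hm⟩ := ih _ hcardM M rfl inferInstance (L.subgroupOf M)
    ((MulAut.conj g • A).subgroupOf M) (H.subgroupOf M) (hL.subgroupOf M) (hF'.subgroupOf hg)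
    (hded _ hg hsup') (hded _ hHM hLH)
  refine ⟨(m : X) * g, ?_⟩
  rw [conj_smul_subgroupOf hg] at hm
  intro x hx
  rw [map_mul, ← smul_smul] at hx
  have hxM : x ∈ M := conj_smul_le_of_le hg m hx
  have h1 : (⟨x, hxM⟩ : M) ∈ (MulAut.conj (m : X) • MulAut.conj g • A).subgroupOf M :=
    mem_subgroupOf.mpr hx
  exact mem_subgroupOf.mp (hm h1)

end Main

end Cfsg.Agent.H523.FpfN
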