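import Mathlib
import Cfsg.Agent.H523.Fpf
import Cfsg.Agent.OddOrderLocal.SylIn
import Cfsg.Agent.SignalizersComponents.ComponentExists

/-!
# Fixed-point-free nilpotent groups of automorphisms: fixed points and invariant Sylow subgroups (helper523)

* `Fpf.exists_conj_le` : `L` solvable, `H` a supplement of `L` in `L A`: a conjugate of `A` lies in `H`;
* `Fpf.exists_fixed` : `A` fixes a point of every `A`-invariant `L`-orbit;
* `Fpf.exists_isSyl`, `Fpf.isSyl_unique` : exactly one `A`-invariant Sylow `p`-subgroup of `L`.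
-/

set_option autoImplicit false
set_option linter.unusedSectionVars false

namespace Cfsg.Agent.H523.FpfN

open Subgroup Pointwise
open Cfsg.Agent.Solvable.Carter (IsCarter mem_conj_smul_iff)
open Cfsg.Agent.OddOrderLocal.SylIn

universe u v

section

variable {X : Type u} [Group X] [Finite X] {L A : Subgroup X}

theorem sup_le_normalizer (h : A ≤ normalizer (L : Set X)) : L ⊔ A ≤ normalizer (L : Set X) :=
  sup_le le_normalizer h

theorem normal_subgroupOf {Y : Subgroup X} (h : Y ≤ normalizer (L : Set X)) : (L.subgroupOf Y).Normal := by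
  refine ⟨fun n hn g => ?_⟩
  rw [mem_subgroupOf] at hn ⊢
  exact (mem_normalizer_iff.mp (h g.2) _).mp hn

theorem Fpf.solvable_sup (h : Fpf L A) (hs : Group.IsSolvable L) :
    Group.IsSolvable (L ⊔ A : Subgroup X) := by
  have := h.nil
  let Y : Subgroup X := L ⊔ A
  have hn : (L.subgroupOf Y).Normal := normal_subgroupOf (sup_le_normalizer h.norm)
  have h1 : Group.IsSolvable (L.subgroupOf Y) :=
    Group.isSolvable_of_isSolvable_injective (f := (subgroupOfEquivOfLe (le_sup_left : L ≤ Y)).toMonoidHom)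
      (subgroupOfEquivOfLe (le_sup_left : L ≤ Y)).injective
  have h2 : Group.IsSolvable (A.subgroupOf Y) :=
    Group.isSolvable_of_isSolvable_injective (f := (subgroupOfEquivOfLe (le_sup_right : A ≤ Y)).toMonoidHom)
      (subgroupOfEquivOfLe (le_sup_right : A ≤ Y)).injective
  have h3 := Cfsg.Agent.SignalizersComponents.ComponentExists.isSolvable_sup_of_normal (N := L.subgroupOf Y)
    (H := A.subgroupOf Y) h2 h1
  have h4 : A.subgroupOf Y ⊔ L.subgroupOf Y = ⊤ := by
    rw [_root_.eq_top_iff]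
    intro y _
    obtain ⟨l, hl, a, ha, hla⟩ := h.exists_mul y.2
    have : y = ⟨l, mem_sup_left hl⟩ * ⟨a, mem_sup_right ha⟩ := Subtype.ext hla
    rw [this]
    exact mul_mem (mem_sup_right (mem_subgroupOf.mpr hl)) (mem_sup_left (mem_subgroupOf.mpr ha))
  rw [h4] at h3
  exact Group.isSolvable_of_isSolvable_injective (f := (Subgroup.topEquiv (G := Y)).symm.toMonoidHom)
    (Subgroup.topEquiv (G := Y)).symm.injective

theorem conj_smul_mul_of_mem {l a : X} (ha : a ∈ A) : MulAut.conj (l * a) • A = MulAut.conj l • A := by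
  rw [map_mul, ← smul_smul]
  congr 1
  exact Cfsg.Agent.Solvable.Carter.conj_smul_eq_iff_mem_normalizer.mpr (le_normalizer ha)

/-- A subgroup `H` with `A ≤ L (H ∩ L A)`, `L` solvable, contains a conjugate of `A`. -/
theorem Fpf.exists_conj_le (h : Fpf L A) (hs : Group.IsSolvable L) {H : Subgroup X}
    (hH : A ≤ L ⊔ (H ⊓ (L ⊔ A))) : ∃ l ∈ L, MulAut.conj l • A ≤ H := by
  have hsol := h.solvable_sup hs
  let Y : Subgroup X := L ⊔ A
  have hYn : Y ≤ normalizer (L : Set X) := sup_le_normalizer h.norm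
  have hAY : A ≤ Y := le_sup_right
  have hLA : L.subgroupOf Y ⊔ A.subgroupOf Y = ⊤ := by
    rw [_root_.eq_top_iff]
    intro y _
    obtain ⟨l, hl, a, ha, hla⟩ := h.exists_mul y.2
    have : y = ⟨l, mem_sup_left hl⟩ * ⟨a, mem_sup_right ha⟩ := Subtype.ext hla
    rw [this]
    exact mul_mem (mem_sup_left (mem_subgroupOf.mpr hl)) (mem_sup_right (mem_subgroupOf.mpr ha))
  have hLH : L.subgroupOf Y ⊔ H.subgroupOf Y = ⊤ := by
    rw [_root_.eq_top_iff, ← hLA]
    refine sup_le le_sup_left ?_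
    intro y hy
    have h1 : (y : X) ∈ ((L ⊔ (H ⊓ Y) : Subgroup X) : Set X) := hH (mem_subgroupOf.mp hy)
    rw [Subgroup.coe_mul_of_right_le_normalizer_left L _ (inf_le_right.trans hYn)] at h1
    obtain ⟨l, hl, k, hk, hlk⟩ := Set.mem_mul.mp h1
    have : y = ⟨l, mem_sup_left hl⟩ * ⟨k, hk.2⟩ := Subtype.ext hlk.symm
    rw [this]
    exact mul_mem (mem_sup_left (mem_subgroupOf.mpr hl)) (mem_sup_right (mem_subgroupOf.mpr hk.1))
  obtain ⟨g, hg⟩ := exists_conj_le_aux _ Y rfl hsol (L.subgroupOf Y) (A.subgroupOf Y) (H.subgroupOf Y)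
    (normal_subgroupOf hYn) (h.subgroupOf hAY) hLA hLH
  obtain ⟨l, hl, a, ha, hla⟩ := h.exists_mul g.2
  refine ⟨l, hl, ?_⟩
  rw [conj_smul_subgroupOf hAY] at hg
  intro x hx
  rw [← conj_smul_mul_of_mem ha, ← hla] at hx
  have hxY : x ∈ Y := conj_smul_le_of_le hAY g hx
  have h1 : (⟨x, hxY⟩ : Y) ∈ (MulAut.conj (g : X) • A).subgroupOf Y := mem_subgroupOf.mpr hx
  exact mem_subgroupOf.mp (hg h1)

/-- If the nilpotent group `A` acts without fixed points on the solvable group `L` and preserves the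
`L`-orbit of `ω`, then it fixes a point of this orbit. -/
theorem Fpf.exists_fixed (h : Fpf L A) (hs : Group.IsSolvable L) {Ω : Type v} [MulAction X Ω] (ω : Ω)
    (hω : ∀ a ∈ A, ∃ l ∈ L, a • ω = l • ω) : ∃ l ∈ L, ∀ a ∈ A, a • l • ω = l • ω := by
  obtain ⟨l, hl, hlA⟩ := h.exists_conj_le hs (H := MulAction.stabilizer X ω) (by
    intro a ha
    obtain ⟨l, hl, hal⟩ := hω a ha
    have h1 : a = l * (l⁻¹ * a) := by group
    rw [h1]
    refine mul_mem (mem_sup_left hl) (mem_sup_right (mem_inf.mpr ⟨?_, ?_⟩))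
    · rw [MulAction.mem_stabilizer_iff, mul_smul, hal, inv_smul_smul]
    · exact mul_mem (inv_mem (mem_sup_left hl)) (mem_sup_right ha))
  refine ⟨l⁻¹, L.inv_mem hl, fun a ha => ?_⟩
  have h1 : l * a * l⁻¹ ∈ MulAction.stabilizer X ω := by
    apply hlA
    rw [mem_conj_smul_iff]
    simpa [mul_assoc] using ha
  rw [MulAction.mem_stabilizer_iff, mul_smul, mul_smul] at h1
  rw [eq_inv_smul_iff]
  exact h1

/-- The same for the action on subgroups by conjugation. -/
theorem Fpf.exists_le_normalizer (h : Fpf L A) (hs : Group.IsSolvable L) (K : Subgroup X)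
    (hK : ∀ a ∈ A, ∃ l ∈ L, MulAut.conj a • K = MulAut.conj l • K) :
    ∃ l ∈ L, A ≤ normalizer ((MulAut.conj l • K : Subgroup X) : Set X) := by
  let _ : MulAction X (Subgroup X) := MulAction.compHom (Subgroup X) (MulAut.conj : X →* MulAut X)
  obtain ⟨l, hl, hA⟩ := h.exists_fixed hs (Ω := Subgroup X) K hK
  refine ⟨l, hl, fun a ha => ?_⟩
  rw [← Cfsg.Agent.Solvable.Carter.conj_smul_eq_iff_mem_normalizer]
  exact hA a ha

/-- Two conjugates of `K` under `L` normalised by `A` are equal. -/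
theorem Fpf.eq_of_le_normalizer (h : Fpf L A) (hs : Group.IsSolvable L) (K : Subgroup X) {l : X} (hl : l ∈ L)
    (h1 : A ≤ normalizer (K : Set X)) (h2 : A ≤ normalizer ((MulAut.conj l • K : Subgroup X) : Set X)) :
    MulAut.conj l • K = K := by
  -- `A` and `A ^ l` are Carter subgroups of `N = N_{LA}(K)`
  have hsol := h.solvable_sup hs
  let Y : Subgroup X := (L ⊔ A) ⊓ normalizer (K : Set X)
  have hYsol : Group.IsSolvable Y :=
    Group.isSolvable_of_isSolvable_injective (f := Subgroup.inclusion (inf_le_left : Y ≤ L ⊔ A))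
      (Subgroup.inclusion_injective _)
  have key : ∀ B : Subgroup X, B ≤ Y → (∀ x ∈ L ⊔ A, x ∈ normalizer (B : Set X) → x ∈ B) → Group.IsNilpotent B →
      IsCarter (B.subgroupOf Y) := by
    intro B hB hn hBn
    refine ⟨Group.nilpotent_of_mulEquiv (subgroupOfEquivOfLe hB).symm, le_antisymm ?_ le_normalizer⟩
    intro x hx
    rw [← subgroupOf_normalizer_eq hB] at hx
    exact mem_subgroupOf.mpr (hn x x.2.1 (mem_subgroupOf.mp hx))
  have hA : A ≤ Y := le_inf le_sup_right h1
  have hlY : l ∈ L ⊔ A := mem_sup_left hl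
  have hAl : MulAut.conj l⁻¹ • A ≤ Y := by
    intro x hx
    rw [mem_conj_smul_iff, inv_inv] at hx
    refine mem_inf.mpr ⟨?_, ?_⟩
    · have h3 : x = l⁻¹ * (l * x * l⁻¹) * l := by group
      rw [h3]
      exact mul_mem (mul_mem (inv_mem hlY) (mem_sup_right hx)) hlY
    · have h3 := h2 hx
      rw [Cfsg.Agent.Solvable.Carter.mem_normalizer_conj_smul] at h3
      have h4 : l⁻¹ * (l * x * l⁻¹) * l = x := by group
      rwa [h4] at h3
  have c1 := key A hA (fun x hx hn => h.normalizer_le hx hn) h.nil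
  have c2 := key _ hAl (by
    intro x hx hn
    rw [Cfsg.Agent.Solvable.Carter.mem_normalizer_conj_smul, inv_inv] at hn
    rw [mem_conj_smul_iff, inv_inv]
    exact h.normalizer_le (mul_mem (mul_mem hlY hx) (inv_mem hlY)) hn)
    (Cfsg.Agent.Solvable.Carter.isNilpotent_conj h.nil _)
  obtain ⟨y, hy, hyA⟩ := exists_conj_carter (Y := Y) c1 c2 hA hAl
  -- `l y` normalises `A`
  have h5 : MulAut.conj (l * y) • A = A := by
    rw [map_mul, ← smul_smul, hyA, smul_smul, ← map_mul, mul_inv_cancel, map_one, one_smul]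
  have h6 : l * y ∈ A := h.normalizer_le (mul_mem hlY hy.1)
    (Cfsg.Agent.Solvable.Carter.conj_smul_eq_iff_mem_normalizer.mp h5)
  have h7 : l ∈ normalizer (K : Set X) := by
    have := mul_mem (h1 h6) (inv_mem hy.2)
    simpa using this
  exact Cfsg.Agent.Solvable.Carter.conj_smul_eq_iff_mem_normalizer.mpr h7

theorem conj_smul_eq_map (x : X) (K : Subgroup X) : MulAut.conj x • K = K.map (MulAut.conj x).toMonoidHom := rfl

/-- Existence of an `A`-invariant Sylow subgroup. -/
theorem Fpf.exists_isSyl (h : Fpf L A) (hs : Group.IsSolvable L) (p : ℕ) [hp : Fact p.Prime] :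
    ∃ P : Subgroup X, IsSyl p P L ∧ A ≤ normalizer (P : Set X) := by
  obtain ⟨P, hP⟩ := OddOrderLocal.SylIn.exists_isSyl p L
  have hconjL : ∀ a ∈ normalizer (L : Set X), ∀ Q : Subgroup X, IsSyl p Q L → IsSyl p (MulAut.conj a • Q) L := by
    intro a ha Q hQ
    have h1 : MulAut.conj a • L = L := Cfsg.Agent.Solvable.Carter.conj_smul_eq_iff_mem_normalizer.mpr ha
    have h2 : MulAut.conj a • Q ≤ L := by
      rw [← h1]
      exact Subgroup.pointwise_smul_le_pointwise_smul_iff.mpr hQ.le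
    refine hQ.of_card_le h2 ?_ ?_
    · exact hQ.isPGroup.map _
    · exact (Nat.card_congr (Q.equivMapOfInjective _ (MulAut.conj a).injective).toEquiv).le
  obtain ⟨l, hl, hA⟩ := h.exists_le_normalizer hs P (by
    intro a ha
    obtain ⟨l, hl, hl'⟩ := hP.exists_conj (hconjL a (h.norm ha) P hP)
    exact ⟨l, hl, hl'.symm⟩)
  exact ⟨_, hconjL l (le_normalizer hl) P hP, hA⟩

/-- Uniqueness of the `A`-invariant Sylow subgroup. -/
theorem Fpf.isSyl_unique (h : Fpf L A) (hs : Group.IsSolvable L) {p : ℕ} [hp : Fact p.Prime] {P Q : Subgroup X}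
    (hP : IsSyl p P L) (hQ : IsSyl p Q L) (hAP : A ≤ normalizer (P : Set X)) (hAQ : A ≤ normalizer (Q : Set X)) :
    P = Q := by
  obtain ⟨l, hl, hl'⟩ := hP.exists_conj hQ
  rw [← conj_smul_eq_map] at hl'
  have := h.eq_of_le_normalizer hs P hl hAP (by rw [hl']; exact hAQ)
  rw [← hl', this]

end

end Cfsg.Agent.H523.FpfN
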