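import Mathlib
import Cfsg.Agent.H523.FpfAct

/-!
# Nilpotent groups of automorphisms without fixed points: the interface for simple groups (helper523)

* `Bad r S A` : what is known about a fixed-point-free nilpotent group `A` of automorphisms of the simple group `S` of
  Lie type in characteristic `r`, all of whose proper `A`-invariant subgroups are solvable;
* `NoBad r S` : there is no such `A`;
* `OddFix r S` : an automorphism of odd prime order `≠ r` is inner or fixes an element of order `r`;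
* `noBad_of_oddFix`, `noBad_of_cyclic`.
-/

set_option autoImplicit false
set_option linter.unusedSectionVars false

namespace Cfsg.Agent.H523

open Subgroup Pointwise

universe u v

/-- A fixed-point-free nilpotent group of automorphisms of `S`, `S` of characteristic `r`. -/
structure Bad (r : ℕ) (S : Type u) [Group S] (A : Subgroup (MulAut S)) : Prop where
  /-- `A` is nilpotent -/
  nil : Group.IsNilpotent A
  /-- `C_S(A) = 1` -/
  fix : ∀ s : S, (∀ a ∈ A, a s = s) → s = 1
  /-- `A ∩ Inn S = 1` -/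
  inn : ∀ a ∈ A, (∃ g : S, a = MulAut.conj g) → a = 1
  /-- the proper `A`-invariant subgroups are solvable -/
  sol : ∀ H : Subgroup S, H ≠ ⊤ → (∀ a ∈ A, ∀ h ∈ H, a h ∈ H) → Group.IsSolvable H
  /-- `A` acts without fixed points on `H / N`, `N ⊴ H` both `A`-invariant, `H` proper -/
  quo : ∀ H N : Subgroup S, H ≠ ⊤ → (∀ a ∈ A, ∀ h ∈ H, a h ∈ H) → (∀ a ∈ A, ∀ n ∈ N, a n ∈ N) → N ≤ H →
    (∀ h ∈ H, ∀ n ∈ N, h * n * h⁻¹ ∈ N) → ∀ h ∈ H, (∀ a ∈ A, h⁻¹ * a h ∈ N) → h ∈ N
  /-- no nontrivial `A`-invariant `r`-subgroup -/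
  noP : ∀ P : Subgroup S, IsPGroup r P → (∀ a ∈ A, ∀ x ∈ P, a x ∈ P) → P = ⊥
  /-- the nontrivial central elements of `A` fix no element of order `r` -/
  cent : ∀ z ∈ A, z ≠ 1 → (∀ a ∈ A, a * z = z * a) → ∀ s : S, z s = s → s ^ r = 1 → s = 1

/-- No bad group of automorphisms. -/
def NoBad (r : ℕ) (S : Type u) [Group S] : Prop := ∀ A : Subgroup (MulAut S), ¬ Bad r S A

/-- An automorphism of odd prime order `≠ r` is inner or fixes an element of order `r`. -/
def OddFix (r : ℕ) (S : Type u) [Group S] : Prop :=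
  ∀ p : ℕ, p.Prime → p ≠ 2 → p ≠ r → ∀ z : MulAut S, orderOf z = p →
    (∀ s : S, z s = s → s ^ r = 1 → s = 1) → ∃ g : S, z = MulAut.conj g

/-! ### transport -/

section Transport

variable {S : Type u} {T : Type v} [Group S] [Group T]

theorem congr_apply (e : S ≃* T) (z : MulAut S) (t : T) : MulAut.congr e z t = e (z (e.symm t)) := rfl

theorem congr_conj (e : S ≃* T) (g : S) : MulAut.congr e (MulAut.conj g) = MulAut.conj (e g) := by
  ext t
  rw [congr_apply, MulAut.conj_apply, MulAut.conj_apply, map_mul, map_mul, map_inv, MulEquiv.apply_symm_apply]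

theorem OddFix.congr {r : ℕ} (e : S ≃* T) (h : OddFix r S) : OddFix r T := by
  intro p hp hp2 hpr z hz hfix
  obtain ⟨g, hg⟩ := h p hp hp2 hpr (MulAut.congr e.symm z) (by
    rw [← hz]
    exact MulEquiv.orderOf_eq (MulAut.congr e.symm) z) (fun s hs hsr => by
    have h1 := hfix (e s) (by
      have h2 : e ((MulAut.congr e.symm z) s) = e s := by rw [hs]
      rw [congr_apply, MulEquiv.symm_symm, MulEquiv.apply_symm_apply] at h2
      exact h2) (by rw [← map_pow, hsr, map_one])
    exact (map_eq_one_iff e e.injective).mp h1)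
  refine ⟨e g, ?_⟩
  rw [← congr_conj, ← hg]
  ext t
  rw [congr_apply, congr_apply, MulEquiv.symm_symm, MulEquiv.apply_symm_apply, MulEquiv.apply_symm_apply]

theorem NoBad.congr {r : ℕ} (e : S ≃* T) (h : NoBad r S) : NoBad r T := by
  intro A hA
  let f : MulAut T ≃* MulAut S := MulAut.congr e.symm
  have hfs : ∀ (a : MulAut T) (s : S), f a s = e.symm (a (e s)) := fun a s => rfl
  have hA' : ∀ a' ∈ A.map f.toMonoidHom, ∃ a ∈ A, f a = a' := fun a' h => h
  have hmap : ∀ (H : Subgroup S), (∀ a ∈ A.map f.toMonoidHom, ∀ h ∈ H, a h ∈ H) →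
      ∀ a ∈ A, ∀ h ∈ H.map e.toMonoidHom, a h ∈ H.map e.toMonoidHom := by
    rintro H hH a ha _ ⟨h, hh, rfl⟩
    refine ⟨f a h, hH _ ⟨a, ha, rfl⟩ h hh, ?_⟩
    change e (f a h) = a (e h)
    rw [hfs, MulEquiv.apply_symm_apply]
  have hne : ∀ H : Subgroup S, H ≠ ⊤ → H.map e.toMonoidHom ≠ ⊤ := by
    intro H hH h1
    apply hH
    rw [_root_.eq_top_iff]
    intro s _
    have h2 : e s ∈ H.map e.toMonoidHom := by rw [h1]; trivial
    obtain ⟨s', hs', h3⟩ := h2
    have h4 : s' = s := e.injective h3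
    rwa [← h4]
  refine h (A.map f.toMonoidHom) ⟨?_, ?_, ?_, ?_, ?_, ?_, ?_⟩
  · have := hA.nil
    exact Group.nilpotent_of_mulEquiv (A.equivMapOfInjective f.toMonoidHom f.injective)
  · intro s hs
    have h1 := hA.fix (e s) (fun a ha => by
      have h2 := hs (f a) ⟨a, ha, rfl⟩
      rw [hfs] at h2
      rw [← e.apply_symm_apply (a (e s)), h2])
    exact (map_eq_one_iff e e.injective).mp h1
  · rintro _ ⟨a, ha, rfl⟩ ⟨g, hg⟩
    have h1 := hA.inn a ha ⟨e g, by
      rw [← congr_conj, ← hg]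
      ext t
      rw [congr_apply]
      change a t = e (e.symm (a (e (e.symm t))))
      rw [MulEquiv.apply_symm_apply, MulEquiv.apply_symm_apply]⟩
    rw [h1, map_one]
  · intro H hH hinv
    have h1 := hA.sol (H.map e.toMonoidHom) (hne H hH) (hmap H hinv)
    exact Group.isSolvable_of_isSolvable_injective (f := (H.equivMapOfInjective e.toMonoidHom e.injective).toMonoidHom)
      (H.equivMapOfInjective e.toMonoidHom e.injective).injective
  · intro H N hH hHi hNi hNH hn x hx hxa
    have h1 := hA.quo (H.map e.toMonoidHom) (N.map e.toMonoidHom) (hne H hH) (hmap H hHi) (hmap N hNi)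
      (Subgroup.map_mono hNH) (by
        rintro _ ⟨y, hy, rfl⟩ _ ⟨n, hnn, rfl⟩
        refine ⟨y * n * y⁻¹, hn y hy n hnn, ?_⟩
        simp) (e x) ⟨x, hx, rfl⟩ (by
        intro a ha
        refine ⟨x⁻¹ * f a x, hxa _ ⟨a, ha, rfl⟩, ?_⟩
        change e (x⁻¹ * f a x) = _
        rw [map_mul, map_inv, hfs, MulEquiv.apply_symm_apply])
    obtain ⟨n, hn', h2⟩ := h1
    have h3 : n = x := e.injective h2
    rwa [← h3]
  · intro P hP hinv
    have h1 := hA.noP (P.map e.toMonoidHom) (hP.map e.toMonoidHom) (hmap P hinv)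
    rw [Subgroup.map_eq_bot_iff] at h1
    rw [eq_bot_iff]
    intro x hx
    have h2 : e x = 1 := h1 hx
    exact (map_eq_one_iff e e.injective).mp h2
  · rintro _ ⟨z, hz, rfl⟩ hz1 hzc s hs hsr
    have h1 := hA.cent z hz (fun h => hz1 (by rw [h, map_one])) (fun a ha => by
      have h2 := hzc (f a) ⟨a, ha, rfl⟩
      have h3 : f (a * z) = f (z * a) := by rw [map_mul, map_mul]; exact h2
      exact f.injective h3) (e s) (by
        have h2 : e.symm (z (e s)) = s := hs
        rw [← e.apply_symm_apply (z (e s)), h2]) (by rw [← map_pow, hsr, map_one])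
    exact (map_eq_one_iff e e.injective).mp h1

end Transport

/-! ### an odd prime -/

section Odd

variable {S : Type u} [Group S] [Finite S] {A : Subgroup (MulAut S)} {r : ℕ}

instance finite_mulAut : Finite (MulAut S) :=
  Finite.of_injective (fun f : MulAut S => (f : S → S)) DFunLike.coe_injective

/-- A finite nilpotent group has central elements of order `p` for each prime divisor `p` of its order. -/
theorem exists_central_orderOf {A : Type v} [Group A] [Finite A] (hA : Group.IsNilpotent A) {p : ℕ} [hp : Fact p.Prime]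
    (h : p ∣ Nat.card A) : ∃ z : A, orderOf z = p ∧ ∀ a, a * z = z * a := by
  obtain ⟨P⟩ : Nonempty (Sylow p A) := inferInstance
  have hPn : (P : Subgroup A).Normal := by
    have h1 := (Group.isNilpotent_of_finite_tfae (G := A)).out 0 3
    exact h1.mp hA p hp P
  have hP : (P : Subgroup A) ≠ ⊥ := by
    intro h1
    have h2 := P.dvd_card_of_dvd_card h
    rw [h1, Subgroup.card_bot] at h2
    exact hp.out.one_lt.ne' (Nat.dvd_one.mp h2)
  have hne := Cfsg.Agent.Lib.NormalAbelian.normal_inf_center_ne_bot (P : Subgroup A) hP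
  have hpg : IsPGroup p ((P : Subgroup A) ⊓ center A : Subgroup A) := P.2.to_le inf_le_left
  obtain ⟨k, hk⟩ := (IsPGroup.iff_card).mp hpg
  have hk0 : k ≠ 0 := by
    rintro rfl
    rw [pow_zero] at hk
    exact hne (Subgroup.card_eq_one.mp hk)
  obtain ⟨z, hz⟩ := exists_prime_orderOf_dvd_card' (G := ((P : Subgroup A) ⊓ center A : Subgroup A)) p
    (by rw [hk]; exact dvd_pow_self p hk0)
  refine ⟨z, (Subgroup.orderOf_coe z).trans hz, fun a => ?_⟩
  exact mem_center_iff.mp z.2.2 a

/-- `A` is not a `2`-group; an odd prime `p ≠ r` and a central element of order `p`. -/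
theorem Bad.exists_odd (h : Bad r S A) (hr : r.Prime) (h2 : 2 ∣ Nat.card S) (hrS : r ∣ Nat.card S) :
    ∃ p : ℕ, p.Prime ∧ p ≠ 2 ∧ p ≠ r ∧ ∃ z ∈ A, orderOf z = p ∧ ∀ a ∈ A, a * z = z * a := by
  have hn2 : ¬ IsPGroup 2 A := by
    intro hA
    have : Fact (Nat.Prime 2) := ⟨Nat.prime_two⟩
    have h1 := hA.card_modEq_card_fixedPoints S
    have h3 : Nat.card (MulAction.fixedPoints A S) = 1 := by
      rw [Nat.card_eq_one_iff_unique]
      refine ⟨⟨?_⟩, ⟨⟨1, fun a => map_one (a : MulAut S)⟩⟩⟩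
      rintro ⟨x, hx⟩ ⟨y, hy⟩
      have hx1 := h.fix x (fun a ha => hx ⟨a, ha⟩)
      have hy1 := h.fix y (fun a ha => hy ⟨a, ha⟩)
      exact Subtype.ext (hx1.trans hy1.symm)
    rw [h3] at h1
    have h4 : Nat.card S % 2 = 0 := Nat.mod_eq_zero_of_dvd h2
    unfold Nat.ModEq at h1
    omega
  obtain ⟨p, hp, hpA, hp2⟩ : ∃ p : ℕ, p.Prime ∧ p ∣ Nat.card A ∧ p ≠ 2 := by
    by_contra hcon
    push Not at hcon
    apply hn2
    rw [IsPGroup.iff_card]
    exact ⟨_, Nat.eq_prime_pow_of_unique_prime_dvd Nat.card_pos.ne' (fun {d} hd hdA => hcon d hd hdA)⟩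
  have : Fact p.Prime := ⟨hp⟩
  obtain ⟨z, hz, hzc⟩ := exists_central_orderOf h.nil hpA
  have hzo : orderOf (z : MulAut S) = p := by rw [Subgroup.orderOf_coe]; exact hz
  have hz1 : (z : MulAut S) ≠ 1 := by
    intro h1
    rw [h1, orderOf_one] at hzo
    exact hp.one_lt.ne hzo
  have hzc' : ∀ a ∈ A, a * (z : MulAut S) = z * a := fun a ha => congrArg Subtype.val (hzc ⟨a, ha⟩)
  refine ⟨p, hp, hp2, ?_, z, z.2, hzo, hzc'⟩
  rintro rfl
  -- the fixed points of `z`
  have hZ : IsPGroup p (zpowers (z : MulAut S)) := by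
    apply IsPGroup.of_card (n := 1)
    rw [Nat.card_zpowers, hzo, pow_one]
  have h1 := hZ.card_modEq_card_fixedPoints S
  let C : Subgroup S :=
    { carrier := {s | (z : MulAut S) s = s}
      mul_mem' := fun {a b} ha hb => by
        change (z : MulAut S) (a * b) = a * b
        rw [map_mul, show (z : MulAut S) a = a from ha, show (z : MulAut S) b = b from hb]
      one_mem' := map_one _
      inv_mem' := fun {a} ha => by
        change (z : MulAut S) a⁻¹ = a⁻¹
        rw [map_inv, show (z : MulAut S) a = a from ha] }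
  have hC : Nat.card (MulAction.fixedPoints (zpowers (z : MulAut S)) S) = Nat.card C := by
    refine Nat.card_congr (Equiv.setCongr ?_)
    ext s
    constructor
    · intro hs
      exact hs ⟨z, mem_zpowers _⟩
    · rintro hs ⟨y, hy⟩
      have h3 : zpowers (z : MulAut S) ≤ MulAction.stabilizer (MulAut S) s := by
        rw [zpowers_le]
        exact hs
      exact h3 hy
  have h3 : p ∣ Nat.card C := by
    rw [← hC]
    exact (Nat.modEq_zero_iff_dvd.mp (h1.symm.trans (Nat.modEq_zero_iff_dvd.mpr hrS)))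
  obtain ⟨c, hc⟩ := exists_prime_orderOf_dvd_card' (G := C) p h3
  have h4 := h.cent z z.2 hz1 hzc' c c.2 (by
    rw [← Subgroup.coe_pow, ← hc, pow_orderOf_eq_one, Subgroup.coe_one])
  have h5 : c = 1 := Subtype.ext h4
  rw [h5, orderOf_one] at hc
  exact hp.one_lt.ne hc

theorem noBad_of_oddFix (hr : r.Prime) (h2 : 2 ∣ Nat.card S) (hrS : r ∣ Nat.card S) (h : OddFix r S) :
    NoBad r S := by
  intro A hA
  obtain ⟨p, hp, hp2, hpr, z, hz, hzo, hzc⟩ := hA.exists_odd hr h2 hrS
  have hz1 : z ≠ 1 := by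
    rintro rfl
    rw [orderOf_one] at hzo
    exact hp.one_lt.ne hzo
  exact hz1 (hA.inn z hz (h p hp hp2 hpr z hzo (hA.cent z hz hz1 hzc)))

/-- Cyclic groups of automorphisms. -/
theorem Bad.not_isCyclic (hr : r.Prime) (hrS : r ∣ Nat.card S) (h : Bad r S A) : ¬ IsCyclic A := by
  rintro ⟨a, ha⟩
  have : Fact r.Prime := ⟨hr⟩
  have hfix : ∀ s : S, (a : MulAut S) s = s → s = 1 := by
    intro s hs
    refine h.fix s fun b hb => ?_
    obtain ⟨k, hk⟩ := mem_zpowers_iff.mp (ha ⟨b, hb⟩)
    have h3 : zpowers (a : MulAut S) ≤ MulAction.stabilizer (MulAut S) s := by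
      rw [zpowers_le]
      exact hs
    have h4 : b ∈ zpowers (a : MulAut S) := ⟨k, by
      change (a : MulAut S) ^ k = b
      rw [← Subgroup.coe_zpow, hk]⟩
    exact h3 h4
  have hinj : Function.Injective (fun x : S => x⁻¹ * (a : MulAut S) x) := by
    intro x y hxy
    have h1 : x⁻¹ * (a : MulAut S) x = y⁻¹ * (a : MulAut S) y := hxy
    have h2 : (a : MulAut S) (y * x⁻¹) = y * x⁻¹ := by
      rw [map_mul, map_inv]
      have h3 : (a : MulAut S) y = y * (x⁻¹ * (a : MulAut S) x) := by rw [h1]; group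
      rw [h3]; group
    have h3 := hfix _ h2
    rw [mul_inv_eq_one] at h3
    exact h3.symm
  have hsurj := Finite.surjective_of_injective hinj
  obtain ⟨P⟩ : Nonempty (Sylow r S) := inferInstance
  obtain ⟨g, hg⟩ := MulAction.exists_smul_eq S ((a : MulAut S) • P) P
  obtain ⟨x, hx⟩ := hsurj g
  have hx' : x⁻¹ * (a : MulAut S) x = g := hx
  -- `x P x⁻¹` is `a`-invariant
  have h1 : (a : MulAut S) • (x • P) = x • P := by
    have h2 : (a : MulAut S) • (x • P) = ((a : MulAut S) x) • ((a : MulAut S) • P) := by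
      apply Sylow.ext
      apply SetLike.coe_injective
      ext s
      constructor
      · rintro ⟨_, ⟨y, hy, rfl⟩, rfl⟩
        exact ⟨_, ⟨y, hy, rfl⟩, by
          change (a : MulAut S) x * (a : MulAut S) y * ((a : MulAut S) x)⁻¹ = (a : MulAut S) (x * y * x⁻¹)
          rw [map_mul, map_mul, map_inv]⟩
      · rintro ⟨_, ⟨y, hy, rfl⟩, rfl⟩
        exact ⟨_, ⟨y, hy, rfl⟩, by
          change (a : MulAut S) (x * y * x⁻¹) = (a : MulAut S) x * (a : MulAut S) y * ((a : MulAut S) x)⁻¹
          rw [map_mul, map_mul, map_inv]⟩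
    have h3 : (a : MulAut S) x = x * g := by rw [← hx']; group
    rw [h2, h3, mul_smul, hg]
  have hA : ∀ b ∈ A, b • (x • P) = x • P := by
    intro b hb
    obtain ⟨k, hk⟩ := mem_zpowers_iff.mp (ha ⟨b, hb⟩)
    have h3 : zpowers (a : MulAut S) ≤ MulAction.stabilizer (MulAut S) (x • P) := by
      rw [zpowers_le]
      exact h1
    have h4 : b ∈ zpowers (a : MulAut S) := ⟨k, by
      change (a : MulAut S) ^ k = b
      rw [← Subgroup.coe_zpow, hk]⟩
    exact h3 h4
  have h5 := h.noP ((x • P : Sylow r S) : Subgroup S) (x • P).2 (by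
    intro b hb y hy
    have h6 := hA b hb
    have h7 : b y ∈ ((b • (x • P) : Sylow r S) : Subgroup S) := ⟨y, hy, rfl⟩
    rwa [h6] at h7)
  have h6 := (x • P).dvd_card_of_dvd_card hrS
  rw [h5, Subgroup.card_bot] at h6
  exact hr.one_lt.ne' (Nat.dvd_one.mp h6)

/-- If all bad groups of automorphisms are cyclic, there are none. -/
theorem noBad_of_cyclic (hr : r.Prime) (hrS : r ∣ Nat.card S)
    (h : ∀ A : Subgroup (MulAut S), Bad r S A → IsCyclic A) : NoBad r S :=
  fun A hA => hA.not_isCyclic hr hrS (h A hA)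

end Odd

end Cfsg.Agent.H523
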