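import Mathlib
import Cfsg.Agent.H523.FpfBad

/-!
# Groups of automorphisms meeting `Inn S` trivially are cyclic if `Out S` is cyclic (helper523)

* `CycOut S` : modulo inner automorphisms all automorphisms are powers of one of them;
* `CycOut.isCyclic`, `CycOut.noBad`;
* `cycOut_of_hom`, `cycOut_of_rel` : criteria.
-/

set_option autoImplicit false

namespace Cfsg.Agent.H523

open Subgroup

universe u v

theorem conj_range_normal (S : Type u) [Group S] : ((MulAut.conj : S →* MulAut S).range).Normal := by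
  refine ⟨?_⟩
  rintro _ ⟨k, rfl⟩ α
  refine ⟨α k, ?_⟩
  ext x
  simp [MulAut.conj_apply, MulAut.mul_apply]

/-- Modulo inner automorphisms all automorphisms are powers of one of them. -/
def CycOut (S : Type u) [Group S] : Prop :=
  ∃ β : MulAut S, ∀ α : MulAut S, ∃ (g : S) (k : ℤ), α = MulAut.conj g * β ^ k

theorem CycOut.congr {S : Type u} {T : Type v} [Group S] [Group T] (e : S ≃* T) (h : CycOut S) : CycOut T := by
  obtain ⟨β, h⟩ := h
  refine ⟨MulAut.congr e β, fun α => ?_⟩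
  obtain ⟨g, k, hg⟩ := h ((MulAut.congr e).symm α)
  refine ⟨e g, k, ?_⟩
  rw [← congr_conj, ← map_zpow, ← map_mul, ← hg]
  exact ((MulAut.congr e).apply_symm_apply α).symm

/-- A group of automorphisms meeting `Inn S` trivially is cyclic. -/
theorem CycOut.isCyclic {S : Type u} [Group S] (h : CycOut S)
    {A : Subgroup (MulAut S)} (hA : ∀ a ∈ A, (∃ g : S, a = MulAut.conj g) → a = 1) : IsCyclic A := by
  obtain ⟨β, h⟩ := h
  have hn := conj_range_normal S
  have hc : IsCyclic (MulAut S ⧸ (MulAut.conj : S →* MulAut S).range) := by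
    refine ⟨⟨(β : MulAut S ⧸ (MulAut.conj : S →* MulAut S).range), fun x => ?_⟩⟩
    induction x using QuotientGroup.induction_on with
    | _ α =>
    obtain ⟨g, k, rfl⟩ := h α
    refine ⟨k, ?_⟩
    have h1 : ((MulAut.conj g : MulAut S) : MulAut S ⧸ (MulAut.conj : S →* MulAut S).range) = 1 :=
      (QuotientGroup.eq_one_iff _).mpr ⟨g, rfl⟩
    change (β : MulAut S ⧸ (MulAut.conj : S →* MulAut S).range) ^ k = _
    rw [QuotientGroup.mk_mul, h1, one_mul, QuotientGroup.mk_zpow]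
  refine isCyclic_of_injective ((QuotientGroup.mk' (MulAut.conj : S →* MulAut S).range).comp A.subtype) ?_
  rw [injective_iff_map_eq_one]
  intro a ha
  have h1 : (a : MulAut S) ∈ (MulAut.conj : S →* MulAut S).range := (QuotientGroup.eq_one_iff _).mp ha
  obtain ⟨g, hg⟩ := h1
  exact Subtype.ext (hA a a.2 ⟨g, hg.symm⟩)

theorem CycOut.noBad {S : Type u} [Group S] [Finite S] (h : CycOut S) {r : ℕ} (hr : r.Prime)
    (hrS : r ∣ Nat.card S) : NoBad r S :=
  noBad_of_cyclic hr hrS fun _ hA => h.isCyclic hA.inn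

/-- Automorphisms modulo `Inn S` described by a relation which is a homomorphism onto a finite cyclic group. -/
theorem cycOut_of_rel {S : Type u} [Group S] {C : Type v} [Group C] [Finite C] [IsCyclic C]
    (Rel : MulAut S → C → Prop) (h1 : ∀ α : MulAut S, ∃ (g : S) (c : C), Rel (MulAut.conj g * α) c)
    (h2 : ∀ β c β' c', Rel β c → Rel β' c' → Rel (β * β') (c * c')) (h3 : ∀ c, ∃ β, Rel β c)
    (h4 : ∀ β, Rel β 1 → ∃ g : S, β = MulAut.conj g) : CycOut S := by
  obtain ⟨c, hc⟩ := IsCyclic.exists_generator (α := C)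
  obtain ⟨β, hβ⟩ := h3 c
  have hpow : ∀ k : ℕ, Rel (β ^ (k + 1)) (c ^ (k + 1)) := by
    intro k
    induction k with
    | zero => simpa using hβ
    | succ k ih =>
      rw [pow_succ β, pow_succ c]
      exact h2 _ _ _ _ ih hβ
  refine ⟨β, fun α => ?_⟩
  obtain ⟨g, d, hd⟩ := h1 α
  obtain ⟨k, hk⟩ : ∃ k : ℕ, c ^ (k + 1) = d⁻¹ := by
    obtain ⟨j, hj⟩ := (mem_powers_iff_mem_zpowers.mpr (hc d⁻¹))
    have hj' : c ^ j = d⁻¹ := hj
    have ho : 0 < orderOf c := orderOf_pos c
    refine ⟨j + orderOf c - 1, ?_⟩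
    have e : j + orderOf c - 1 + 1 = j + orderOf c := by omega
    rw [e, pow_add, pow_orderOf_eq_one, mul_one, hj']
  have h5 := h2 _ _ _ _ hd (hpow k)
  rw [hk, mul_inv_cancel] at h5
  obtain ⟨g', hg'⟩ := h4 _ h5
  refine ⟨g⁻¹ * g', -((k : ℤ) + 1), ?_⟩
  rw [map_mul, ← hg', map_inv, zpow_neg]
  have e : β ^ ((k : ℤ) + 1) = β ^ (k + 1) := by
    rw [← zpow_natCast]; push_cast; rfl
  rw [e]
  group

/-- `Aut S = Inn S · f(C)`, `C` cyclic. -/
theorem cycOut_of_hom {S : Type u} [Group S] {C : Type v} [Group C] [IsCyclic C] (f : C →* MulAut S)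
    (h : ∀ α : MulAut S, ∃ (g : S) (c : C), α = MulAut.conj g * f c) : CycOut S := by
  obtain ⟨c, hc⟩ := IsCyclic.exists_generator (α := C)
  refine ⟨f c, fun α => ?_⟩
  obtain ⟨g, d, hd⟩ := h α
  obtain ⟨k, hk⟩ := hc d
  refine ⟨g, k, ?_⟩
  rw [hd, ← hk, map_zpow]

/-- `Aut S = Inn S · f(C)`, `C` finite cyclic, `f` multiplicative. -/
theorem cycOut_of_map {S : Type u} [Group S] {C : Type v} [Group C] [IsCyclic C] (f : C → MulAut S)
    (hf : ∀ a b, f (a * b) = f a * f b) (h : ∀ α : MulAut S, ∃ (g : S) (c : C), α = MulAut.conj g * f c) : CycOut S :=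
  cycOut_of_hom (MonoidHom.mk' f hf) h

end Cfsg.Agent.H523
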