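import Mathlib
import Cfsg.Agent.H523.FpfCyc
import Cfsg.Agent.H71.FldAut
import Cfsg.Agent.H70.SzAutThm
import Cfsg.Agent.H69.OutTwD4
import Cfsg.Agent.LieRecognition.FieldSemilinear

/-!
# `CycOut` for the families `Sz`, `²G₂`, `²F₄`, `³D₄` (helper523)
-/

set_option autoImplicit false
set_option linter.unusedSectionVars false

namespace Cfsg.Agent.H523

universe u v

section

variable {S : Type u} [Group S]

theorem cycOut_suzuki (h : Cfsg.Lie.IsoSuzuki S) : CycOut S := by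
  obtain ⟨F, _, _, m, hm, hF, ⟨e⟩⟩ := h
  have := LieRecognition.FieldSemilinear.isCyclic_ringAut F
  refine CycOut.congr e.symm (cycOut_of_hom (H70.SzOut.fieldAut (LieRecognition.SzMatrix.good hF)) ?_)
  exact fun α => H70.SzAutThm.exists_conj_field hm hF α

theorem cycOut_ree (h : Cfsg.Lie.IsoRee S) : CycOut S := by
  obtain ⟨K, _, _, m, hm, hK, ⟨e⟩⟩ := h
  have := LieRecognition.FieldSemilinear.isCyclic_ringAut K
  refine CycOut.congr e.symm (cycOut_of_map (fun τ : K ≃+* K => S2127.fld τ (3 ^ m))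
    (fun a b => H71.FldAut.fldG_mul a b _) ?_)
  exact fun α => H71.FldAut.ree_aut hm hK α

theorem cycOut_twF4 (h : Cfsg.Lie.Iso2F4 S) : CycOut S := by
  obtain ⟨K, _, _, m, hm, hK, ⟨e⟩⟩ := h
  have := LieRecognition.FieldSemilinear.isCyclic_ringAut K
  refine CycOut.congr e.symm (cycOut_of_map (fun τ : K ≃+* K => S2128.fld τ (2 ^ m))
    (fun a b => H71.FldAut.fldF_mul a b _) ?_)
  exact fun α => H71.FldAut.twF4_aut hm hK α

end

/-! ### `³D₄` -/

namespace TwD4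

open CoxeterSystem Cfsg.Agent.ChevalleyStructure.CoxeterGeom Cfsg.Agent.Tits.Roots Cfsg.Agent.Tits.Core
  Cfsg.Agent.Tits.Exchange Cfsg.Agent.Nodes.Reps Cfsg.Agent.Nodes.BNOf Cfsg.Agent.Nodes.StabComb
  Cfsg.Agent.Nodes.Bruhat Cfsg.Agent.Nodes.OppDec Cfsg.Agent.Nodes.RGDTwGen Cfsg.Agent.Nodes.RGDChev
  Cfsg.Agent.Nodes.RGDFold Cfsg.Agent.Nodes.RGDFoldSL
open Cfsg.Agent.KFacts.RgdOpp Cfsg.Agent.KFacts.RgdAut Cfsg.Agent.KFacts.RgdDiag Cfsg.Agent.KFacts.RgdRigid
  Cfsg.Agent.KFacts.RgdField Cfsg.Agent.KFacts.RgdTau Cfsg.Agent.KFacts.RgdNodes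
open Cfsg.Lie Cfsg.Agent.ChevalleyStructure Cfsg.Agent.ChevalleyStructure.Elts Cfsg.Agent.ChevStructure.FieldMap
open Cfsg.Agent.ChevalleyStructure.SL2Hom (up lo)
open Cfsg.Agent.KFacts.TwDFour.Out
open Cfsg.Agent.Nodes.RGDTwD4 Cfsg.Agent.Nodes.RGDTwNode.D4
open Cfsg.Agent.ParSys.Fam.D4 (hf)
open Cfsg.Agent.CpAut.RgdTwStd
open Cfsg.Agent.H69.OutCount Cfsg.Agent.H69.OutTwD4

variable {K : Type u} [Field K] [Fintype K] {q : ℕ}

theorem cycOut (hq : IsPrimePow q) (hK : Fintype.card K = q ^ 3) (p : ℕ) [Fact p.Prime] [CharP K p] :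
    CycOut ↥(twistedD4 K q) := by
  obtain ⟨φ, hφ⟩ := D4Fixed.exists_frob hq hK
  let cs : CoxeterSystem CoxeterMatrix.G₂ CoxeterMatrix.G₂.Group := CoxeterMatrix.G₂.toCoxeterSystem
  have hfin : Finite CoxeterMatrix.G₂.Group := finiteW cs
  have R := Cfsg.Agent.Nodes.RGDTwD4.rgd cs hK hφ p
  have hG1 : RGD.Sup (X φ q) {x | IsRoot cs isCartan x} = ⊤ := G1_eq_top cs hK hφ
  have hC : IsCyclic (K ≃+* K) := LieRecognition.FieldSemilinear.isCyclic_ringAut K
  have hCf : Finite (K ≃+* K) := Finite.of_injective (fun f : K ≃+* K => (f : K → K)) DFunLike.coe_injective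
  have hT := card_T hq hK
  -- the kernel
  have h2 : Nat.card {β : MulAut ↥(twistedD4 K q) // DTau hφ hK β 1} ≤ Nat.card ↥(T K q) := by
    refine le_trans (card_scalar_le R hG1 (coordD hφ hK) (Q := fun β => DTau hφ hK β 1) fun β S => ⟨S.diag, fun i => ?_⟩) ?_
    · have hS : NTau (T K q) (X φ q) (chD hφ hK) β 1 := ⟨S.diag, fun i t ht => Subtype.ext (S.char i t ht)⟩
      obtain ⟨c, hc, e⟩ := NTau.semi (coordD hφ hK) hS i
      exact ⟨c, hc, fun a => e a⟩
    · rw [hT, Fin.prod_univ_two, mul_comm]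
      have e1 : Nat.card (KD φ 1) = q ^ 3 := by
        rw [F3_eq_top hK hφ, ← hK, ← Nat.card_eq_fintype_card]
        exact Nat.card_congr Subfield.topEquiv.toEquiv
      have e0 : Nat.card (KD φ 0) - 1 = q - 1 := by
        rw [← D4H1.card_fixed hq.one_lt hK hφ, ← Nat.card_units]
        have key : ∀ b : (KD φ 0), φ (b : K) = b := fun b => (mem_Fx.1 b.2)
        refine Nat.card_congr
          { toFun := fun b => ⟨Units.map (KD φ 0).subtype.toMonoidHom b, key b⟩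
            invFun := fun b => Units.mk0 ⟨(b.1 : K), mem_Fx.2 b.2⟩ (fun h => b.1.ne_zero (congrArg Subtype.val h))
            left_inv := fun b => Units.ext rfl
            right_inv := fun b => Subtype.ext (Units.ext rfl) }
      rw [e0, e1]
  have hinj : Function.Injective (fun t : ↥(T K q) =>
      (⟨MulAut.conj t.1, dtau_conj hφ hK cs p t.2⟩ : {β : MulAut ↥(twistedD4 K q) // DTau hφ hK β 1})) := by
    intro s t hst
    have h4 : MulAut.conj s.1 = MulAut.conj t.1 := congrArg Subtype.val hst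
    apply Subtype.ext
    have h5 : s.1⁻¹ * t.1 ∈ Subgroup.center ↥(twistedD4 K q) := by
      rw [Subgroup.mem_center_iff]
      intro y
      have h6 := DFunLike.congr_fun h4 y
      rw [MulAut.conj_apply, MulAut.conj_apply] at h6
      have h7 : y * (s.1⁻¹ * t.1) = s.1⁻¹ * (s.1 * y * s.1⁻¹) * t.1 := by group
      rw [h7, h6]; group
    rw [center_eq_bot hq hK, Subgroup.mem_bot] at h5
    exact inv_mul_eq_one.1 h5
  have hfin2 : Finite (MulAut ↥(twistedD4 K q)) :=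
    Finite.of_injective (fun f : MulAut ↥(twistedD4 K q) => (f : ↥(twistedD4 K q) → ↥(twistedD4 K q)))
      DFunLike.coe_injective
  have hbij := hinj.bijective_of_nat_card_le h2
  refine cycOut_of_rel (C := K ≃+* K) (DTau hφ hK) (fun α => ?_) (fun β τ β' τ' S S' => S.mul hφ hK S')
    (fun τ => ⟨st q τ, dtau_st hφ hK τ cs p⟩) (fun β hβ => ?_)
  · obtain ⟨g, σ, D⟩ := exists_diag_conj R hG1 α
    have hσ : σ = 1 := by
      apply perm_G2 σ
      intro h3
      have h4 := Diag.card_eq D 0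
      rw [h3] at h4
      exact card_ne hφ hK hq.one_lt h4
    rw [hσ] at D
    obtain ⟨τ, hτ⟩ := exists_dtau hφ hK cs p D
    exact ⟨g, τ, hτ⟩
  · obtain ⟨t, ht⟩ := hbij.2 ⟨β, hβ⟩
    exact ⟨t.1, (congrArg Subtype.val ht).symm⟩

end TwD4

end Cfsg.Agent.H523
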