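import Cfsg.Agent.H523.DspEnd
import Cfsg.Agent.H523.DspPath

/-!
# Checked tables of roots
-/

set_option autoImplicit false
set_option linter.unusedSectionVars false
set_option linter.unusedVariables false

namespace Cfsg.Agent.H523.DspTab

open CoxeterSystem Cfsg.Agent.ChevalleyStructure.CoxeterGeom Cfsg.Agent.Tits.Roots Cfsg.Agent.Tits.Core
  Cfsg.Agent.Tits.RootComb Cfsg.Agent.Nodes.Comb Cfsg.Agent.Nodes.Reps Cfsg.Agent.Nodes.BNOf Cfsg.Agent.Nodes.BNOf.RGD
  Cfsg.Agent.Nodes.LeviDec Cfsg.Agent.Nodes.Bruhat Cfsg.Agent.Nodes.StabComb Cfsg.Agent.Nodes.MuSq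
  Cfsg.Agent.Nodes.Coroot Cfsg.Agent.H523.DspNF Cfsg.Agent.Nodes Cfsg.Agent.H523.DspAlg Cfsg.Agent.H523.DspNode
  Cfsg.Agent.H81.PJTab Cfsg.Agent.H523.DspPath Cfsg.Agent.H523.Dsp

/-- the pairing -/
def prL (Al : List (List ℤ)) (v : List ℤ) (j : ℕ) : ℤ := (List.zipWith (· * ·) (Al.getD j []) v).sum

/-- the reflection -/
def rfL (Al : List (List ℤ)) (v : List ℤ) (j : ℕ) : List ℤ := v.set j (v.getD j 0 - prL Al v j)

theorem prod_pow {α : Type*} (q : ℕ) (f : α → ℕ) (t : List α) : (t.map fun v => q ^ f v).prod = q ^ (t.map f).sum := by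
  induction t with
  | nil => simp
  | cons a t ih => rw [List.map_cons, List.prod_cons, ih, List.map_cons, List.sum_cons, pow_add]

/-- a checked table of positive roots -/
structure RT (l : ℕ) (Al : List (List ℤ)) (L : List (List ℤ)) (wt : List ℤ → ℕ) (w : Fin l → ℕ) : Prop where
  nodup : L.Nodup
  len : ∀ v ∈ L, v.length = l
  nn : ∀ v ∈ L, ∀ x ∈ v, 0 ≤ x
  base : ∀ i : Fin l, ei l i ∈ L ∧ wt (ei l i) = w i
  step : ∀ v ∈ L, ∀ j : Fin l, v = ei l j ∨ (rfL Al v j ∈ L ∧ wt (rfL Al v j) = wt v)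
  desc : ∀ v ∈ L, (∃ i : Fin l, v = ei l i) ∨ ∃ j : Fin l, rfL Al v j ∈ L ∧ (rfL Al v j).sum < v.sum

section

variable {l : ℕ} {Al : List (List ℤ)} {A : Fin l → Fin l → ℤ}

theorem toF_apply {v : List ℤ} (hv : v.length = l) (k : Fin l) : toF l v k = v[(k : ℕ)]'(by rw [hv]; exact k.2) := by
  unfold toF
  rw [List.getD_eq_getElem _ _ (by rw [hv]; exact k.2)]

theorem pairing_toF (hS : Sh l Al) (hA : ∀ i j : Fin l, (Al.getD i []).getD j 0 = A i j) {v : List ℤ}
    (hv : v.length = l) (j : Fin l) : pairing A j (toF l v) = prL Al v j := by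
  unfold pairing prL
  have h1 : List.zipWith (· * ·) (Al.getD j []) v = List.ofFn fun k : Fin l => A j k * toF l v k := by
    refine List.ext_getElem (by rw [List.length_zipWith, List.length_ofFn, hS.row, hv, min_self]) fun i h1 h2 => ?_
    rw [List.getElem_zipWith, List.getElem_ofFn]
    have h3 : i < l := by rwa [List.length_ofFn] at h2
    rw [← hA j ⟨i, h3⟩, toF_apply hv]
    congr 1
    exact (List.getD_eq_getElem _ _ (by rw [hS.row]; exact h3)).symm
  rw [h1, List.sum_ofFn]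

theorem len_rfL {v : List ℤ} (j : ℕ) : (rfL Al v j).length = v.length := List.length_set

theorem rep_toF {W : Type*} [Group W] {M : CoxeterMatrix (Fin l)} (cs : CoxeterSystem M W) (h : IsCartan M A)
    (hS : Sh l Al) (hA : ∀ i j : Fin l, (Al.getD i []).getD j 0 = A i j) {v : List ℤ}
    (hv : v.length = l) (j : Fin l) : rep cs h (cs.simple j) (toF l v) = toF l (rfL Al v j) := by
  rw [rep_simple_eq, pairing_toF hS hA hv]
  funext k
  rw [toF_apply (by rw [len_rfL, hv]) k, Pi.sub_apply, Pi.smul_apply, toF_apply hv k]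
  unfold rfL
  rw [List.getElem_set]
  by_cases hk : k = j
  · subst hk
    rw [sr_self, if_pos rfl, List.getD_eq_getElem _ _ (by rw [hv]; exact k.2)]
    simp
  · rw [sr_ne hk, if_neg (fun e => hk (Fin.ext e.symm)), smul_zero, sub_zero]

theorem toF_ei_sr (i : Fin l) : toF l (ei l i) = sr i := by rw [toF_ei]; rfl

end

section

variable {l : ℕ} {Al : List (List ℤ)} {A : Fin l → Fin l → ℤ} {L : List (List ℤ)} {wt : List ℤ → ℕ} {w : Fin l → ℕ}
  {W : Type*} [Group W] {M : CoxeterMatrix (Fin l)} (cs : CoxeterSystem M W) (h : IsCartan M A)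
  (hS : Sh l Al) (hA : ∀ i j : Fin l, (Al.getD i []).getD j 0 = A i j) (hT : RT l Al L wt w)

include hS hA hT

theorem spec {x : Fin l → ℤ} (hx : IsRoot cs h x) : ∃ v ∈ L, x = toF l v ∨ x = - toF l v := by
  obtain ⟨w, i, rfl⟩ := hx
  obtain ⟨ω, rfl⟩ := cs.wordProd_surjective w
  induction ω with
  | nil =>
    refine ⟨ei l i, (hT.base i).1, Or.inl ?_⟩
    rw [wordProd_nil, map_one, Module.End.one_apply, toF_ei_sr]
  | cons j ω ih =>
    obtain ⟨v, hv, h1⟩ := ih
    rw [wordProd_cons, rep_mul_apply]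
    rcases hT.step v hv j with h2 | ⟨h2, -⟩
    · refine ⟨v, hv, ?_⟩
      rcases h1 with h1 | h1
      · right
        rw [h1, h2, toF_ei_sr, rep_simple_sr]
      · left
        rw [h1, h2, toF_ei_sr, map_neg, rep_simple_sr, neg_neg]
    · refine ⟨_, h2, ?_⟩
      rcases h1 with h1 | h1
      · left
        rw [h1, rep_toF cs h hS hA (hT.len v hv)]
      · right
        rw [h1, map_neg, rep_toF cs h hS hA (hT.len v hv)]

theorem isRoot_toF : ∀ v ∈ L, IsRoot cs h (toF l v) := by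
  have key : ∀ (n : ℕ) (v : List ℤ), v ∈ L → v.sum.toNat ≤ n → IsRoot cs h (toF l v) := by
    intro n
    induction n with
    | zero =>
      intro v hv h0
      rcases hT.desc v hv with ⟨i, rfl⟩ | ⟨j, h1, h2⟩
      · rw [toF_ei_sr]; exact isRoot_sr cs h i
      · exfalso
        have h3 : 0 ≤ (rfL Al v j).sum := List.sum_nonneg (hT.nn _ h1)
        omega
    | succ n ih =>
      intro v hv h0
      rcases hT.desc v hv with ⟨i, rfl⟩ | ⟨j, h1, h2⟩
      · rw [toF_ei_sr]; exact isRoot_sr cs h i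
      · have h3 : 0 ≤ (rfL Al v j).sum := List.sum_nonneg (hT.nn _ h1)
        have h4 := (ih _ h1 (by omega)).act (cs.simple j)
        rw [← rep_toF cs h hS hA (hT.len v hv), ← rep_mul_apply, cs.simple_mul_simple_self, map_one,
          Module.End.one_apply] at h4
        exact h4
  intro v hv
  exact key _ v hv le_rfl

theorem toF_nonneg {v : List ℤ} (hv : v ∈ L) : 0 ≤ toF l v := by
  intro k
  rw [toF_apply (hT.len v hv)]
  exact hT.nn v hv _ (List.getElem_mem _)

/-- positive roots -/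
theorem spec_pos {x : Fin l → ℤ} (hx : IsRoot cs h x) {i : Fin l} (hi : 0 < x i) : ∃ v ∈ L, x = toF l v := by
  obtain ⟨v, hv, h1 | h1⟩ := spec cs h hS hA hT hx
  · exact ⟨v, hv, h1⟩
  · exfalso
    have h2 := toF_nonneg hS hA hT hv i
    rw [h1, Pi.neg_apply] at hi
    simp only [Pi.zero_apply] at h2
    omega

/-- orbits of parabolic subgroups -/
theorem orb_of {i₀ : Fin l} {P : List ℤ → Bool}
    (hP : ∀ v ∈ L, P v = true → v = ei l i₀ ∨ ∃ j : Fin l, j ≠ i₀ ∧ P (rfL Al v j) = true ∧ rfL Al v j ∈ L ∧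
      (rfL Al v j).sum < v.sum) : ∀ v ∈ L, P v = true → toF l v ∈ Orb cs h i₀ := by
  have key : ∀ (n : ℕ) (v : List ℤ), v ∈ L → P v = true → v.sum.toNat ≤ n → toF l v ∈ Orb cs h i₀ := by
    intro n
    induction n with
    | zero =>
      intro v hv hPv h0
      rcases hP v hv hPv with rfl | ⟨j, -, -, h1, h2⟩
      · exact ⟨1, one_mem _, by rw [toF_ei_sr, map_one, Module.End.one_apply]⟩
      · exfalso
        have h3 : 0 ≤ (rfL Al v j).sum := List.sum_nonneg (hT.nn _ h1)
        omega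
    | succ n ih =>
      intro v hv hPv h0
      rcases hP v hv hPv with rfl | ⟨j, hj, hPj, h1, h2⟩
      · exact ⟨1, one_mem _, by rw [toF_ei_sr, map_one, Module.End.one_apply]⟩
      · have h3 : 0 ≤ (rfL Al v j).sum := List.sum_nonneg (hT.nn _ h1)
        obtain ⟨u, hu, h4⟩ := ih _ h1 hPj (by omega)
        refine ⟨cs.simple j * u, mul_mem (Subgroup.subset_closure ⟨j, hj, rfl⟩) hu, ?_⟩
        rw [rep_mul_apply, ← h4, ← rep_toF cs h hS hA (hT.len v hv), ← rep_mul_apply, cs.simple_mul_simple_self,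
          map_one, Module.End.one_apply]
  intro v hv hPv
  exact key _ v hv hPv le_rfl

variable {Y : Type*} [Group Y] {p : ℕ} {T : Subgroup Y} {n : Fin l → Y} {X : (Fin l → ℤ) → Subgroup Y} [Finite W]

/-- the orders of the root groups -/
theorem card_X_of (R : RGD cs h p T n X) {q : ℕ} (hq : ∀ i, Nat.card (X (sr i)) = q ^ w i) :
    ∀ v ∈ L, Nat.card (X (toF l v)) = q ^ wt v := by
  have key : ∀ (n : ℕ) (v : List ℤ), v ∈ L → v.sum.toNat ≤ n → Nat.card (X (toF l v)) = q ^ wt v := by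
    intro n
    induction n with
    | zero =>
      intro v hv h0
      rcases hT.desc v hv with ⟨i, rfl⟩ | ⟨j, h1, h2⟩
      · rw [toF_ei_sr, hq, (hT.base i).2]
      · exfalso
        have h3 : 0 ≤ (rfL Al v j).sum := List.sum_nonneg (hT.nn _ h1)
        omega
    | succ n ih =>
      intro v hv h0
      rcases hT.desc v hv with ⟨i, rfl⟩ | ⟨j, h1, h2⟩
      · rw [toF_ei_sr, hq, (hT.base i).2]
      · have h3 : 0 ≤ (rfL Al v j).sum := List.sum_nonneg (hT.nn _ h1)
        have h4 := ih _ h1 (by omega)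
        rw [← rep_toF cs h hS hA (hT.len v hv), CardSup.card_X_rep R _ (isRoot_toF cs h hS hA hT v hv)] at h4
        rw [h4]
        rcases hT.step v hv j with h5 | ⟨-, h5⟩
        · exfalso
          rw [h5] at h1
          have h6 := toF_nonneg hS hA hT h1 j
          rw [← rep_toF cs h hS hA (len_ei j), toF_ei_sr, rep_simple_sr, Pi.neg_apply, sr_self] at h6
          simp only [Pi.zero_apply] at h6
          omega
        · rw [h5]
  intro v hv
  exact key _ v hv le_rfl

/-- the order of the unipotent radical -/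
theorem card_VJ (R : RGD cs h p T n X) {q : ℕ} (hq : ∀ i, Nat.card (X (sr i)) = q ^ w i) (i₀ : Fin l) :
    Nat.card ↥(VJ cs h X ({i₀}ᶜ : Set (Fin l))) = q ^ ((L.filter fun v => decide (0 < v.getD i₀ 0)).map wt).sum := by
  classical
  obtain ⟨Lf, hLf⟩ : ∃ Lf, Lf = L.filter fun v => decide (0 < v.getD i₀ 0) := ⟨_, rfl⟩
  rw [← hLf]
  have hmem : ∀ v, v ∈ Lf ↔ v ∈ L ∧ 0 < v.getD i₀ 0 := fun v => by
    rw [hLf, List.mem_filter, decide_eq_true_eq]
  have hset : (((Lf.map (toF l)).toFinset : Finset (Fin l → ℤ)) : Set (Fin l → ℤ)) = NotJ cs h ({i₀}ᶜ : Set (Fin l)) := by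
    ext x
    rw [Finset.mem_coe, List.mem_toFinset, List.mem_map, mem_NotJ_iff]
    constructor
    · rintro ⟨v, hv, rfl⟩
      rw [hmem] at hv
      exact ⟨isRoot_toF cs h hS hA hT v hv.1, hv.2⟩
    · rintro ⟨hx, h0⟩
      obtain ⟨v, hv, rfl⟩ := spec_pos cs h hS hA hT hx h0
      exact ⟨v, (hmem v).2 ⟨hv, h0⟩, rfl⟩
  have h1 := CardSup.card_sup R (s := (Lf.map (toF l)).toFinset) (by rw [hset]; exact NotJ_pos)
    (by rw [hset]; exact NotJ_closed)
  rw [hset] at h1
  have h2 : VJ cs h X ({i₀}ᶜ : Set (Fin l)) = Sup X (NotJ cs h ({i₀}ᶜ : Set (Fin l))) := rfl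
  have hnd : (Lf.map (toF l)).Nodup := by
    refine List.Nodup.map_on ?_ (by rw [hLf]; exact hT.nodup.filter _)
    intro a ha b hb hab
    exact toF_inj (hT.len a ((hmem a).1 ha).1) (hT.len b ((hmem b).1 hb).1) hab
  rw [h2, h1, List.prod_toFinset _ hnd, List.map_map]
  have h3 : Lf.map ((fun x => Nat.card (X x)) ∘ toF l) = Lf.map fun v => q ^ wt v := by
    refine List.map_congr_left fun v hv => ?_
    exact card_X_of cs h hS hA hT R hq v ((hmem v).1 hv).1
  rw [h3, prod_pow]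

end

/-! ### Roots between -/

section

variable {I W : Type*} [Fintype I] [DecidableEq I] [Group W] {M : CoxeterMatrix I} {cs : CoxeterSystem M W}
  {A : I → I → ℤ} {h : IsCartan M A}

theorem bt_of {x y z : I → ℤ} (hz : Btwn cs h x y z) (i j : I) (hD : x i * y j - x j * y i ≠ 0) :
    0 < (x i * y j - x j * y i) * (z i * y j - z j * y i) ∧ 0 < (x i * y j - x j * y i) * (x i * z j - x j * z i) ∧
      ∀ k, (x i * y j - x j * y i) * z k = (z i * y j - z j * y i) * x k + (x i * z j - x j * z i) * y k := by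
  obtain ⟨-, m, a, b, hm, ha, hb, he⟩ := hz
  have e : ∀ k, m * z k = a * x k + b * y k := fun k => by
    have := congrFun he k
    simpa only [Pi.smul_apply, Pi.add_apply, smul_eq_mul] using this
  obtain ⟨D, hDe⟩ : ∃ D, D = x i * y j - x j * y i := ⟨_, rfl⟩
  rw [← hDe] at hD ⊢
  have hD2 : 0 < D * D := mul_self_pos.2 hD
  have e1 : m * (z i * y j - z j * y i) = a * D := by
    have h1 := e i
    have h2 := e j
    calc m * (z i * y j - z j * y i) = (m * z i) * y j - (m * z j) * y i := by ring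
      _ = a * D := by rw [h1, h2, hDe]; ring
  have e2 : m * (x i * z j - x j * z i) = b * D := by
    have h1 := e i
    have h2 := e j
    calc m * (x i * z j - x j * z i) = x i * (m * z j) - x j * (m * z i) := by ring
      _ = b * D := by rw [h1, h2, hDe]; ring
  refine ⟨?_, ?_, fun k => ?_⟩
  · have h1 : 0 < m * (D * (z i * y j - z j * y i)) := by
      have : m * (D * (z i * y j - z j * y i)) = a * (D * D) := by
        calc m * (D * (z i * y j - z j * y i)) = D * (m * (z i * y j - z j * y i)) := by ring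
          _ = _ := by rw [e1]; ring
      rw [this]
      exact mul_pos ha hD2
    exact pos_of_mul_pos_right h1 hm.le
  · have h1 : 0 < m * (D * (x i * z j - x j * z i)) := by
      have : m * (D * (x i * z j - x j * z i)) = b * (D * D) := by
        calc m * (D * (x i * z j - x j * z i)) = D * (m * (x i * z j - x j * z i)) := by ring
          _ = _ := by rw [e2]; ring
      rw [this]
      exact mul_pos hb hD2
    exact pos_of_mul_pos_right h1 hm.le
  · refine mul_left_cancel₀ hm.ne' ?_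
    calc m * (D * z k) = D * (m * z k) := by ring
      _ = (a * D) * x k + (b * D) * y k := by rw [e]; ring
      _ = _ := by rw [← e1, ← e2]; ring

end

/-- a minor -/
def wdg (x y : List ℤ) (i j : ℕ) : ℤ := x.getD i 0 * y.getD j 0 - x.getD j 0 * y.getD i 0

/-- the test -/
def btT (l : ℕ) (x y z : List ℤ) (i j : ℕ) : Bool :=
  decide (0 < wdg x y i j * wdg z y i j) && decide (0 < wdg x y i j * wdg x z i j) &&
    (List.range l).all fun k => wdg x y i j * z.getD k 0 == wdg z y i j * x.getD k 0 + wdg x z i j * y.getD k 0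

/-- the negative -/
def negL (v : List ℤ) : List ℤ := v.map fun a => -a

theorem toF_neg {l : ℕ} (v : List ℤ) : toF l (negL v) = - toF l v := by
  funext k
  unfold toF negL
  have := List.getD_map (l := v) (n := (k : ℕ)) (d := 0) (fun a : ℤ => -a)
  rw [neg_zero] at this
  exact this

section

variable {l : ℕ} {A : Fin l → Fin l → ℤ} {W : Type*} [Group W] {M : CoxeterMatrix (Fin l)} {cs : CoxeterSystem M W}
  {h : IsCartan M A}

theorem btT_of {x y z : List ℤ} (hz : Btwn cs h (toF l x) (toF l y) (toF l z)) (i j : Fin l)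
    (hD : wdg x y i j ≠ 0) : btT l x y z i j = true := by
  obtain ⟨h1, h2, h3⟩ := bt_of hz i j hD
  unfold btT
  rw [Bool.and_eq_true, Bool.and_eq_true, decide_eq_true_eq, decide_eq_true_eq, List.all_eq_true]
  refine ⟨⟨h1, h2⟩, fun k hk => ?_⟩
  rw [beq_iff_eq]
  exact h3 ⟨k, List.mem_range.1 hk⟩

variable {Al : List (List ℤ)} {L : List (List ℤ)} {wt : List ℤ → ℕ} {w : Fin l → ℕ}

theorem spec' (hS : Sh l Al) (hA : ∀ i j : Fin l, (Al.getD i []).getD j 0 = A i j) (hT : RT l Al L wt w)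
    {x : Fin l → ℤ} (hx : IsRoot cs h x) : ∃ v ∈ L ++ L.map negL, x = toF l v := by
  obtain ⟨v, hv, h1 | h1⟩ := spec cs h hS hA hT hx
  · exact ⟨v, List.mem_append_left _ hv, h1⟩
  · exact ⟨negL v, List.mem_append_right _ (List.mem_map_of_mem hv), by rw [toF_neg, h1]⟩

end

/-! ### The dichotomy -/

section

variable {I W : Type*} {Y : Type*} [Fintype I] [DecidableEq I] [Group W] [Group Y] {M : CoxeterMatrix I}
  {cs : CoxeterSystem M W} {A : I → I → ℤ} {h : IsCartan M A} {p : ℕ} {T : Subgroup Y} {n : I → Y}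
  {X : (I → ℤ) → Subgroup Y} [Finite W] (R : RGD cs h p T n X) {τ : MulAut Y} {i₀ : I} {w : W} {m u : Y}

include R in
/-- **The dichotomy.** -/
theorem dich [Finite Y] (N : NF R τ i₀ w m u) {j₀ : I} (hij : i₀ ≠ j₀) (hA : A i₀ j₀ = -1)
    (hA0 : ∀ k, k ≠ i₀ → k ≠ j₀ → A i₀ k = 0)
    (hQ : ∀ x, IsRoot cs h x → 0 < x i₀ → x ≠ sr i₀ → x i₀ ≤ x j₀)
    (hO : ∀ x, IsRoot cs h x → 0 < x i₀ → x ≠ sr i₀ → pairing A i₀ x ≤ x i₀) :
    Nat.card ↥(VJ cs h X ({i₀}ᶜ : Set I)) * Nat.card (RGD.Sup X (AA cs h i₀ j₀)) ≤ (fix τ).index ∨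
      u ∈ RGD.Sup X (NotJ cs h ({i₀}ᶜ : Set I) \ Orb cs h i₀) := by
  by_cases hall : ∀ k ∈ LJ cs h T X ({i₀}ᶜ : Set I), k⁻¹ * u * k ∈ RGD.Sup X (NotJ cs h ({i₀}ᶜ : Set I) \ {sr i₀})
  · exact Or.inr (mem_diff_orb R hO N.mem hall)
  · left
    push Not at hall
    obtain ⟨k, hk, hkn⟩ := hall
    have hvk : k⁻¹ * u * k ∈ VJ cs h X ({i₀}ᶜ : Set I) := by
      have h1 := (Subgroup.mem_normalizer_iff.1 (LJ_le_normalizer_VJ R _ (inv_mem hk)) u).1 N.mem
      rwa [inv_inv] at h1
    obtain ⟨x, hx, v, hv, e⟩ := (Unique.mem_peel R (S := NotJ cs h ({i₀}ᶜ : Set I)) (x := sr i₀) NotJ_pos NotJ_closed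
      (sr_mem_NotJ (J := {i₀}ᶜ) (by simp))).1 hvk
    refine index_nf R N hk (AA_le_UJ i₀ j₀) fun s hs hsu => ?_
    rw [e] at hsu
    refine free_node R hij hA hA0 hQ hx ?_ hv hs hsu
    rintro rfl
    rw [one_mul] at e
    rw [e] at hkn
    exact hkn hv

include R in
/-- the torus centralises root groups of order two -/
theorem T_comm {ϑ : I → ℤ} (hϑ : IsRoot cs h ϑ) (h2 : Nat.card (X ϑ) = 2) {t x : Y} (ht : t ∈ T) (hx : x ∈ X ϑ) :
    t * x = x * t := by
  by_cases hx1 : x = 1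
  · rw [hx1, one_mul, mul_one]
  · have h1 := R.conj_mem (rp_of_mem (cs := cs) (hN := R.nsys) ht) hϑ hx
    rw [map_one, Module.End.one_apply] at h1
    rcases DspEnd.eq_of_card_two h2 hx hx1 h1 with h3 | h3
    · exfalso
      apply hx1
      have : x = t⁻¹ * (t * x * t⁻¹) * t := by group
      rw [this, h3]; group
    · have : t * x = t * x * t⁻¹ * t := by group
      rw [this, h3]

end

end Cfsg.Agent.H523.DspTab
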