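import Mathlib
import Cfsg.Agent.UGT.U2.FOne.Mv
import Cfsg.Agent.Tits.Opp

/-!
# The maximal displacement of an automorphism of a building, and the size of a class of automorphisms

`exists_max` : for an automorphism `θ ≠ 1` of a thick spherical building choose a chamber `x` such that the length of
`w = δ(x, θ x)` is maximal. Then `w_J w = w₀` where `J ≠ S` is the set of the left ascents of `w`, and
`s_i w = w s_{σ i}` for `i ∈ J`.

`card_sphere_le` : the number of conjugates (under a group acting as in `Sys`) of an automorphism is at least the size of the sphere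
`{z | δ(x, z) = δ(x, θ x)}`.
-/

set_option autoImplicit false
set_option linter.unusedSectionVars false

namespace Cfsg.Agent.H523.Dsp

open Cfsg.Agent.Tits.Core Cfsg.Agent.Tits.Core.Bldg Cfsg.Agent.Tits.Exchange Cfsg.Agent.Tits
open Cfsg.Agent.FixBN Cfsg.Agent.FixBN.Cox Cfsg.Agent.UGT.U2.FOne

variable {I : Type*} {M : CoxeterMatrix I} {W : Type*} [Group W] {cs : CoxeterSystem M W} {C : Type*}
  {Δ : Bldg cs C}

local prefix:100 "ℓ" => cs.length

/-- uniqueness of the nearest chamber of a panel, seen from the right -/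
theorem eq_of_near {x y z c : C} {i : I} {w : W} (hw : ℓ (w * cs.simple i) < ℓ w) (hy : Δ.δ x y = w * cs.simple i)
    (hz : Δ.δ x z = w * cs.simple i) (hyc : Δ.δ y c = cs.simple i) (hzc : Δ.δ z c = cs.simple i) : y = z := by
  refine Δ.between_unique (v := w * cs.simple i) (w := cs.simple i) ?_ hy hyc hz hzc
  rw [cs.simple_mul_simple_cancel_right, cs.length_simple]
  rcases cs.length_mul_simple w i with h | h <;> omega

section Max

variable {θ : C → C} {φ : W ≃* W} {σ : I → I}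

/-- the two possibilities for a node, at a chamber with maximal displacement -/
theorem max_right (hth : Δ.Thick) (hφ : ∀ i, φ (cs.simple i) = cs.simple (σ i))
    (hθ : ∀ x y, Δ.δ (θ x) (θ y) = φ (Δ.δ x y)) {x : C}
    (hmax : ∀ y, ℓ (Δ.δ y (θ y)) ≤ ℓ (Δ.δ x (θ x))) (i : I)
    (h : ℓ (Δ.δ x (θ x)) < ℓ (Δ.δ x (θ x) * cs.simple (σ i))) :
    cs.simple i * Δ.δ x (θ x) = Δ.δ x (θ x) * cs.simple (σ i) := by
  set w := Δ.δ x (θ x) with hw
  have hadj : ∀ x', Δ.δ x x' = cs.simple i → Δ.δ (θ x) (θ x') = cs.simple (σ i) := fun x' hx' => by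
    rw [hθ, hx', hφ]
  rcases cs.length_simple_mul w i with h1 | h1
  · -- both ascents
    rcases cs.length_mul_simple w (σ i) with h2 | h2
    · rcases fold cs h1 h2 with h3 | h3
      · exfalso
        obtain ⟨x', -, -, hx', -⟩ := hth x i
        have h4 : Δ.δ x (θ x') = w * cs.simple (σ i) := Δ.step_lt x (θ x) (θ x') _ (hadj x' hx') h
        have h5 : Δ.δ x' (θ x') = cs.simple i * (w * cs.simple (σ i)) := by
          rw [Δ.step_lt_left (Δ.δ_symm_simple hx') (z := θ x') (by rw [h4, ← mul_assoc]; omega), h4]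
        have h6 := hmax x'
        rw [h5, ← mul_assoc] at h6
        omega
      · exact h3
    · omega
  · -- descent on the left, ascent on the right
    exfalso
    obtain ⟨a, b, hab, ha, hb⟩ := hth x i
    have key : ∀ x', Δ.δ x x' = cs.simple i → Δ.δ x' (θ x) = cs.simple i * w := by
      intro x' hx'
      rcases Δ.step_left (z := θ x) (Δ.δ_symm_simple hx') with h2 | h2
      · exact h2
      · exfalso
        have h3 : Δ.δ x' (θ x') = w * cs.simple (σ i) := by
          rw [Δ.step_lt x' (θ x) (θ x') _ (hadj x' hx') (by rw [h2]; exact h), h2]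
        have h4 := hmax x'
        rw [h3] at h4
        omega
    apply hab
    have h2 : ℓ (cs.simple i * (cs.simple i * w)) = ℓ (cs.simple i) + ℓ (cs.simple i * w) := by
      rw [cs.simple_mul_simple_cancel_left, cs.length_simple]
      omega
    exact Δ.between_unique h2 (x := x) (z := θ x) ha (key a ha) hb (key b hb)

theorem max_left (hth : Δ.Thick) (hφ : ∀ i, φ (cs.simple i) = cs.simple (σ i))
    (hθ : ∀ x y, Δ.δ (θ x) (θ y) = φ (Δ.δ x y)) {x : C}
    (hmax : ∀ y, ℓ (Δ.δ y (θ y)) ≤ ℓ (Δ.δ x (θ x))) (i : I)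
    (h : ℓ (Δ.δ x (θ x)) < ℓ (cs.simple i * Δ.δ x (θ x))) :
    cs.simple i * Δ.δ x (θ x) = Δ.δ x (θ x) * cs.simple (σ i) := by
  have hinj : Function.Injective θ := by
    intro x y h
    apply Δ.eq_of_δ_eq_one
    apply φ.injective
    rw [← hθ, h, Δ.δ_self, map_one]
  by_cases h0 : ℓ (Δ.δ x (θ x)) < ℓ (Δ.δ x (θ x) * cs.simple (σ i))
  · exact max_right hth hφ hθ hmax i h0
  exfalso
  set w := Δ.δ x (θ x) with hw
  have h0' : ℓ (w * cs.simple (σ i)) < ℓ w := by
    rcases cs.length_mul_simple w (σ i) with h | h <;> omega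
  have hadj : ∀ x', Δ.δ x x' = cs.simple i → Δ.δ (θ x) (θ x') = cs.simple (σ i) := fun x' hx' => by
    rw [hθ, hx', hφ]
  obtain ⟨a, b, hab, ha, hb⟩ := hth x i
  have key : ∀ x', Δ.δ x x' = cs.simple i → Δ.δ x (θ x') = w * cs.simple (σ i) := by
    intro x' hx'
    rcases Δ.step x (θ x) (θ x') _ (hadj x' hx') with h2 | h2
    · exact h2
    · exfalso
      have h3 : Δ.δ x' (θ x') = cs.simple i * w := by
        rw [Δ.step_lt_left (Δ.δ_symm_simple hx') (z := θ x') (by rw [h2]; exact h), h2]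
      have h4 := hmax x'
      rw [h3] at h4
      omega
  apply hab
  apply hinj
  exact eq_of_near h0' (key a ha) (key b hb) (Δ.δ_symm_simple (hadj a ha)) (Δ.δ_symm_simple (hadj b hb))

/-- **Maximal displacement.** -/
theorem exists_max [Finite I] [F : OppRes.Cox cs] [Finite C] [Nonempty C] (hth : Δ.Thick)
    (hφ : ∀ i, φ (cs.simple i) = cs.simple (σ i)) (hθ : ∀ x y, Δ.δ (θ x) (θ y) = φ (Δ.δ x y))
    (hne : ∃ x, θ x ≠ x) :
    ∃ (x : C) (J : Set I), J ≠ Set.univ ∧ wJ cs J * Δ.δ x (θ x) = w0 cs ∧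
      ℓ (wJ cs J) + ℓ (Δ.δ x (θ x)) = ℓ (w0 cs) ∧
      (∀ i ∈ J, cs.simple i * Δ.δ x (θ x) = Δ.δ x (θ x) * cs.simple (σ i)) ∧
      (∀ i ∈ J, ℓ (Δ.δ x (θ x)) < ℓ (cs.simple i * Δ.δ x (θ x))) ∧
      (∀ i, i ∉ J → ℓ (Δ.δ x (θ x) * cs.simple (σ i)) < ℓ (Δ.δ x (θ x))) ∧
      (∀ y, ℓ (Δ.δ y (θ y)) ≤ ℓ (Δ.δ x (θ x))) := by
  obtain ⟨x, hmax⟩ := Finite.exists_max fun y => ℓ (Δ.δ y (θ y))
  obtain ⟨w, hw⟩ : ∃ w, w = Δ.δ x (θ x) := ⟨_, rfl⟩
  obtain ⟨J, hJ⟩ : ∃ J : Set I, J = {i | ℓ w < ℓ (cs.simple i * w)} := ⟨_, rfl⟩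
  have hJm : ∀ i, i ∈ J ↔ ℓ w < ℓ (cs.simple i * w) := fun i => by rw [hJ]; rfl
  have hcomm : ∀ i ∈ J, cs.simple i * w = w * cs.simple (σ i) := by
    intro i hi
    rw [hJm, hw] at hi
    rw [hw]
    exact max_left hth hφ hθ hmax i hi
  have hdesc : ∀ i, i ∉ J → ℓ (w * cs.simple (σ i)) < ℓ w := by
    intro i hi
    by_contra hcon
    have h1 : ℓ w < ℓ (w * cs.simple (σ i)) := by
      rcases cs.length_mul_simple w (σ i) with h | h <;> omega
    apply hi
    have h2 : cs.simple i * w = w * cs.simple (σ i) := by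
      rw [hw] at h1 ⊢
      exact max_right hth hφ hθ hmax i h1
    rw [hJm, h2]
    exact h1
  have hmin : ∀ u ∈ WJ cs J, ℓ (u * w) = ℓ u + ℓ w := by
    refine (isMinL_iff cs).2 fun i hi => ?_
    exact (hJm i).1 hi
  have hsum := hmin _ (F.wJ_mem J)
  have hσ : Function.Surjective σ := by
    refine Finite.injective_iff_surjective.1 fun i j h => ?_
    apply F.inj
    apply φ.injective
    rw [hφ, hφ, h]
  have hw0 : wJ cs J * w = w0 cs := by
    refine F.eq_wJ_of_descents (by rw [WJ_univ]; trivial) fun k _ => ?_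
    obtain ⟨i, rfl⟩ := hσ k
    by_cases hi : i ∈ J
    · rw [mul_assoc, ← hcomm i hi, ← mul_assoc, hsum]
      have h1 := hmin _ (mul_mem (F.wJ_mem J) (simple_mem_WJ cs hi))
      have h2 := F.len_wJ_mul (simple_mem_WJ cs hi)
      rw [cs.length_simple] at h2
      omega
    · have h1 := cs.length_mul_le (wJ cs J) (w * cs.simple (σ i))
      have h2 := hdesc i hi
      rw [← mul_assoc] at h1
      omega
  refine ⟨x, J, ?_, by rw [← hw]; exact hw0, by rw [← hw, ← hw0, hsum], by rw [← hw]; exact hcomm,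
    by rw [← hw]; exact fun i hi => (hJm i).1 hi, by rw [← hw]; exact hdesc, hmax⟩
  rintro rfl
  have h1 : w = 1 := by
    have h2 : w0 cs * w = w0 cs := hw0
    exact mul_eq_left.1 h2
  obtain ⟨y, hy⟩ := hne
  apply hy
  have h2 := hmax y
  rw [← hw, h1, cs.length_one] at h2
  exact (Δ.eq_of_δ_eq_one (cs.length_eq_zero_iff.1 (by omega))).symm

end Max

section Grp

variable {G : Type*} [Group G] [MulAction G C] {p : ℕ}

/-- the subgroup of the elements fixed by an automorphism -/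
def fix (τ : G ≃* G) : Subgroup G where
  carrier := {g | τ g = g}
  one_mem' := map_one τ
  mul_mem' := fun {a b} (ha : τ a = a) (hb : τ b = b) => by
    change τ (a * b) = a * b
    rw [map_mul, ha, hb]
  inv_mem' := fun {a} (ha : τ a = a) => by
    change τ a⁻¹ = a⁻¹
    rw [map_inv, ha]

theorem mem_fix {τ : G ≃* G} {g : G} : g ∈ fix τ ↔ τ g = g := Iff.rfl

/-- **The size of the class of an automorphism.** -/
theorem card_sphere_le [Finite G] [F : OppRes.Cox cs] (S : Sys Δ G p) (t : Mv Δ G) (x : C) :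
    Nat.card {z // Δ.δ x z = Δ.δ x (t.θ x)} ≤ (fix t.τ).index := by
  classical
  have hex : ∀ z : {z // Δ.δ x z = Δ.δ x (t.θ x)}, ∃ u ∈ S.U x, u • t.θ x = z.1 :=
    fun z => S.exists_move z.2.symm
  choose u hu huz using hex
  rw [Subgroup.index]
  refine Nat.card_le_card_of_injective (fun z => (QuotientGroup.mk (u z) : G ⧸ fix t.τ)) fun z z' h => ?_
  have h1 : (u z)⁻¹ * u z' ∈ fix t.τ := QuotientGroup.eq.1 h
  have h2 : ((u z)⁻¹ * u z') • x = x := by
    rw [mul_smul, S.fix x _ (hu z'), inv_smul_eq_iff, S.fix x _ (hu z)]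
  have h3 : ((u z)⁻¹ * u z') • t.θ x = t.θ x := by
    conv_lhs => rw [← mem_fix.1 h1]
    rw [← t.θ_smul, h2]
  rw [mul_smul, inv_smul_eq_iff] at h3
  apply Subtype.ext
  rw [← huz z, ← huz z', h3]

end Grp

end Cfsg.Agent.H523.Dsp
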