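import Cfsg.Agent.H903.SylMeet
import Cfsg.Agent.H523.Dsp

/-!
# `Meet` from the size of the classes of the automorphisms of order `p`

`meet_of_cent` : if `|T : C_T(y)| ≥ m` for all automorphisms `y` of order `p` and `(|P| - 1)² < (p - 1) m` then `Meet p T`.
-/

set_option autoImplicit false
set_option linter.unusedSectionVars false

namespace Cfsg.Agent.H523.DspMeet

open Cfsg.Agent.H903.SylMeet Cfsg.Agent.H523.Dsp

variable {p : ℕ} [Fact p.Prime] {T : Type*} [Group T] [Finite T] [IsSimpleGroup T]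

theorem conj_eq_iff (hT : ¬ IsMulCommutative T) (y : MulAut T) (x : T) :
    MulAut.conj x * y * (MulAut.conj x)⁻¹ = y ↔ x ∈ fix y := by
  rw [conj_mul_mul_inv, mul_eq_right, mem_fix]
  have h0 : (1 : MulAut T) = MulAut.conj 1 := (map_one _).symm
  rw [h0, (conj_injective hT).eq_iff, mul_inv_eq_one, eq_comm]

/-- the stabiliser of a subgroup of order `p` -/
theorem card_stab_le_cent (hT : ¬ IsMulCommutative T) {m : ℕ} {Y : Subgroup (MulAut T)} (hY : Nat.card Y = p)
    (hm : ∀ y ∈ Y, orderOf y = p → m ≤ (fix y).index) :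
    m * Nat.card {x : T // ∀ y, MulAut.conj x * y * (MulAut.conj x)⁻¹ ∈ Y ↔ y ∈ Y} ≤ (p - 1) * Nat.card T := by
  classical
  have hfin : Fintype T := Fintype.ofFinite T
  have hp : p.Prime := Fact.out
  have : Nontrivial Y := Finite.one_lt_card_iff_nontrivial.1 (by rw [hY]; exact hp.one_lt)
  obtain ⟨⟨y, hy⟩, hy1⟩ := exists_ne (1 : Y)
  have hy1' : y ≠ 1 := fun h => hy1 (Subtype.ext h)
  have ho : orderOf y = p := by
    have h1 : orderOf y ∣ p := by
      rw [← hY]
      exact Subgroup.orderOf_dvd_natCard Y hy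
    exact (hp.eq_one_or_self_of_dvd _ h1).resolve_left fun h => hy1' (orderOf_eq_one_iff.1 h)
  let N : Finset T := Finset.univ.filter fun x : T => ∀ y, MulAut.conj x * y * (MulAut.conj x)⁻¹ ∈ Y ↔ y ∈ Y
  let f : T → MulAut T := fun x => MulAut.conj x * y * (MulAut.conj x)⁻¹
  have h1 : N.card ≤ Nat.card (fix y) * (N.image f).card := by
    refine Finset.card_le_mul_card_image N _ fun b hb => ?_
    obtain ⟨x₀, hx₀, rfl⟩ := Finset.mem_image.1 hb
    rw [Nat.card_eq_fintype_card, Fintype.card_subtype]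
    refine Finset.card_le_card_of_injOn (fun x => x₀⁻¹ * x) (fun x hx => ?_) (fun a _ b _ hab => by simpa using hab)
    rw [Finset.mem_coe, Finset.mem_filter] at hx
    rw [Finset.mem_coe, Finset.mem_filter]
    refine ⟨Finset.mem_univ _, (conj_eq_iff hT y _).1 ?_⟩
    have h2 : MulAut.conj x * y * (MulAut.conj x)⁻¹ = MulAut.conj x₀ * y * (MulAut.conj x₀)⁻¹ := hx.2
    rw [map_mul, map_inv, mul_inv_rev, inv_inv]
    calc (MulAut.conj x₀)⁻¹ * MulAut.conj x * y * ((MulAut.conj x)⁻¹ * MulAut.conj x₀) =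
        (MulAut.conj x₀)⁻¹ * (MulAut.conj x * y * (MulAut.conj x)⁻¹) * MulAut.conj x₀ := by group
      _ = y := by rw [h2]; group
  have h2 : (N.image f).card ≤ p - 1 := by
    have h3 : N.image f ⊆ (Finset.univ.filter fun z : MulAut T => z ∈ Y).erase 1 := by
      intro z hz
      obtain ⟨x, hx, rfl⟩ := Finset.mem_image.1 hz
      refine Finset.mem_erase.2 ⟨?_, Finset.mem_filter.2 ⟨Finset.mem_univ _, ?_⟩⟩
      · intro h4
        apply hy1'
        have h5 : MulAut.conj x * y * (MulAut.conj x)⁻¹ = 1 := h4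
        rw [mul_inv_eq_one, mul_eq_left] at h5
        exact h5
      · exact ((Finset.mem_filter.1 hx).2 y).2 hy
    refine (Finset.card_le_card h3).trans (le_of_eq ?_)
    rw [Finset.card_erase_of_mem (Finset.mem_filter.2 ⟨Finset.mem_univ _, Y.one_mem⟩), ← Fintype.card_subtype,
      ← Nat.card_eq_fintype_card]
    exact congrArg (· - 1) hY
  have h3 : Nat.card {x : T // ∀ y, MulAut.conj x * y * (MulAut.conj x)⁻¹ ∈ Y ↔ y ∈ Y} = N.card := by
    rw [Nat.card_eq_fintype_card, Fintype.card_subtype]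
  rw [h3]
  calc m * N.card ≤ (fix y).index * (Nat.card (fix y) * (p - 1)) :=
        Nat.mul_le_mul (hm y hy ho) (h1.trans (Nat.mul_le_mul_left _ h2))
    _ = (p - 1) * Nat.card T := by rw [← (fix y).index_mul_card]; ring

/-- **Classes of automorphisms of order `p`.** -/
theorem meet_of_cent (hT : ¬ IsMulCommutative T) {m : ℕ}
    (hm : ∀ y : MulAut T, orderOf y = p → m ≤ (fix y).index) (P : Sylow p (MulAut T))
    (h : (Nat.card P - 1) ^ 2 < (p - 1) * m) : Meet p T := by
  classical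
  apply meet_of_sylow P
  have hfin : Fintype (Subgroup (MulAut T)) := Fintype.ofFinite _
  let 𝒴 : Finset (Subgroup (MulAut T)) :=
    Finset.univ.filter fun Y => Y ≤ (P : Subgroup (MulAut T)) ∧ Nat.card Y = p
  have h1 : 𝒴.card * (p - 1) ≤ Nat.card P - 1 :=
    card_order_p_mul_le (P := (P : Subgroup (MulAut T))) 𝒴 (fun Y hY => by simpa [𝒴] using hY)
  have hp : 0 < p - 1 := by have := (Fact.out : p.Prime).two_le; omega
  have hm0 : 0 < m := by
    rcases Nat.eq_zero_or_pos m with h0 | h0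
    · rw [h0, mul_zero] at h; omega
    · exact h0
  have hT0 : 0 < Nat.card T := Nat.card_pos
  refine good_of_count P.isPGroup' 𝒴 (fun Y hY hc => Finset.mem_filter.2 ⟨Finset.mem_univ _, hY, hc⟩)
    (fun _ => (p - 1) * Nat.card T / m) (fun Y hY => ?_) ?_
  · rw [Nat.le_div_iff_mul_le hm0, mul_comm]
    exact card_stab_le_cent hT (Finset.mem_filter.1 hY).2.2 fun y _ hy => hm y hy
  · rw [Finset.sum_const, smul_eq_mul]
    have h2 : (p - 1) * Nat.card T / m * m ≤ (p - 1) * Nat.card T := Nat.div_mul_le_self _ _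
    set c := (p - 1) * Nat.card T / m with hc
    refine Nat.lt_of_mul_lt_mul_left (a := (p - 1) * ((p - 1) * m)) ?_
    have h3 : (𝒴.card * (p - 1)) ^ 2 ≤ (Nat.card P - 1) ^ 2 := Nat.pow_le_pow_left h1 2
    calc (p - 1) * ((p - 1) * m) * (𝒴.card * (𝒴.card * c)) = (𝒴.card * (p - 1)) ^ 2 * (c * m) := by ring
      _ ≤ (Nat.card P - 1) ^ 2 * ((p - 1) * Nat.card T) := Nat.mul_le_mul h3 h2
      _ < ((p - 1) * m) * ((p - 1) * Nat.card T) := Nat.mul_lt_mul_of_pos_right h (Nat.mul_pos hp hT0)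
      _ = (p - 1) * ((p - 1) * m) * Nat.card T := by ring

end Cfsg.Agent.H523.DspMeet
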