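import Mathlib
import Cfsg.Agent.H523.FpfBad

/-!
# Fixed-point-free nilpotent groups of automorphisms of a simple group (helper523)

* `FpfAct.exists_fixed` : the action form of `Fpf.exists_fixed`;
* `Pre S A` : `A` nilpotent, `C_S(A) = 1`, proper invariant subgroups solvable;
* `Pre.exists_sylow` : a nontrivial invariant `p`-subgroup gives an invariant Sylow `p`-subgroup;
* `Pre.bad` : without invariant Sylow `r`-subgroups we get `Bad r S A`.
-/

set_option autoImplicit false
set_option linter.unusedSectionVars false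

namespace Cfsg.Agent.H523

open Subgroup Pointwise
open Cfsg.Agent.H523.FpfN Cfsg.Agent.H523.FpfAct

universe u v w

namespace FpfAct

section

variable {G : Type u} {B : Type v} [Group G] [Group B] [MulDistribMulAction B G] [Finite G] [Finite B]

/-- If `B` and the solvable group `G` act compatibly on `Ω` and `B` preserves the `G`-orbit of `ω`, then `B` fixes a
point of this orbit. -/
theorem exists_fixed (hG : Group.IsSolvable G) (hB : Group.IsNilpotent B)
    (hfix : ∀ g : G, (∀ b : B, b • g = g) → g = 1) {Ω : Type w} [MulAction G Ω] [MulAction B Ω]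
    (hc : ∀ (b : B) (g : G) (ω : Ω), b • g • ω = (b • g) • b • ω) (ω : Ω) (hω : ∀ b : B, ∃ g : G, b • ω = g • ω) :
    ∃ g : G, ∀ b : B, b • g • ω = g • ω := by
  let _ : MulAction (SD G B) Ω :=
    { smul := fun x ω => x.left • x.right • ω
      one_smul := fun ω => by
        change (1 : G) • (1 : B) • ω = ω
        rw [one_smul, one_smul]
      mul_smul := fun x y ω => by
        change (x.left * (x.right • y.left)) • (x.right * y.right) • ω = x.left • x.right • y.left • y.right • ω
        rw [hc, mul_smul, mul_smul] }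
  have hl : ∀ (g : G) (ω : Ω), (SemidirectProduct.inl g : SD G B) • ω = g • ω := by
    intro g ω
    change g • (1 : B) • ω = g • ω
    rw [one_smul]
  have hr : ∀ (b : B) (ω : Ω), (SemidirectProduct.inr b : SD G B) • ω = b • ω := by
    intro b ω
    change (1 : G) • b • ω = b • ω
    rw [one_smul]
  have hL : Group.IsSolvable (LL G B) := by
    unfold LL
    exact Group.isSolvable_of_surjective (f := (SemidirectProduct.inl : G →* SD G B).rangeRestrict)
      (MonoidHom.rangeRestrict_surjective _)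
  obtain ⟨_, ⟨g, rfl⟩, hg⟩ := (fpf (G := G) (B := B) hB hfix).exists_fixed hL ω (by
    rintro _ ⟨b, rfl⟩
    obtain ⟨g, hg⟩ := hω b
    exact ⟨SemidirectProduct.inl g, ⟨g, rfl⟩, by rw [hl, ← hg, hr]⟩)
  refine ⟨g, fun b => ?_⟩
  have h1 := hg (SemidirectProduct.inr b) ⟨b, rfl⟩
  rwa [hl, hr] at h1

end

end FpfAct

section Pre

variable {S : Type u} [Group S] {A : Subgroup (MulAut S)}

/-- The action on an invariant subgroup. -/
@[reducible] def actOn {H : Subgroup S} (hH : ∀ a ∈ A, ∀ h ∈ H, a h ∈ H) : MulDistribMulAction A H where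
  smul a h := ⟨(a : MulAut S) h, hH a a.2 h h.2⟩
  one_smul _ := Subtype.ext rfl
  mul_smul _ _ _ := Subtype.ext rfl
  smul_mul a x y := Subtype.ext (map_mul (a : MulAut S) (x : S) y)
  smul_one a := Subtype.ext (map_one (a : MulAut S))

/-- `A` nilpotent, `C_S(A) = 1`, the proper invariant subgroups are solvable. -/
structure Pre (S : Type u) [Group S] (A : Subgroup (MulAut S)) : Prop where
  nil : Group.IsNilpotent A
  fix : ∀ s : S, (∀ a ∈ A, a s = s) → s = 1
  sol : ∀ H : Subgroup S, H ≠ ⊤ → (∀ a ∈ A, ∀ h ∈ H, a h ∈ H) → Group.IsSolvable H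

theorem Pre.fix' (h : Pre S A) {H : Subgroup S} (hH : ∀ a ∈ A, ∀ h ∈ H, a h ∈ H) :
    let _ := actOn hH
    ∀ x : H, (∀ a : A, a • x = x) → x = 1 := by
  intro _ x hx
  apply Subtype.ext
  exact h.fix x fun a ha => congrArg Subtype.val (hx ⟨a, ha⟩)

variable [Finite S]

/-- Invariant Sylow subgroups of the invariant subgroups. -/
theorem Pre.exists_sylow_sub (h : Pre S A) {H : Subgroup S} (hH1 : H ≠ ⊤) (hH : ∀ a ∈ A, ∀ h ∈ H, a h ∈ H)
    (p : ℕ) [Fact p.Prime] : ∃ P : Sylow p H, ∀ a ∈ A, ∀ x ∈ (P : Subgroup H).map H.subtype,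
      a x ∈ (P : Subgroup H).map H.subtype := by
  let _ := actOn hH
  obtain ⟨P, hP, -⟩ := FpfAct.existsUnique_sylow (G := H) (B := A) (h.sol H hH1 hH) h.nil (h.fix' hH) p
  refine ⟨P, ?_⟩
  rintro a ha _ ⟨x, hx, rfl⟩
  exact ⟨_, hP ⟨a, ha⟩ x hx, rfl⟩

theorem Pre.quo (h : Pre S A) (H N : Subgroup S) (hH1 : H ≠ ⊤) (hH : ∀ a ∈ A, ∀ h ∈ H, a h ∈ H)
    (hN : ∀ a ∈ A, ∀ n ∈ N, a n ∈ N) (_hNH : N ≤ H) (hn : ∀ h ∈ H, ∀ n ∈ N, h * n * h⁻¹ ∈ N) {x : S} (hx : x ∈ H)
    (hxA : ∀ a ∈ A, x⁻¹ * a x ∈ N) : x ∈ N := by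
  let _ := actOn hH
  have hNn : (N.subgroupOf H).Normal := ⟨fun n hn' g => by
    rw [mem_subgroupOf] at hn' ⊢
    exact hn g g.2 n hn'⟩
  have h1 := FpfAct.mem_of_fixed_mod (G := H) (B := A) (h.sol H hH1 hH) h.nil (h.fix' hH) (N.subgroupOf H)
    (fun b n hn' => by
      rw [mem_subgroupOf] at hn' ⊢
      exact hN b b.2 n hn') (x := ⟨x, hx⟩) (fun b => by
      rw [mem_subgroupOf]
      exact hxA b b.2)
  rwa [mem_subgroupOf] at h1

/-- the normaliser of an invariant subgroup is invariant -/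
theorem normalizer_inv {R : Subgroup S} (hR : ∀ a ∈ A, ∀ h ∈ R, a h ∈ R) :
    ∀ a ∈ A, ∀ x ∈ normalizer (R : Set S), a x ∈ normalizer (R : Set S) := by
  intro a ha x hx
  rw [mem_normalizer_iff] at hx ⊢
  have hinv : ∀ y, a y ∈ R ↔ y ∈ R := by
    intro y
    constructor
    · intro hy
      have h1 := hR a⁻¹ (inv_mem ha) _ hy
      rwa [MulAut.inv_apply_self] at h1
    · exact hR a ha y
  intro y
  have h1 := hx (a⁻¹ y)
  rw [← hinv (x * a⁻¹ y * x⁻¹), ← hinv (a⁻¹ y)] at h1
  rw [map_mul, map_mul, map_inv, MulAut.apply_inv_self] at h1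
  exact h1

theorem not_isPGroup_top [IsSimpleGroup S] (hna : ¬ ∀ a b : S, a * b = b * a) {p : ℕ} [Fact p.Prime]
    {R : Subgroup S} (hR : IsPGroup p R) : R ≠ ⊤ := by
  rintro rfl
  have h1 : IsPGroup p S := hR.of_equiv Subgroup.topEquiv
  have h2 : Group.IsNilpotent S := h1.isNilpotent
  exact hna ((IsSimpleGroup.comm_iff_isSolvable (G := S)).2 inferInstance)

/-- A nontrivial invariant `p`-subgroup gives an invariant Sylow `p`-subgroup. -/
theorem Pre.exists_sylow [IsSimpleGroup S] (hna : ¬ ∀ a b : S, a * b = b * a) (h : Pre S A) {p : ℕ}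
    [hp : Fact p.Prime] {R : Subgroup S} (hRp : IsPGroup p R) (hR1 : R ≠ ⊥) (hR : ∀ a ∈ A, ∀ h ∈ R, a h ∈ R) :
    ∃ P : Sylow p S, ∀ a ∈ A, ∀ x ∈ (P : Subgroup S), a x ∈ (P : Subgroup S) := by
  obtain ⟨Q, ⟨hQp, hQ1, hQ⟩, hmax⟩ := (Set.toFinite {Q : Subgroup S | IsPGroup p Q ∧ Q ≠ ⊥ ∧
    ∀ a ∈ A, ∀ h ∈ Q, a h ∈ Q}).exists_maximalFor (fun Q => Q) _ ⟨R, hRp, hR1, hR⟩
  obtain ⟨N, hNdef⟩ : ∃ N : Subgroup S, N = normalizer (Q : Set S) := ⟨_, rfl⟩
  have hNtop : N ≠ ⊤ := by
    intro h1
    rw [hNdef] at h1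
    have h2 : Q.Normal := normalizer_eq_top_iff.mp h1
    rcases h2.eq_bot_or_eq_top with h3 | h3
    · exact hQ1 h3
    · exact not_isPGroup_top hna hQp h3
  obtain ⟨T, hT⟩ := h.exists_sylow_sub hNtop (by rw [hNdef]; exact normalizer_inv hQ) p
  have hQN : Q ≤ N := by rw [hNdef]; exact le_normalizer
  have hQT : Q.subgroupOf N ≤ (T : Subgroup N) := by
    have h1 : (Q.subgroupOf N).Normal := by
      subst hNdef
      exact normal_in_normalizer
    have h2 : IsPGroup p (Q.subgroupOf N) := hQp.comap_of_injective _ N.subtype_injective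
    exact h2.le_sylow_of_normal T
  have hQT' : Q ≤ (T : Subgroup N).map N.subtype := by
    rw [← map_subgroupOf_eq_of_le hQN]
    exact Subgroup.map_mono hQT
  have hTp : IsPGroup p ((T : Subgroup N).map N.subtype) := T.2.map _
  have hTQ : (T : Subgroup N).map N.subtype ≤ Q := hmax ⟨hTp, fun h1 => hQ1 (by
    rw [h1] at hQT'
    exact eq_bot_iff.mpr hQT'), hT⟩ hQT'
  have hTe : (T : Subgroup N) = Q.subgroupOf N := by
    refine le_antisymm ?_ hQT
    intro x hx
    exact mem_subgroupOf.mpr (hTQ ⟨x, hx, rfl⟩)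
  obtain ⟨P, hP⟩ := hQp.exists_le_sylow
  have hPQ : (P : Subgroup S) = Q := by
    by_contra hne
    have h1 := OddOrderLocal.SylIn.exists_normalizing_gt P.2 (lt_of_le_of_ne hP (Ne.symm hne))
    rw [← hNdef] at h1
    have h2 : (T : Subgroup N) = ((P : Subgroup S) ⊓ N).subgroupOf N := by
      refine (T.3 ?_ ?_).symm
      · exact (P.2.to_le inf_le_left : IsPGroup p ((P : Subgroup S) ⊓ N : Subgroup S)).comap_of_injective _
          N.subtype_injective
      · rw [hTe]
        exact Subgroup.comap_mono h1.le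
    have h3 : (P : Subgroup S) ⊓ N ≤ Q := by
      intro x hx
      have h4 : (⟨x, hx.2⟩ : N) ∈ ((P : Subgroup S) ⊓ N).subgroupOf N := mem_subgroupOf.mpr hx
      rw [← h2, hTe] at h4
      exact mem_subgroupOf.mp h4
    exact absurd (lt_of_lt_of_le h1 h3) (lt_irrefl _)
  refine ⟨P, ?_⟩
  rw [hPQ]
  exact hQ

/-- `A` contains no inner automorphism except `1`. -/
theorem Pre.inn [IsSimpleGroup S] (hna : ¬ ∀ a b : S, a * b = b * a) (h : Pre S A) :
    ∀ a ∈ A, (∃ g : S, a = MulAut.conj g) → a = 1 := by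
  rintro a ha ⟨g, rfl⟩
  have hc : center S = ⊥ := by
    rcases (inferInstance : (center S).Normal).eq_bot_or_eq_top with h1 | h1
    · exact h1
    · exfalso
      apply hna
      intro x y
      have h2 : y ∈ center S := by rw [h1]; trivial
      exact mem_center_iff.mp h2 x
  have hF : Fpf ((MulAut.conj : S →* MulAut S).range) A := by
    refine ⟨h.nil, ?_, ?_⟩
    · intro b _
      rw [mem_normalizer_iff]
      have key : ∀ c : MulAut S, ∀ x ∈ (MulAut.conj : S →* MulAut S).range,
          c * x * c⁻¹ ∈ (MulAut.conj : S →* MulAut S).range := by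
        rintro c _ ⟨s, rfl⟩
        exact ⟨c s, by
          ext y
          rw [MulAut.conj_apply, MulAut.mul_apply, MulAut.mul_apply, MulAut.conj_apply, map_mul, map_mul, map_inv,
            MulAut.apply_inv_self]⟩
      intro x
      refine ⟨key b x, fun hx => ?_⟩
      have h1 := key b⁻¹ _ hx
      simpa [mul_assoc] using h1
    · rw [eq_bot_iff]
      intro x hx
      obtain ⟨⟨s, rfl⟩, h2⟩ := mem_inf.mp hx
      rw [mem_bot, h.fix s, map_one]
      intro b hb
      have h3 := mem_centralizer_iff.mp h2 b hb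
      have h4 : ∀ y, b s * b y * (b s)⁻¹ = s * b y * s⁻¹ := by
        intro y
        have h5 := DFunLike.congr_fun h3 y
        rw [MulAut.mul_apply, MulAut.mul_apply, MulAut.conj_apply, MulAut.conj_apply, map_mul, map_mul,
          map_inv] at h5
        exact h5
      have h6 : s⁻¹ * b s ∈ center S := by
        rw [mem_center_iff]
        intro y
        have h7 := h4 (b⁻¹ y)
        rw [MulAut.apply_inv_self] at h7
        have h8 : y * (s⁻¹ * b s) = s⁻¹ * (s * y * s⁻¹) * b s := by group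
        rw [h8, ← h7]
        group
      rw [hc, mem_bot, inv_mul_eq_one] at h6
      exact h6.symm
  have h1 : MulAut.conj g ∈ (MulAut.conj : S →* MulAut S).range ⊓ A := mem_inf.mpr ⟨⟨g, rfl⟩, ha⟩
  rw [hF.inf, mem_bot] at h1
  exact h1

/-- **The bad groups.** -/
theorem Pre.bad [IsSimpleGroup S] (hna : ¬ ∀ a b : S, a * b = b * a) (h : Pre S A) {r : ℕ} [hr : Fact r.Prime]
    (hS : ∀ P : Sylow r S, ¬ ∀ a ∈ A, ∀ x ∈ (P : Subgroup S), a x ∈ (P : Subgroup S)) : Bad r S A where
  nil := h.nil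
  fix := h.fix
  sol := h.sol
  inn := h.inn hna
  quo H N hH1 hH hN hNH hn x hx hxA := h.quo H N hH1 hH hN hNH hn hx hxA
  noP := by
    intro P hP hPA
    by_contra hne
    obtain ⟨Q, hQ⟩ := h.exists_sylow hna hP hne hPA
    exact hS Q hQ
  cent := by
    intro z hz hz1 hzc s hs hsr
    by_contra hs1
    let C : Subgroup S :=
      { carrier := {s | z s = s}
        mul_mem' := fun {a b} ha hb => by
          change z (a * b) = a * b
          rw [map_mul, show z a = a from ha, show z b = b from hb]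
        one_mem' := map_one _
        inv_mem' := fun {a} ha => by
          change z a⁻¹ = a⁻¹
          rw [map_inv, show z a = a from ha] }
    have hC1 : C ≠ ⊤ := by
      intro h1
      apply hz1
      ext x
      have h2 : x ∈ C := by rw [h1]; trivial
      exact h2
    have hC : ∀ a ∈ A, ∀ x ∈ C, a x ∈ C := by
      intro a ha x hx
      change z (a x) = a x
      have h1 := DFunLike.congr_fun (hzc a ha) x
      rw [MulAut.mul_apply, MulAut.mul_apply, show z x = x from hx] at h1
      exact h1.symm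
    obtain ⟨P, hP⟩ := h.exists_sylow_sub hC1 hC r
    have hPp : IsPGroup r ((P : Subgroup C).map C.subtype) := P.2.map _
    have hP1 : (P : Subgroup C).map C.subtype ≠ ⊥ := by
      intro h1
      have h2 : (P : Subgroup C) = ⊥ := (map_eq_bot_iff_of_injective _ C.subtype_injective).mp h1
      have h3 : r ∣ Nat.card C := by
        have h4 : orderOf (⟨s, hs⟩ : C) = r := by
          have h5 : orderOf (⟨s, hs⟩ : C) = orderOf s := Subgroup.orderOf_mk s hs
          rw [h5]
          exact orderOf_eq_prime hsr hs1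
        rw [← h4]
        exact orderOf_dvd_natCard _
      have h4 := P.dvd_card_of_dvd_card h3
      rw [h2, Subgroup.card_bot] at h4
      exact hr.out.one_lt.ne' (Nat.dvd_one.mp h4)
    obtain ⟨Q, hQ⟩ := h.exists_sylow hna hPp hP1 hP
    exact hS Q hQ

end Pre

end Cfsg.Agent.H523
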