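import Mathlib
import Cfsg.Agent.H523.FpfPre
import Cfsg.Agent.SignalizersComponents.ComponentExists

/-!
# Fixed-point-free nilpotent groups of automorphisms: the reduction to simple groups (helper523)

`fpfSolv` : if no finite nonabelian simple group `S` has a group `A` of automorphisms with `Pre S A`, then
every finite group with a fixed-point-free nilpotent group of automorphisms is solvable.
-/

set_option autoImplicit false
set_option linter.unusedSectionVars false

namespace Cfsg.Agent.H523

open Subgroup Pointwise
open Cfsg.Agent.H523.FpfN Cfsg.Agent.H523.FpfAct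

universe u v w

/-! ### the product over an orbit of commuting elements -/

theorem noncommProd_congr' {G : Type*} [Group G] {s t : Multiset G} (h : s = t)
    (hs : {x | x ∈ s}.Pairwise Commute) (ht : {x | x ∈ t}.Pairwise Commute) :
    s.noncommProd hs = t.noncommProd ht := by
  subst h; rfl

/-- `A` fixes only `1`; the elements of the `A`-orbit of `x` commute: then `x⁻¹` is a product of the others. -/
theorem exists_mul_eq_one {G : Type u} [Group G] {A : Subgroup (MulAut G)} [Finite A]
    (hfix : ∀ g : G, (∀ a ∈ A, a g = g) → g = 1) {x : G} (hc : ∀ a ∈ A, ∀ b ∈ A, a x ≠ b x → Commute (a x) (b x)) :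
    ∃ c ∈ closure {y : G | y ≠ x ∧ ∃ a ∈ A, y = a x}, x * c = 1 := by
  classical
  have := Fintype.ofFinite A
  let O : Finset G := Finset.image (fun a : ↥A => (a : MulAut G) x) (Finset.univ : Finset ↥A)
  have hO : ∀ y, y ∈ O ↔ ∃ a ∈ A, y = a x := by
    intro y
    rw [Finset.mem_image]
    constructor
    · rintro ⟨a, -, rfl⟩; exact ⟨a, a.2, rfl⟩
    · rintro ⟨a, ha, rfl⟩; exact ⟨⟨a, ha⟩, Finset.mem_univ _, rfl⟩
  have hcomm : {y | y ∈ O.1}.Pairwise Commute := by
    intro y hy z hz hyz
    obtain ⟨a, ha, rfl⟩ := (hO y).mp hy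
    obtain ⟨b, hb, rfl⟩ := (hO z).mp hz
    exact hc a ha b hb hyz
  have hx : x ∈ O.1 := (hO x).mpr ⟨1, one_mem _, rfl⟩
  have hy : O.1.noncommProd hcomm = 1 := by
    refine hfix _ fun a ha => ?_
    rw [Multiset.map_noncommProd]
    refine noncommProd_congr' ?_ _ _
    have h1 : O.image (a : G → G) = O := by
      ext y
      rw [Finset.mem_image, hO]
      constructor
      · rintro ⟨z, hz, rfl⟩
        obtain ⟨b, hb, rfl⟩ := (hO z).mp hz
        exact ⟨a * b, mul_mem ha hb, rfl⟩
      · rintro ⟨b, hb, rfl⟩
        refine ⟨(a⁻¹ * b) x, (hO _).mpr ⟨_, mul_mem (inv_mem ha) hb, rfl⟩, ?_⟩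
        rw [MulAut.mul_apply, MulAut.apply_inv_self]
    have h2 := Finset.image_val_of_injOn (s := O) (f := (a : G → G)) a.injective.injOn
    rw [h1] at h2
    exact h2.symm
  rw [← Multiset.mul_noncommProd_erase O.1 hx hcomm
    (hcomm.mono fun y hy => Multiset.mem_of_mem_erase hy)] at hy
  refine ⟨_, ?_, hy⟩
  refine Multiset.noncommProd_induction _ _ (fun y => y ∈ closure {y : G | y ≠ x ∧ ∃ a ∈ A, y = a x})
    (fun a b ha hb => mul_mem ha hb) (one_mem _) ?_
  intro y hy
  refine subset_closure ⟨?_, (hO y).mp (Multiset.mem_of_mem_erase hy)⟩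
  rintro rfl
  exact O.2.notMem_erase hy

/-! ### the induction -/

/-- Solvability from a normal subgroup. -/
theorem solvable_of_normal {G : Type u} [Group G] (N : Subgroup G) [N.Normal] (h1 : Group.IsSolvable N)
    (h2 : Group.IsSolvable (G ⧸ N)) : Group.IsSolvable G :=
  (Group.isSolvable_iff_subgroup_quotient N).mpr ⟨h1, h2⟩

/-- the action on a quotient -/
def quotHom {G : Type u} [Group G] {A : Subgroup (MulAut G)} (N : Subgroup G) [N.Normal]
    (hN : ∀ a ∈ A, ∀ n ∈ N, a n ∈ N) : A →* MulAut (G ⧸ N) where
  toFun a :=
    { toFun := QuotientGroup.map N N (a : MulAut G).toMonoidHom fun n hn => hN a a.2 n hn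
      invFun := QuotientGroup.map N N ((a⁻¹ : A) : MulAut G).toMonoidHom fun n hn => hN _ (a⁻¹).2 n hn
      left_inv := by
        intro x
        induction x using QuotientGroup.induction_on with
        | _ g =>
        change ((((a⁻¹ : A) : MulAut G) ((a : MulAut G) g) : G) : G ⧸ N) = (g : G ⧸ N)
        congr 1
        exact MulAut.inv_apply_self _ (a : MulAut G) g
      right_inv := by
        intro x
        induction x using QuotientGroup.induction_on with
        | _ g =>
        change (((a : MulAut G) (((a⁻¹ : A) : MulAut G) g) : G) : G ⧸ N) = (g : G ⧸ N)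
        congr 1
        exact MulAut.apply_inv_self _ (a : MulAut G) g
      map_mul' := map_mul _ }
  map_one' := by
    ext x
    induction x using QuotientGroup.induction_on with
    | _ g => rfl
  map_mul' a b := by
    ext x
    induction x using QuotientGroup.induction_on with
    | _ g => rfl

theorem quotHom_mk {G : Type u} [Group G] {A : Subgroup (MulAut G)} (N : Subgroup G) [N.Normal]
    (hN : ∀ a ∈ A, ∀ n ∈ N, a n ∈ N) (a : A) (g : G) :
    quotHom N hN a (g : G ⧸ N) = (((a : MulAut G) g : G) : G ⧸ N) := rfl

/-- The statement for groups of order `n`. -/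
def FpfSolv (n : ℕ) : Prop :=
  ∀ (G : Type u) [Group G] [Finite G], Nat.card G = n → ∀ A : Subgroup (MulAut G), Group.IsNilpotent A →
    (∀ g : G, (∀ a ∈ A, a g = g) → g = 1) → Group.IsSolvable G

theorem FpfSolv.hom {n : ℕ} (h : FpfSolv.{u} n) {G : Type u} [Group G] [Finite G] (hG : Nat.card G = n)
    {B : Type v} [Group B] (f : B →* MulAut G) (hB : Group.IsNilpotent B)
    (hfix : ∀ g : G, (∀ b : B, f b g = g) → g = 1) : Group.IsSolvable G := by
  refine h G hG f.range (Group.nilpotent_of_surjective f.rangeRestrict f.rangeRestrict_surjective) fun g hg => ?_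
  exact hfix g fun b => hg (f b) ⟨b, rfl⟩

theorem FpfSolv.sub {n : ℕ} (h : ∀ m < n, FpfSolv.{u} m) {G : Type u} [Group G] [Finite G]
    {A : Subgroup (MulAut G)} (hA : Group.IsNilpotent A) {H : Subgroup G} (hHn : Nat.card H < n)
    (hH : ∀ a ∈ A, ∀ h ∈ H, a h ∈ H) (hfix : ∀ g ∈ H, (∀ a ∈ A, a g = g) → g = 1) : Group.IsSolvable H := by
  let _ := actOn hH
  refine (h _ hHn).hom rfl (MulDistribMulAction.toMulAut A H) hA fun g hg => ?_
  exact Subtype.ext (hfix g g.2 fun a ha => congrArg Subtype.val (hg ⟨a, ha⟩))

/-- **The reduction to simple groups.** -/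
theorem fpfSolv (hS : ∀ (S : Type u) [Group S] [Finite S] [IsSimpleGroup S], (¬ ∀ a b : S, a * b = b * a) →
    ∀ A : Subgroup (MulAut S), ¬ Pre S A) (n : ℕ) : FpfSolv.{u} n := by
  induction n using Nat.strong_induction_on with
  | _ n ih =>
  intro G _ _ hG A hA hfix
  obtain ⟨R, hRc, hRs, hRmax⟩ := SignalizersComponents.ComponentExists.exists_solvableRadical G
  have hRA : ∀ a ∈ A, ∀ x ∈ R, a x ∈ R := by
    intro a _ x hx
    have h1 := hRc.fixed a
    rw [← h1] at hx
    exact hx
  have hcard : ∀ {H : Subgroup G}, H ≠ ⊤ → Nat.card H < n := by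
    intro H hH
    rw [← hG]
    exact lt_of_le_of_ne (Subgroup.card_le_card_group H) (fun h => hH (Subgroup.eq_top_of_card_eq H h))
  have hsub : ∀ H : Subgroup G, H ≠ ⊤ → (∀ a ∈ A, ∀ h ∈ H, a h ∈ H) → Group.IsSolvable H :=
    fun H hH hHA => FpfSolv.sub ih hA (hcard hH) hHA fun g _ hg => hfix g hg
  by_cases hR : R = ⊥
  · -- no solvable normal subgroups
    by_cases htriv : ∀ g : G, g = 1
    · have : Subsingleton G := ⟨fun a b => by rw [htriv a, htriv b]⟩
      infer_instance
    · exfalso
      push Not at htriv
      obtain ⟨g0, hg0⟩ := htriv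
      -- a minimal normal subgroup
      obtain ⟨M, ⟨hMn, hM1⟩, hMmin⟩ := (Set.toFinite {M : Subgroup G | M.Normal ∧ M ≠ ⊥}).exists_minimalFor
        (fun Q => Q) _ ⟨⊤, ⟨inferInstance, fun h => hg0 (by
          have h1 : g0 ∈ (⊤ : Subgroup G) := trivial
          rw [h] at h1
          exact mem_bot.mp h1)⟩⟩
      have hMs : ¬ Group.IsSolvable M := by
        intro h1
        have h2 := hRmax M hMn h1
        rw [hR] at h2
        exact hM1 (eq_bot_iff.mpr h2)
      have hmap : ∀ a : MulAut G, (M.map a.toMonoidHom).Normal := fun a => hMn.map _ a.surjective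
      have hMmin' : ∀ K : Subgroup G, K.Normal → K ≠ ⊥ → K ≤ M → K = M := fun K hK hK1 hKM =>
        le_antisymm hKM (hMmin ⟨hK, hK1⟩ hKM)
      -- images of `M` under `A` coincide or centralise each other
      have hle : ∀ a b : MulAut G, M.map a.toMonoidHom ⊓ M.map b.toMonoidHom ≠ ⊥ →
          M.map a.toMonoidHom ≤ M.map b.toMonoidHom := by
        intro a b hne
        have hPn : (M.map a.toMonoidHom ⊓ M.map b.toMonoidHom).Normal := by
          have := hmap a
          have := hmap b
          infer_instance
        have h1 : (M.map a.toMonoidHom ⊓ M.map b.toMonoidHom).comap a.toMonoidHom = M := by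
          refine hMmin' _ (hPn.comap _) (fun h1 => hne ?_) ?_
          · rw [eq_bot_iff]
            intro y hy
            obtain ⟨x, rfl⟩ := a.surjective y
            have h2 : x ∈ (M.map a.toMonoidHom ⊓ M.map b.toMonoidHom).comap a.toMonoidHom := hy
            rw [h1, mem_bot] at h2
            rw [h2, map_one]
            exact one_mem _
          · intro x hx
            obtain ⟨y, hy, hyx⟩ := (mem_inf.mp (mem_comap.mp hx)).1
            have h2 : y = x := a.injective hyx
            rwa [← h2]
        rintro _ ⟨x, hx, rfl⟩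
        have h2 : x ∈ M := hx
        rw [← h1] at h2
        exact (mem_inf.mp (mem_comap.mp h2)).2
      have hcomm : ∀ a b : MulAut G, M.map a.toMonoidHom ≠ M.map b.toMonoidHom →
          ∀ x ∈ M.map a.toMonoidHom, ∀ y ∈ M.map b.toMonoidHom, Commute x y := by
        intro a b hne x hx y hy
        have h1 : M.map a.toMonoidHom ⊓ M.map b.toMonoidHom = ⊥ := by
          by_contra h1
          exact hne (le_antisymm (hle a b h1) (hle b a (by rwa [inf_comm])))
        exact Subgroup.commute_of_normal_of_disjoint _ _ (hmap a) (hmap b) (disjoint_iff.mpr h1) x y hx hy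
      have hMe : M.map (1 : MulAut G).toMonoidHom = M := by
        ext x
        constructor
        · rintro ⟨y, hy, rfl⟩; exact hy
        · intro hx; exact ⟨x, hx, rfl⟩
      -- the stabiliser of `M`
      let A1 : Subgroup (MulAut G) :=
        { carrier := {a | a ∈ A ∧ ∀ x, a x ∈ M ↔ x ∈ M}
          mul_mem' := fun {a b} ha hb => ⟨mul_mem ha.1 hb.1, fun x => by
            rw [MulAut.mul_apply, ha.2, hb.2]⟩
          one_mem' := ⟨one_mem _, fun x => Iff.rfl⟩
          inv_mem' := fun {a} ha => ⟨inv_mem ha.1, fun x => by
            rw [← ha.2, MulAut.apply_inv_self]⟩ }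
      have hA1A : A1 ≤ A := fun a ha => ha.1
      have hA1n : Group.IsNilpotent A1 :=
        Group.nilpotent_of_mulEquiv (subgroupOfEquivOfLe hA1A)
      have hA1 : ∀ a ∈ A, M.map a.toMonoidHom = M → a ∈ A1 := by
        intro a ha h1
        refine ⟨ha, fun x => ⟨fun hx => ?_, fun hx => ?_⟩⟩
        · rw [← h1] at hx
          obtain ⟨y, hy, hyx⟩ := hx
          have h2 : y = x := a.injective hyx
          rwa [← h2]
        · rw [← h1]
          exact ⟨x, hx, rfl⟩
      have hfix1 : ∀ m ∈ M, (∀ a ∈ A1, a m = m) → m = 1 := by
        intro m hm hma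
        obtain ⟨c, hc, hmc⟩ := exists_mul_eq_one (G := G) (A := A) hfix (x := m) (by
          intro a ha b hb hne
          refine hcomm a b (fun h1 => hne ?_) _ ⟨m, hm, rfl⟩ _ ⟨m, hm, rfl⟩
          have h2 : b⁻¹ * a ∈ A1 := by
            refine hA1 _ (mul_mem (inv_mem hb) ha) ?_
            ext x
            constructor
            · rintro ⟨y, hy, rfl⟩
              have h3 : a y ∈ M.map b.toMonoidHom := by
                rw [← h1]
                exact ⟨y, hy, rfl⟩
              obtain ⟨z, hz, hzy⟩ := h3
              have h4 : (b⁻¹ * a) y = z := by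
                rw [MulAut.mul_apply]
                have h5 : a y = b z := hzy.symm
                rw [h5, MulAut.inv_apply_self]
              change (b⁻¹ * a) y ∈ M
              rw [h4]
              exact hz
            · intro hx
              have h3 : b x ∈ M.map a.toMonoidHom := by
                rw [h1]
                exact ⟨x, hx, rfl⟩
              obtain ⟨z, hz, hzy⟩ := h3
              refine ⟨z, hz, ?_⟩
              change (b⁻¹ * a) z = x
              rw [MulAut.mul_apply]
              have h5 : a z = b x := hzy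
              rw [h5, MulAut.inv_apply_self]
          have h3 := hma _ h2
          rw [MulAut.mul_apply] at h3
          have h4 := congrArg b h3
          rwa [MulAut.apply_inv_self] at h4)
        have h1 : ∀ y ∈ M, Commute c y := by
          intro y hy
          have h2 : closure {y : G | y ≠ m ∧ ∃ a ∈ A, y = a m} ≤ centralizer (M : Set G) := by
            rw [closure_le]
            rintro z ⟨hz1, a, ha, rfl⟩
            change a m ∈ centralizer (M : Set G)
            rw [mem_centralizer_iff]
            intro w hw
            have h3 : M.map (1 : MulAut G).toMonoidHom ≠ M.map a.toMonoidHom := by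
              intro h4
              rw [hMe] at h4
              exact hz1 (hma a (hA1 a ha h4.symm))
            exact hcomm _ _ h3 w (by rw [hMe]; exact hw) (a m) ⟨m, hm, rfl⟩
          exact (mem_centralizer_iff.mp (h2 hc) y hy).symm
        have h2 : m ∈ M ⊓ centralizer (M : Set G) := by
          refine mem_inf.mpr ⟨hm, mem_centralizer_iff.mpr fun y hy => ?_⟩
          have h3 : m = c⁻¹ := eq_inv_of_mul_eq_one_left hmc
          rw [h3]
          exact ((h1 y hy).symm.inv_right).eq
        have h3 : (M ⊓ centralizer (M : Set G)).Normal := by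
          have := hMn
          infer_instance
        have h4 : Group.IsSolvable (M ⊓ centralizer (M : Set G) : Subgroup G) := by
          refine Group.isSolvable_of_comm fun x y => ?_
          apply Subtype.ext
          exact (mem_centralizer_iff.mp (mem_inf.mp x.2).2 y (mem_inf.mp y.2).1).symm
        have h5 := hRmax _ h3 h4
        rw [hR] at h5
        exact mem_bot.mp (h5 h2)
      by_cases hMt : M = ⊤
      · -- `G` is simple
        have hsimp : IsSimpleGroup G :=
          { exists_pair_ne := ⟨g0, 1, hg0⟩
            eq_bot_or_eq_top_of_normal := fun K hK => by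
              by_cases hK1 : K = ⊥
              · exact Or.inl hK1
              · right
                rw [← hMt]
                exact hMmin' K hK hK1 (by rw [hMt]; exact le_top) }
        refine hS G (fun hcm => hMs ?_) A ⟨hA, hfix, hsub⟩
        have := Group.isSolvable_of_comm hcm
        infer_instance
      · exact hMs (FpfSolv.sub ih hA1n (hcard hMt) (fun a ha h hh => (ha.2 h).mpr hh) fun g hg hga => hfix1 g hg hga)
  · -- the radical is a proper invariant normal subgroup
    by_cases hRt : R = ⊤
    · rw [hRt] at hRs
      exact Group.isSolvable_of_surjective (f := (topEquiv : (⊤ : Subgroup G) ≃* G).toMonoidHom)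
        (topEquiv : (⊤ : Subgroup G) ≃* G).surjective
    have hRn : R.Normal := inferInstance
    have hcardq : Nat.card (G ⧸ R) < n := by
      rw [← hG, card_eq_card_quotient_mul_card_subgroup R]
      have h1 : 1 < Nat.card R := by
        have : Nontrivial R := (Subgroup.nontrivial_iff_ne_bot R).mpr hR
        exact Finite.one_lt_card
      exact lt_mul_of_one_lt_right Nat.card_pos h1
    refine solvable_of_normal R hRs ((ih _ hcardq).hom rfl (quotHom R hRA) hA fun y hy => ?_)
    induction y using QuotientGroup.induction_on with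
    | _ x =>
    have hxA : ∀ a ∈ A, x⁻¹ * a x ∈ R := by
      intro a ha
      have h1 := hy ⟨a, ha⟩
      rw [quotHom_mk] at h1
      exact QuotientGroup.eq.mp h1.symm
    rw [QuotientGroup.eq_one_iff]
    -- the subgroup `H = R⟨x⟩`
    let H : Subgroup G := R ⊔ zpowers x
    have hRH : R ≤ H := le_sup_left
    have hxH : x ∈ H := mem_sup_right (mem_zpowers x)
    have hHA : ∀ a ∈ A, ∀ h ∈ H, a h ∈ H := by
      intro a ha
      have h1 : H ≤ H.comap a.toMonoidHom := by
        refine sup_le (fun y hy => hRH (hRA a ha y hy)) ?_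
        rw [zpowers_le]
        change a x ∈ H
        have h2 := mul_mem hxH (hRH (hxA a ha))
        rwa [mul_inv_cancel_left] at h2
      exact fun h hh => h1 hh
    have hHs : Group.IsSolvable H := by
      have h1 : (R.subgroupOf H).Normal := inferInstance
      have h2 : Group.IsSolvable (R.subgroupOf H) :=
        Group.isSolvable_of_surjective (f := (subgroupOfEquivOfLe hRH).symm.toMonoidHom)
          (subgroupOfEquivOfLe hRH).symm.surjective
      refine solvable_of_normal (R.subgroupOf H) h2 ?_
      have hz : ∀ y ∈ H, (QuotientGroup.mk' R y) ∈ zpowers (QuotientGroup.mk' R x) := by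
        intro y hy
        have h3 : H ≤ (zpowers (QuotientGroup.mk' R x)).comap (QuotientGroup.mk' R) := by
          refine sup_le (fun w hw => ?_) ?_
          · rw [mem_comap]
            have h4 : QuotientGroup.mk' R w = 1 := (QuotientGroup.eq_one_iff _).mpr hw
            rw [h4]
            exact one_mem _
          · rw [zpowers_le]
            exact mem_zpowers _
        exact h3 hy
      refine Group.isSolvable_of_comm fun y z => ?_
      induction y using QuotientGroup.induction_on with
      | _ y =>
      induction z using QuotientGroup.induction_on with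
      | _ z =>
      rw [← QuotientGroup.mk_mul, ← QuotientGroup.mk_mul]
      refine QuotientGroup.eq.mpr ?_
      rw [mem_subgroupOf]
      refine (QuotientGroup.eq_one_iff _).mp ?_
      obtain ⟨i, hi⟩ := hz y y.2
      obtain ⟨j, hj⟩ := hz z z.2
      change QuotientGroup.mk' R (((y * z)⁻¹ * (z * y) : H) : G) = 1
      have h3 : QuotientGroup.mk' R y * QuotientGroup.mk' R z = QuotientGroup.mk' R z * QuotientGroup.mk' R y := by
        rw [← hi, ← hj]
        exact (Commute.refl (QuotientGroup.mk' R x)).zpow_zpow i j
      have h4 : (((y * z)⁻¹ * (z * y) : H) : G) = ((y : G) * z)⁻¹ * (z * y) := rfl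
      rw [h4, map_mul, map_inv, map_mul, map_mul, h3]
      group
    let _ := actOn hHA
    have h1 : (R.subgroupOf H).Normal := inferInstance
    have h2 := FpfAct.mem_of_fixed_mod (G := H) (B := A) hHs hA (fun g hg => Subtype.ext (hfix g fun a ha =>
      congrArg Subtype.val (hg ⟨a, ha⟩))) (R.subgroupOf H) (fun b n hn => by
        rw [mem_subgroupOf] at hn ⊢
        exact hRA b b.2 n hn) (x := ⟨x, hxH⟩) (fun b => by
        rw [mem_subgroupOf]
        exact hxA b b.2)
    rwa [mem_subgroupOf] at h2

end Cfsg.Agent.H523
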