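import Mathlib
import Cfsg.Agent.FixOdd.TwOf
import Cfsg.Agent.FixBN.OfBN
import Cfsg.Agent.FixBN.Split
import Cfsg.Agent.S0320
import Cfsg.Agent.Tits.Opp
import Cfsg.Agent.H523.FpfPre

/-!
# Fixed-point-free nilpotent groups of automorphisms and split (B,N)-pairs (helper523)

`S` simple with a split (B,N)-pair of characteristic `r`, `A` a nilpotent group of automorphisms, `C_S(A) = 1`, all
proper `A`-invariant subgroups solvable. Then `A` normalises no Sylow `r`-subgroup: it would act, together with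
`B × B`, on the big double coset `B w₀ B`, so it would fix an element of it.
-/

set_option autoImplicit false
set_option linter.unusedSectionVars false

namespace Cfsg.Agent.H523

open Subgroup Pointwise
open Cfsg.Agent.Tits.Core Cfsg.Agent.Tits.Core.Bldg Cfsg.Agent.Tits.OfBN Cfsg.Agent.Schreier.BNSch
open Cfsg.Agent.FixBN (HasSplit Split)

universe u

variable {S : Type u} [Group S] [Finite S] {A : Subgroup (MulAut S)} {r : ℕ} [hr : Fact r.Prime]

/-- **Double cosets.** A solvable invariant subgroup `B` and a nonempty invariant set `D` on which `B × B` is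
transitive: then `1 ∈ D`. -/
theorem Pre.one_mem_of_double (h : Pre S A) {B : Subgroup S} (hB1 : B ≠ ⊤) (hB : ∀ a ∈ A, ∀ b ∈ B, a b ∈ B)
    {D : Set S} (hD : ∀ a ∈ A, ∀ d ∈ D, a d ∈ D) (htr : ∀ d ∈ D, ∀ d' ∈ D, ∃ b ∈ B, ∃ b' ∈ B, d' = b * d * b'⁻¹)
    {d : S} (hd : d ∈ D) : ∃ b ∈ B, ∃ b' ∈ B, b * d * b'⁻¹ = 1 := by
  let _ := actOn hB
  let _ : MulAction (B × B) S :=
    { smul := fun x s => (x.1 : S) * s * (x.2 : S)⁻¹
      one_smul := fun s => by
        change ((1 : B) : S) * s * ((1 : B) : S)⁻¹ = s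
        simp
      mul_smul := fun x y s => by
        change ((x.1 * y.1 : B) : S) * s * ((x.2 * y.2 : B) : S)⁻¹ = x.1 * (y.1 * s * (y.2 : S)⁻¹) * (x.2 : S)⁻¹
        rw [Subgroup.coe_mul, Subgroup.coe_mul]
        group }
  have hsol : Group.IsSolvable B := h.sol B hB1 hB
  obtain ⟨g, hg⟩ := FpfAct.exists_fixed (G := B × B) (B := A) (Ω := S) inferInstance h.nil (by
    rintro ⟨x, y⟩ hxy
    have h1 : x = 1 := h.fix' hB x fun a => congrArg Prod.fst (hxy a)
    have h2 : y = 1 := h.fix' hB y fun a => congrArg Prod.snd (hxy a)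
    rw [h1, h2]
    rfl) (by
    rintro a ⟨x, y⟩ s
    change (a : MulAut S) (x * s * (y : S)⁻¹) = (a : MulAut S) x * (a : MulAut S) s * ((a : MulAut S) y)⁻¹
    rw [map_mul, map_mul, map_inv]) d (by
    intro a
    obtain ⟨b, hb, b', hb', e⟩ := htr d hd _ (hD a a.2 d hd)
    exact ⟨(⟨b, hb⟩, ⟨b', hb'⟩), e⟩)
  exact ⟨g.1, g.1.2, g.2, g.2.2, h.fix _ fun a ha => hg ⟨a, ha⟩⟩

/-- **No invariant Sylow `r`-subgroup.** -/
theorem Pre.not_sylow (hs : HasSplit r S) (h : Pre S A) (P : Sylow r S) :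
    ¬ ∀ a ∈ A, ∀ x ∈ (P : Subgroup S), a x ∈ (P : Subgroup S) := by
  intro hP
  obtain ⟨Q, U, hne, hsp⟩ := hs
  have hN : ((Q.B ⊓ Q.N).subgroupOf Q.N).Normal := normal_subgroupOf Q
  obtain ⟨M, cs, hcs⟩ := S0320.result Q
  have hI : Finite Q.S := FixBN.OfBN.finite_I (Equiv.refl Q.S)
  have hth := thick Q (Equiv.refl Q.S) cs hcs
  let Sy := FixBN.OfBN.sys (Equiv.refl Q.S) cs hcs hsp
  obtain ⟨x, hx⟩ := Sy.exists_fix P P.2
  have hPx : (P : Subgroup S) = Sy.U x := (P.3 (Sy.isP x) (Sy.max x P P.2 hx)).symm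
  have hUU : ∀ y, Sy.U y = FixBN.OfBN.UU Q U y := fun y => rfl
  -- chambers are determined by their groups
  have hinj : ∀ y z : S ⧸ Q.B, Sy.U y = Sy.U z → y = z := by
    intro y z hyz
    induction y using QuotientGroup.induction_on with
    | _ g =>
    induction z using QuotientGroup.induction_on with
    | _ k =>
    rw [FixBN.OfBN.mk_eq, ← hsp.normalizer_eq, mem_normalizer_iff]
    intro v
    have h1 : ∀ w, g⁻¹ * w * g ∈ U ↔ k⁻¹ * w * k ∈ U := by
      intro w
      rw [← FixBN.OfBN.mem_UU hsp, ← FixBN.OfBN.mem_UU hsp, ← hUU, ← hUU, hyz]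
    have h2 := h1 (k * v * k⁻¹)
    have e1 : k⁻¹ * (k * v * k⁻¹) * k = v := by group
    have e2 : g⁻¹ * (k * v * k⁻¹) * g = g⁻¹ * k * v * (g⁻¹ * k)⁻¹ := by group
    rw [e1, e2] at h2
    exact h2.symm
  have htw := fun a : MulAut S => FixOdd.exists_tw hsp (Equiv.refl Q.S) cs hcs a
  -- the elements of `A` fix `x`
  have hfx : ∀ a ∈ A, ∀ t : FixOdd.Tw (bldg Q (Equiv.refl Q.S) cs hcs) S, t.τ = a → t.θ x = x := by
    intro a ha t ht
    apply hinj
    have h1 : (P : Subgroup S) ≤ Sy.U (t.θ x) := by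
      refine Sy.max _ _ P.2 ?_
      intro v hv
      have h2 : a⁻¹ v ∈ (P : Subgroup S) := hP a⁻¹ (inv_mem ha) v hv
      have h3 := hx _ h2
      have h4 := t.θ_smul (a⁻¹ v) x
      rw [h3, ht, MulAut.apply_inv_self] at h4
      exact h4.symm
    rw [← hPx]
    exact (P.3 (Sy.isP _) h1)
  -- the big double coset
  let Δ := bldg Q (Equiv.refl Q.S) cs hcs
  let B : Subgroup S := MulAction.stabilizer S x
  let D : Set S := {g | Δ.Opp x (g • x)}
  have hB : ∀ a ∈ A, ∀ b ∈ B, a b ∈ B := by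
    intro a ha b hb
    obtain ⟨t, ht, -⟩ := htw a
    have h1 := t.θ_smul b x
    have h2 : b • x = x := hb
    rw [h2, hfx a ha t ht, ht] at h1
    exact h1.symm
  have hD : ∀ a ∈ A, ∀ d ∈ D, a d ∈ D := by
    intro a ha d hd
    obtain ⟨t, ht, -⟩ := htw a
    have h1 := t.θ_smul d x
    rw [hfx a ha t ht, ht] at h1
    change Δ.δ x (a d • x) = w0 cs
    rw [← h1]
    have h2 := t.δ_θ x (d • x)
    rw [hfx a ha t ht] at h2
    have h3 : Δ.δ x (d • x) = w0 cs := hd
    rw [h2, h3]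
    exact FixOdd.Cox.map_wJ t.φ_simple (fun i _ => Set.mem_univ _)
  obtain ⟨y, hy⟩ := Cfsg.Agent.Tits.Opp.exists_opp Δ x
  obtain ⟨d, hdx⟩ : ∃ d : S, d • x = y := by
    induction x using QuotientGroup.induction_on with
    | _ g =>
    induction y using QuotientGroup.induction_on with
    | _ k => exact ⟨k * g⁻¹, by rw [FixBN.OfBN.smul_mk, inv_mul_cancel_right]⟩
  have hd : d ∈ D := by
    change Δ.Opp x (d • x)
    rw [hdx]
    exact hy
  have hB1 : ∀ b ∈ B, b ∉ D := by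
    intro b hb hbD
    have h1 : Δ.δ x (b • x) = w0 cs := hbD
    have h2 : b • x = x := hb
    rw [h2, Cfsg.Agent.Tits.Opp.delta_self] at h1
    obtain ⟨s, hs⟩ := hne
    have h3 := (Cfsg.Agent.Tits.Exchange.isLongest_w0 cs).2 (cs.simple ⟨s, hs⟩)
      (Subgroup.subset_closure ⟨_, Set.mem_univ _, rfl⟩)
    rw [← h1, one_mul, mul_one, cs.length_one, cs.length_simple] at h3
    omega
  have hBtop : B ≠ ⊤ := by
    intro h1
    exact hB1 d (by rw [h1]; trivial) hd
  obtain ⟨b, hb, b', hb', e⟩ := h.one_mem_of_double hBtop hB hD (by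
    intro d hd d' hd'
    obtain ⟨u, hu, hud⟩ := Sy.trans x (d • x) (d' • x) hd hd'
    refine ⟨u, Sy.fix x u hu, d'⁻¹ * u * d, ?_, by group⟩
    change (d'⁻¹ * u * d) • x = x
    rw [mul_smul, mul_smul, hud, inv_smul_smul]) hd
  have h1 : d = b⁻¹ * b' := by
    have h2 : d = b⁻¹ * (b * d * b'⁻¹) * b' := by group
    rw [h2, e, mul_one]
  exact hB1 d (by rw [h1]; exact mul_mem (inv_mem hb) hb') hd

/-- The bad groups, from a split (B,N)-pair. -/
theorem Pre.bad_of_split [IsSimpleGroup S] (hna : ¬ ∀ a b : S, a * b = b * a) (hs : HasSplit r S) (h : Pre S A) :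
    Bad r S A := h.bad hna (h.not_sylow hs)

end Cfsg.Agent.H523
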