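import Mathlib
import Cfsg.Agent.H523.FpfSplit
import Cfsg.Agent.H523.FpfReduce
import Cfsg.Agent.H523.FpfCycFam
import Cfsg.Agent.H679.Table
import Cfsg.Agent.S0205

/-!
# Fixed-point-free nilpotent groups of automorphisms: the known simple groups (helper523)

* `not_pre_of_outTwo` : the simple groups whose outer automorphism group is a `2`-group;
* `not_pre_known` : all known simple groups, given `NoBad r S` for the groups of Lie type of characteristic `r`.
-/

set_option autoImplicit false
set_option linter.unusedSectionVars false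

namespace Cfsg.Agent.H523

open Subgroup Cfsg Cfsg.Agent.FixBN Cfsg.Agent.H679

universe u

variable {S : Type u} [Group S] [Finite S] [IsSimpleGroup S]

theorem two_dvd (hna : ¬ ∀ a b : S, a * b = b * a) : 2 ∣ Nat.card S := by
  by_contra h2
  have h3 : Odd (Nat.card S) := by
    rw [← Nat.not_even_iff_odd, even_iff_two_dvd]
    exact h2
  have h4 : Group.IsSolvable S := S0205.result h3
  exact hna ((IsSimpleGroup.comm_iff_isSolvable (G := S)).2 h4)

/-- the outer automorphism group is a `2`-group -/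
theorem not_pre_of_outTwo (hna : ¬ ∀ a b : S, a * b = b * a) (hO : OutTwo S) (A : Subgroup (MulAut S)) :
    ¬ Pre S A := by
  intro h
  have : Fact (Nat.Prime 2) := ⟨Nat.prime_two⟩
  have hA : IsPGroup 2 A := by
    intro a
    obtain ⟨n, g, hg⟩ := hO a
    exact ⟨n, Subtype.ext (h.inn hna _ (pow_mem a.2 _) ⟨g, hg.symm⟩)⟩
  obtain ⟨s, hs, hs1⟩ := hA.exists_fixed_point_of_prime_dvd_card_of_fixed_point S (two_dvd hna) (a := 1)
    (fun a => map_one (a : MulAut S))
  exact hs1 (h.fix s fun a ha => hs ⟨a, ha⟩).symm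

/-- `r` divides the order of `S` -/
theorem Pre.dvd_card {r : ℕ} [hr : Fact r.Prime] {A : Subgroup (MulAut S)} (h : Pre S A) (hs : HasSplit r S) :
    r ∣ Nat.card S := by
  by_contra hn
  obtain ⟨P⟩ : Nonempty (Sylow r S) := inferInstance
  have h1 : (P : Subgroup S) = ⊥ := by
    obtain ⟨n, hn'⟩ := IsPGroup.iff_card.mp P.2
    have h2 : Nat.card (P : Subgroup S) ∣ Nat.card S := card_subgroup_dvd_card _
    have h3 : n = 0 := by
      by_contra hn0
      exact hn ((dvd_pow_self r hn0).trans (hn' ▸ h2))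
    rw [h3, pow_zero] at hn'
    exact Subgroup.card_eq_one.mp hn'
  refine h.not_sylow hs P fun a _ x hx => ?_
  rw [h1, mem_bot] at hx
  rw [hx, map_one]
  exact one_mem _

/-- What the families of Lie type have to provide. -/
def LieNoBad : Prop :=
  ∀ (r : ℕ), r.Prime → ∀ (S : Type u) [Group S] [Finite S] [IsSimpleGroup S], (¬ ∀ a b : S, a * b = b * a) →
    2 ∣ Nat.card S → r ∣ Nat.card S → IsLieTypeChar r S → NoBad r S

theorem not_pre_lie (hL : LieNoBad.{u}) (hna : ¬ ∀ a b : S, a * b = b * a) {r : ℕ} (hr : r.Prime)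
    (hs : IsLieTypeChar r S) (A : Subgroup (MulAut S)) : ¬ Pre S A := by
  intro h
  have : Fact r.Prime := ⟨hr⟩
  have hsp := hasSplit_of_lie hr hs
  exact hL r hr S hna (two_dvd hna) (h.dvd_card hsp) hs A (h.bad_of_split hna hsp)

/-- **The known simple groups.** -/
theorem not_pre_known (hL : LieNoBad.{u}) (hna : ¬ ∀ a b : S, a * b = b * a) (h : IsKnownSimple' S)
    (A : Subgroup (MulAut S)) : ¬ Pre S A := by
  rcases OddHalf.Known.classify (fun hc => hna hc.is_comm.comm) h with
    ⟨n, hn, ⟨e⟩⟩ | ⟨p, hp, -, h⟩ | (h | h) | h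
  · by_cases h6 : n = 6
    · subst h6
      exact not_pre_lie hL hna Nat.prime_three (isLie_six ⟨e⟩) A
    · exact not_pre_of_outTwo hna ((outTwo_alt hn h6).congr e) A
  · exact not_pre_lie hL hna hp h A
  · exact not_pre_lie hL hna Nat.prime_two h A
  · exact not_pre_of_outTwo hna (SporOut.tits h) A
  · exact not_pre_of_outTwo hna (outTwo_sporadic h) A

/-- **The theorem**, given `LieNoBad` and the classification. -/
theorem solvable_of_fpf (hL : LieNoBad.{u})
    (hK : ∀ (X : Type u) [Group X] [Finite X] [IsSimpleGroup X], IsKnownSimple' X)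
    {G : Type u} [Group G] [Finite G] {A : Type*} [Group A] [MulDistribMulAction A G] (hA : Group.IsNilpotent A)
    (hCF : ∀ g : G, (∀ a : A, a • g = g) → g = 1) : Group.IsSolvable G :=
  (fpfSolv (fun X _ _ _ hna B => not_pre_known hL hna (hK X) B) (Nat.card G)).hom rfl
    (MulDistribMulAction.toMulAut A G) hA hCF

end Cfsg.Agent.H523
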