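import Mathlib
import Cfsg.Agent.H523.FpfFinal
import Cfsg.Agent.H864.NoBadPSL
import Cfsg.Agent.H582.FpfPSURow
import Cfsg.Agent.H521.OddFixSymp
import Cfsg.Agent.H521.OddFixOrth
import Cfsg.Agent.H521.FpfThree
import Cfsg.Agent.H522.FldUntw
import Cfsg.Agent.H522.FldSix

/-!
# No bad groups of automorphisms of the groups of Lie type (helper523)

The assembly of the work of helper521, helper522, helper582, helper864 and helper523: `lieNoBad : LieNoBad`.
-/

set_option autoImplicit false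

namespace Cfsg.Agent.H523

open Subgroup Cfsg

universe u

/-- **All families of Lie type.** -/
theorem lieNoBad : LieNoBad.{u} := by
  intro r hr S _ _ _ hna h2 hrS h
  rcases h with h | h | h | h | h | h | h | h | ⟨rfl, h⟩ | ⟨rfl, h⟩ | ⟨rfl, h⟩
  · exact Cfsg.Agent.H864.NoBadPSL.noBad_of_char h
  · exact Cfsg.Agent.H521.OddFixSymp.noBad_psp hr h2 hrS h
  · exact Cfsg.Agent.H582.FpfPSU.noBad_psu hr h h2 hrS
  · exact noBad_of_oddFix hr h2 hrS (Cfsg.Agent.H521.OddFixOrth.oddFix_odd h)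
  · exact noBad_of_oddFix hr h2 hrS (Cfsg.Agent.H521.FpfThree.oddFix_plus' h)
  · exact noBad_of_oddFix hr h2 hrS (Cfsg.Agent.H521.OddFixOrth.oddFix_minus h)
  · exact noBad_of_oddFix hr h2 hrS (Cfsg.Agent.H522.FldUntw.oddFix_exceptional hr h)
  · obtain ⟨K, _, _, _, q, hq, h⟩ := h
    rcases h with ⟨hK, ⟨e⟩⟩ | ⟨hK, ⟨e⟩⟩
    · exact noBad_of_oddFix hr h2 hrS (Cfsg.Agent.H522.FldSix.oddFix_iso hr hq hK e)
    · have : Fact r.Prime := ⟨hr⟩
      exact ((TwD4.cycOut hq hK r).congr e.symm).noBad hr hrS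
  · exact (cycOut_suzuki h).noBad hr hrS
  · exact (cycOut_twF4 h).noBad hr hrS
  · exact (cycOut_ree h).noBad hr hrS

end Cfsg.Agent.H523
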