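import Cfsg.Agent.H523.DspNF
import Cfsg.Agent.Nodes.MuSq
import Cfsg.Agent.Nodes.CardSup

/-!
# Second step: centralisers of elements of unipotent radicals
-/

set_option autoImplicit false
set_option linter.unusedSectionVars false
set_option linter.unusedVariables false

namespace Cfsg.Agent.H523.DspAlg

open CoxeterSystem Cfsg.Agent.ChevalleyStructure.CoxeterGeom Cfsg.Agent.Tits.Roots Cfsg.Agent.Tits.Core
  Cfsg.Agent.Tits.RootComb Cfsg.Agent.Nodes.Comb Cfsg.Agent.Nodes.Reps Cfsg.Agent.Nodes.BNOf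
  Cfsg.Agent.Nodes.LeviDec Cfsg.Agent.Nodes.Bruhat Cfsg.Agent.Nodes.StabComb Cfsg.Agent.Nodes.MuSq
  Cfsg.Agent.Nodes.Coroot Cfsg.Agent.H523.Dsp Cfsg.Agent.H523.DspNF Cfsg.Agent.Nodes
open scoped commutatorElement

universe v

variable {I W : Type*} {Y : Type v} [Fintype I] [DecidableEq I] [Group W] [Group Y] {M : CoxeterMatrix I}
  {cs : CoxeterSystem M W} {A : I → I → ℤ} {h : IsCartan M A} {p : ℕ} {T : Subgroup Y} {n : I → Y}
  {X : (I → ℤ) → Subgroup Y} [Finite W]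

/-! ### Commutators modulo a subgroup -/

/-- the centraliser of `y` modulo `K` in the normaliser of `K` -/
def cmod (K : Subgroup Y) (y : Y) : Subgroup Y where
  carrier := {s | s ∈ Subgroup.normalizer (K : Set Y) ∧ s * y * s⁻¹ * y⁻¹ ∈ K}
  one_mem' := ⟨one_mem _, by simp [one_mem]⟩
  mul_mem' := by
    rintro s t ⟨hs, hs'⟩ ⟨ht, ht'⟩
    refine ⟨mul_mem hs ht, ?_⟩
    have h1 := (Subgroup.mem_normalizer_iff.1 hs _).1 ht'
    have h2 : s * t * y * (s * t)⁻¹ * y⁻¹ = s * (t * y * t⁻¹ * y⁻¹) * s⁻¹ * (s * y * s⁻¹ * y⁻¹) := by group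
    rw [h2]
    exact mul_mem h1 hs'
  inv_mem' := by
    rintro s ⟨hs, hs'⟩
    refine ⟨inv_mem hs, ?_⟩
    have h1 := (Subgroup.mem_normalizer_iff.1 (inv_mem hs) _).1 (inv_mem hs')
    have h2 : s⁻¹ * (s * y * s⁻¹ * y⁻¹)⁻¹ * s⁻¹⁻¹ = s⁻¹ * y * s⁻¹⁻¹ * y⁻¹ := by group
    rwa [h2] at h1

theorem mem_cmod {K : Subgroup Y} {y s : Y} :
    s ∈ cmod K y ↔ s ∈ Subgroup.normalizer (K : Set Y) ∧ s * y * s⁻¹ * y⁻¹ ∈ K := Iff.rfl

theorem comm_Sup {K : Subgroup Y} {P Q : Set (I → ℤ)} (hP : ∀ a ∈ P, X a ≤ Subgroup.normalizer (K : Set Y))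
    (hQ : ∀ b ∈ Q, X b ≤ Subgroup.normalizer (K : Set Y))
    (hc : ∀ a ∈ P, ∀ b ∈ Q, ∀ s ∈ X a, ∀ y ∈ X b, s * y * s⁻¹ * y⁻¹ ∈ K) {s y : Y} (hs : s ∈ RGD.Sup X P)
    (hy : y ∈ RGD.Sup X Q) : s * y * s⁻¹ * y⁻¹ ∈ K := by
  have h1 : ∀ b ∈ Q, ∀ y ∈ X b, RGD.Sup X P ≤ cmod K y := fun b hb y hy =>
    RGD.Sup_le fun a ha s hs => ⟨hP a ha hs, hc a ha b hb s hs y hy⟩
  have h2 : RGD.Sup X Q ≤ cmod K s := RGD.Sup_le fun b hb y hy => by
    refine ⟨hQ b hb hy, ?_⟩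
    have h3 := inv_mem (h1 b hb y hy hs).2
    have h4 : (s * y * s⁻¹ * y⁻¹)⁻¹ = y * s * y⁻¹ * s⁻¹ := by group
    rwa [h4] at h3
  have h3 := inv_mem (h2 hy).2
  have h4 : (y * s * y⁻¹ * s⁻¹)⁻¹ = s * y * s⁻¹ * y⁻¹ := by group
  rwa [h4] at h3

section

variable (R : RGD cs h p T n X)

include R

/-! ### The free action -/

/-- **The free action.** -/
theorem free_of {β : I → ℤ} (hβ : IsRoot cs h β) {f g ell : (I → ℤ) →+ ℤ} {P Q : Set (I → ℤ)}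
    (hpos : ∀ z, IsRoot cs h z → 0 < g z → 0 ≤ f z) (hβf : 0 < f β) (hβg : g β = 0) (hβl : ell β < 0)
    (hP : ∀ a ∈ P, IsRoot cs h a ∧ f a = 0 ∧ 0 < g a ∧ 0 < ell a ∧ ∀ z, ¬ Btwn cs h (-β) a z)
    (hP' : ∀ a ∈ P, 0 < f (a - cpr cs h a β • β) ∧ ell (a - cpr cs h a β • β) = 0 ∧ 0 < g (a - cpr cs h a β • β))
    (hQ : ∀ b ∈ Q, IsRoot cs h b ∧ 0 < f b ∧ 0 ≤ ell b) {x u s : Y} (hx : x ∈ X β) (hx1 : x ≠ 1)
    (hu : u ∈ RGD.Sup X Q) (hs : s ∈ RGD.Sup X P) (hsu : s * (x * u) = x * u * s) : s = 1 := by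
  have hWf : Fintype W := Fintype.ofFinite W
  obtain ⟨a', ha', b', hb', w, hw, -, hrep⟩ := exists_mu' R hβ (inv_mem hx) (inv_ne_one.2 hx1)
  obtain ⟨μ, hμ⟩ : ∃ μ, μ = a' * x⁻¹ * b' := ⟨_, rfl⟩
  rw [← hμ] at hw
  have hxi : x⁻¹ = a'⁻¹ * μ * b'⁻¹ := by rw [hμ]; group
  have hPne : ∀ a ∈ P, a ≠ β ∧ a ≠ -β := by
    intro a ha
    obtain ⟨-, h1, -, -, -⟩ := hP a ha
    constructor
    · rintro rfl; omega
    · rintro rfl
      rw [map_neg] at h1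
      omega
  -- `s` commutes with `X (-β)`
  have hcomm : ∀ t ∈ X (-β), t * s = s * t := by
    intro t ht
    have h1 : RGD.Sup X P ≤ Subgroup.centralizer ({t} : Set Y) := by
      refine RGD.Sup_le fun a ha v hv => ?_
      rw [Subgroup.mem_centralizer_singleton_iff]
      exact (comm_one R hβ.neg (hP a ha).1 (fun e => (hPne a ha).2 e.symm)
        (fun e => (hPne a ha).1 (neg_injective e).symm) (hP a ha).2.2.2.2 ht hv).symm
    exact (Subgroup.mem_centralizer_singleton_iff.1 (h1 hs)).symm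
  obtain ⟨s', hs'⟩ : ∃ s', s' = μ * s * μ⁻¹ := ⟨_, rfl⟩
  have hs'P : s' ∈ RGD.Sup X {z | IsRoot cs h z ∧ 0 < f z ∧ ell z = 0 ∧ 0 < g z} := by
    rw [hs']
    refine conj_mem_Sup R hw (S := P) (fun a ha => (hP a ha).1) (fun a ha => ?_) hs
    refine ⟨(hP a ha).1.act w, ?_⟩
    rw [hrep]
    exact hP' a ha
  have e1 : x⁻¹ * s * x = a'⁻¹ * s' * a' := by
    have h1 : x = b' * μ⁻¹ * a' := by
      rw [← inv_inv x, hxi]; group
    calc x⁻¹ * s * x = (a'⁻¹ * μ * b'⁻¹) * s * (b' * μ⁻¹ * a') := by rw [← hxi, ← h1]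
      _ = a'⁻¹ * μ * (b'⁻¹ * (s * b')) * μ⁻¹ * a' := by group
      _ = a'⁻¹ * μ * (b'⁻¹ * (b' * s)) * μ⁻¹ * a' := by rw [hcomm b' hb']
      _ = a'⁻¹ * (μ * s * μ⁻¹) * a' := by group
      _ = _ := by rw [hs']
  have e2 : x⁻¹ * s * x = u * s * u⁻¹ := by
    have h1 : x⁻¹ * (s * (x * u)) * u⁻¹ = x⁻¹ * (x * u * s) * u⁻¹ := by rw [hsu]
    calc x⁻¹ * s * x = x⁻¹ * (s * (x * u)) * u⁻¹ := by group
      _ = x⁻¹ * (x * u * s) * u⁻¹ := h1
      _ = u * s * u⁻¹ := by group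
  -- the subgroup `N`
  obtain ⟨N, hN⟩ : ∃ N : Set (I → ℤ), N = {z | IsRoot cs h z ∧ 0 < f z ∧ 0 < ell z} := ⟨_, rfl⟩
  have hNorm : ∀ z, IsRoot cs h z → 0 ≤ f z → 0 ≤ ell z → X z ≤ Subgroup.normalizer (RGD.Sup X N : Set Y) := by
    intro z hz h1 h2
    refine R.le_normalizer hz fun y hy => ?_
    rw [hN] at hy
    refine ⟨hy.1, Or.inr ⟨?_, fun t ht => ?_⟩⟩
    · rintro rfl
      have := hy.2.1
      rw [map_neg] at h1
      omega
    · rw [hN]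
      exact ⟨ht.1, Slope.btwn_pos' ht.symm f hy.2.1 h1, Slope.btwn_pos' ht.symm ell hy.2.2 h2⟩
  have hcN : u * s * u⁻¹ * s⁻¹ ∈ RGD.Sup X N := by
    refine comm_Sup (P := Q) (Q := P) (fun b hb => hNorm b (hQ b hb).1 (hQ b hb).2.1.le (hQ b hb).2.2)
      (fun a ha => hNorm a (hP a ha).1 (hP a ha).2.1.ge (hP a ha).2.2.2.1.le) (fun b hb a ha y hy v hv => ?_) hu hs
    have h1 : b ≠ a := by
      rintro rfl
      have := (hP b ha).2.1
      have := (hQ b hb).2.1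
      omega
    have h2 : b ≠ -a := by
      rintro rfl
      have h3 := (hQ _ hb).2.1
      rw [map_neg, (hP a ha).2.1] at h3
      omega
    refine comm_mem_Sup R (hQ b hb).1 (hP a ha).1 h1 h2 (fun z hz => ?_) hy hv
    rw [hN]
    exact ⟨hz.1, Slope.btwn_pos' hz f (hQ b hb).2.1 (hP a ha).2.1.ge,
      Slope.btwn_pos' hz.symm ell (hP a ha).2.2.2.1 (hQ b hb).2.2⟩
  -- the subgroup `G`
  obtain ⟨G, hG⟩ : ∃ G : Set (I → ℤ), G = {z | IsRoot cs h z ∧ 0 < g z ∧ 0 < ell z} := ⟨_, rfl⟩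
  have hGcl : Slope.Closed cs h G := by
    rw [hG]
    exact ⟨fun z hz => hz.1, fun y hy z hz t ht => ⟨ht.1, Slope.btwn_pos' ht g hy.2.1 hz.2.1.le,
      Slope.btwn_pos' ht ell hy.2.2 hz.2.2.le⟩⟩
  have hc : a'⁻¹ * s' * a'⁻¹⁻¹ * s'⁻¹ ∈ RGD.Sup X G := by
    refine comm_Sup (P := {-β}) (Q := {z | IsRoot cs h z ∧ 0 < f z ∧ ell z = 0 ∧ 0 < g z}) ?_ ?_ ?_
      (RGD.le_Sup (S := {-β}) rfl (inv_mem ha')) hs'P
    · rintro z rfl
      refine R.le_normalizer hβ.neg fun y hy => ?_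
      rw [hG] at hy
      refine ⟨hy.1, Or.inr ⟨?_, fun t ht => ?_⟩⟩
      · intro e
        have h1 : β = y := neg_injective e
        have h2 := hy.2.2
        rw [← h1] at h2
        omega
      · rw [hG]
        refine ⟨ht.1, Slope.btwn_pos' ht.symm g hy.2.1 (by rw [map_neg, hβg, neg_zero]),
          Slope.btwn_pos' ht.symm ell hy.2.2 (by rw [map_neg]; omega)⟩
    · intro z hz
      refine R.le_normalizer hz.1 fun y hy => ?_
      rw [hG] at hy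
      refine ⟨hy.1, Or.inr ⟨?_, fun t ht => ?_⟩⟩
      · intro e
        have h1 := hz.2.2.2
        rw [e, map_neg] at h1
        have := hy.2.1
        omega
      · rw [hG]
        exact ⟨ht.1, Slope.btwn_pos' ht.symm g hy.2.1 hz.2.2.2.le, Slope.btwn_pos' ht.symm ell hy.2.2 hz.2.2.1.ge⟩
    · rintro z rfl b hb v hv y hy
      have h1 : -β ≠ b := by
        rintro rfl
        have := hb.2.2.2
        rw [map_neg, hβg] at this
        omega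
      have h2 : -β ≠ -b := by
        intro e
        have h1 : β = b := neg_injective e
        subst h1
        have := hb.2.2.2
        omega
      refine comm_mem_Sup R hβ.neg hb.1 h1 h2 (fun t ht => ?_) hv hy
      rw [hG]
      exact ⟨ht.1, Slope.btwn_pos' ht.symm g hb.2.2.2 (by rw [map_neg, hβg, neg_zero]),
        Slope.btwn_pos' ht ell (by rw [map_neg]; omega) hb.2.2.1.ge⟩
  obtain ⟨c, hc1, σ, hσ, e3⟩ := Slope.split R hGcl g f (fun z hz => by rw [hG] at hz; exact hz.2.1) hc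
  have hcN' : c ∈ RGD.Sup X N := by
    refine RGD.Sup_mono ?_ hc1
    rintro z ⟨hz, h0⟩
    rw [hG] at hz
    rw [hN]
    exact ⟨hz.1, h0, hz.2.2⟩
  -- put together
  have e4 : a'⁻¹ * s' * a' = c * σ * s' := by
    have h1 : a'⁻¹ * s' * a' = (a'⁻¹ * s' * a'⁻¹⁻¹ * s'⁻¹) * s' := by group
    rw [h1, e3]
  obtain ⟨ν, hν⟩ : ∃ ν, ν = u * s * u⁻¹ * s⁻¹ := ⟨_, rfl⟩
  rw [← hν] at hcN
  have e5 : c * σ * s' = ν * s := by
    rw [← e4, ← e1, e2, hν]; group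
  -- `s' s⁻¹... `
  have hσN : σ ∈ Subgroup.normalizer (RGD.Sup X N : Set Y) := by
    have h1 : RGD.Sup X {z | z ∈ G ∧ f z ≤ 0} ≤ Subgroup.normalizer (RGD.Sup X N : Set Y) := by
      refine RGD.Sup_le fun z hz => ?_
      obtain ⟨hz, h0⟩ := hz
      rw [hG] at hz
      exact hNorm z hz.1 (hpos z hz.1 hz.2.1) hz.2.2.le
    exact h1 hσ
  have e6 : s' * s⁻¹ = σ⁻¹ * (c⁻¹ * ν) := by
    have h1 : s' = σ⁻¹ * c⁻¹ * (ν * s) := by rw [← e5]; group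
    rw [h1]; group
  have hσs : ∀ v ∈ RGD.Sup X {z | z ∈ G ∧ f z ≤ 0}, v ∈ RGD.Sup X {z | IsRoot cs h z ∧ f z ≤ 0 ∧ 0 < g z} := by
    intro v hv
    refine RGD.Sup_mono ?_ hv
    rintro z ⟨hz, h0⟩
    rw [hG] at hz
    exact ⟨hz.1, h0, hz.2.1⟩
  have hs2 : s ∈ RGD.Sup X {z | IsRoot cs h z ∧ f z ≤ 0 ∧ 0 < g z} :=
    RGD.Sup_mono (S := P) (S' := {z | IsRoot cs h z ∧ f z ≤ 0 ∧ 0 < g z})
      (fun a ha => ⟨(hP a ha).1, (hP a ha).2.1.le, (hP a ha).2.2.1⟩) hs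
  have e7 : s' * (s⁻¹ * (c⁻¹ * ν)⁻¹ * s) = σ⁻¹ * s := by
    have h1 : s' = σ⁻¹ * (c⁻¹ * ν) * s := by rw [← e6]; group
    rw [h1]; group
  have hNsub : ∀ v ∈ RGD.Sup X N, v ∈ RGD.Sup X {z | IsRoot cs h z ∧ 0 < f z} := fun v hv =>
    RGD.Sup_mono (fun z hz => by rw [hN] at hz; exact ⟨hz.1, hz.2.1⟩) hv
  have hsN : s ∈ Subgroup.normalizer (RGD.Sup X N : Set Y) := by
    have h1 : RGD.Sup X P ≤ Subgroup.normalizer (RGD.Sup X N : Set Y) :=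
      RGD.Sup_le fun a ha => hNorm a (hP a ha).1 (hP a ha).2.1.ge (hP a ha).2.2.2.1.le
    exact h1 hs
  have h8 : s⁻¹ * (c⁻¹ * ν)⁻¹ * s ∈ RGD.Sup X N := by
    have h9 := (Subgroup.mem_normalizer_iff.1 (inv_mem hsN) _).1 (inv_mem (mul_mem (inv_mem hcN') hcN))
    rwa [inv_inv] at h9
  have h9 : σ⁻¹ * s = 1 := by
    refine Slope.sup_inf_sup' R f g (u := σ⁻¹ * s) ?_ (mul_mem (inv_mem (hσs _ hσ)) hs2)
    rw [← e7]
    refine mul_mem (RGD.Sup_mono (S := {z | IsRoot cs h z ∧ 0 < f z ∧ ell z = 0 ∧ 0 < g z})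
      (S' := {z | IsRoot cs h z ∧ 0 < f z}) (fun z hz => ⟨hz.1, hz.2.1⟩) hs'P) (hNsub _ h8)
  have h10 : s' ∈ RGD.Sup X N := by
    rw [h9] at e7
    rw [eq_inv_of_mul_eq_one_left e7]
    exact inv_mem h8
  have h11 : s' = 1 := by
    refine Slope.sup_inf_sup' R ell f (u := s') ?_ ?_
    · exact RGD.Sup_mono (fun z hz => by rw [hN] at hz; exact ⟨hz.1, hz.2.2⟩) h10
    · exact RGD.Sup_mono (S := {z | IsRoot cs h z ∧ 0 < f z ∧ ell z = 0 ∧ 0 < g z})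
        (S' := {z | IsRoot cs h z ∧ ell z ≤ 0 ∧ 0 < f z}) (fun z hz => ⟨hz.1, hz.2.2.1.le, hz.2.1⟩) hs'P
  rw [h11] at hs'
  have : s = μ⁻¹ * (μ * s * μ⁻¹) * μ := by group
  rw [this, ← hs']; group

/-! ### The index -/

omit R in
theorem card_mul_le {D S U : Subgroup Y} [Finite Y] (hD : D ≤ U) (hS : S ≤ U) (hd : ∀ x ∈ D, x ∈ S → x = 1) :
    Nat.card D * Nat.card S ≤ Nat.card U := by
  have h1 : Disjoint D S := by
    rw [Subgroup.disjoint_def]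
    exact fun {x} hx hx' => hd x hx hx'
  rw [← Nat.card_prod]
  refine Nat.card_le_card_of_injective (fun g : D × S => (⟨g.1 * g.2, mul_mem (hD g.1.2) (hS g.2.2)⟩ : U)) ?_
  intro a b hab
  exact Subgroup.mul_injective_of_disjoint h1 (congrArg Subtype.val hab)

omit R in
theorem card_le_mul_index [Finite Y] (U H : Subgroup Y) : Nat.card U ≤ Nat.card (U ⊓ H : Subgroup Y) * H.index := by
  have h1 := (H.subgroupOf U).card_mul_index
  have h2 : Nat.card (H.subgroupOf U) = Nat.card (U ⊓ H : Subgroup Y) := by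
    rw [inf_comm, ← Subgroup.card_subtype U (H.subgroupOf U), Subgroup.subgroupOf_map_subtype]
  have h3 : (H.subgroupOf U).index ≤ H.index := by
    have h4 := Subgroup.relIndex_le_of_le_right (H := H) (K := U) (L := ⊤) le_top (by
      rw [Subgroup.relIndex_top_right]; exact Subgroup.FiniteIndex.index_ne_zero)
    rwa [Subgroup.relIndex_top_right] at h4
  rw [← h1, h2]
  exact Nat.mul_le_mul_left _ h3

/-- **The index from the second step.** -/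
theorem index_of [Finite Y] {τ : MulAut Y} {i₀ : I} {w : W} {m u k : Y} (hm : Rp cs R.nsys w m)
    (hw0 : ∀ x, IsRoot cs h x → 0 ≤ x → 0 ≤ rep cs h w⁻¹ x → x i₀ = 0)
    (hu : u ∈ VJ cs h X ({i₀}ᶜ : Set I)) (hk : k ∈ LJ cs h T X ({i₀}ᶜ : Set I))
    (wd : ∀ b ∈ RGD.B cs h T X, m⁻¹ * τ b * m ∈ RGD.B cs h T X)
    (one : (k * m)⁻¹ * (τ k * m) ∈ RGD.B cs h T X) (two : (u * k * m)⁻¹ * (τ (k * m) * m) ∈ RGD.B cs h T X)
    {S : Subgroup Y} (hS : S ≤ UJ cs h X ({i₀}ᶜ : Set I))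
    (hfree : ∀ s ∈ S, s * (k⁻¹ * u * k) = k⁻¹ * u * k * s → s = 1) :
    Nat.card ↥(VJ cs h X ({i₀}ᶜ : Set I)) * Nat.card S ≤ (fix τ).index := by
  obtain ⟨H, hH⟩ : ∃ H : Subgroup Y, H = (fix τ).comap (MulAut.conj k).toMonoidHom := ⟨_, rfl⟩
  have hHi : H.index = (fix τ).index := by
    rw [hH, Subgroup.index_comap_of_surjective]
    exact (MulAut.conj k).surjective
  have hU : Nat.card (RGD.Sup X (RGD.Pos cs h)) =
      Nat.card ↥(UJ cs h X ({i₀}ᶜ : Set I)) * Nat.card ↥(VJ cs h X ({i₀}ᶜ : Set I)) :=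
    CardSup.card_mul_of_disjoint (UJ_le_U _) (VJ_le_U _) (fun g hg => (mem_U_iff R).1 hg) (UJ_inf_VJ R _)
  have hsub : {x | IsRoot cs h x ∧ 0 ≤ x ∧ 0 ≤ rep cs h w⁻¹ x} ⊆ PosJ cs h ({i₀}ᶜ : Set I) := by
    rintro x ⟨h1, h2, h3⟩
    refine ⟨h1, h2, fun j hj => ?_⟩
    have h4 : j = i₀ := by simpa using hj
    rw [h4]
    exact hw0 x h1 h2 h3
  have hvk : k⁻¹ * u * k ∈ VJ cs h X ({i₀}ᶜ : Set I) := by
    have h1 := (Subgroup.mem_normalizer_iff.1 (LJ_le_normalizer_VJ R _ (inv_mem hk)) u).1 hu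
    rwa [inv_inv] at h1
  have hD : ∀ b ∈ RGD.Sup X (RGD.Pos cs h) ⊓ H, b ∈ UJ cs h X ({i₀}ᶜ : Set I) ∧
      b * (k⁻¹ * u * k) = k⁻¹ * u * k * b := by
    rintro b ⟨hbU, hbH⟩
    have hbB : b ∈ RGD.B cs h T X := RGD.U_le_B hbU
    have hfix : τ (k * b * k⁻¹) = k * b * k⁻¹ := by
      have h1 : b ∈ (fix τ).comap (MulAut.conj k).toMonoidHom := by rw [← hH]; exact hbH
      exact h1
    -- first step
    have h1 : m⁻¹ * b * m ∈ RGD.B cs h T X := by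
      have h2 : τ k * τ b = k * b * k⁻¹ * τ k := by
        rw [← hfix, ← map_mul, ← map_mul]
        congr 1
        group
      have h3 : m⁻¹ * b * m = ((k * m)⁻¹ * (τ k * m)) * (m⁻¹ * τ b * m) * ((k * m)⁻¹ * (τ k * m))⁻¹ := by
        calc m⁻¹ * b * m = (k * m)⁻¹ * (k * b * k⁻¹ * τ k) * m * ((k * m)⁻¹ * (τ k * m))⁻¹ := by group
          _ = (k * m)⁻¹ * (τ k * τ b) * m * ((k * m)⁻¹ * (τ k * m))⁻¹ := by rw [h2]
          _ = _ := by group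
      rw [h3]
      exact mul_mem (mul_mem one (wd b hbB)) (inv_mem one)
    -- second step
    have h2 : m⁻¹ * ((k⁻¹ * u * k)⁻¹ * b * (k⁻¹ * u * k)) * m ∈ RGD.B cs h T X := by
      have h3 : τ (k * m) * τ (m⁻¹ * b * m) = k * b * k⁻¹ * τ (k * m) := by
        rw [← hfix, ← map_mul, ← map_mul]
        congr 1
        group
      have h4 : m⁻¹ * ((k⁻¹ * u * k)⁻¹ * b * (k⁻¹ * u * k)) * m =
          ((u * k * m)⁻¹ * (τ (k * m) * m)) * (m⁻¹ * τ (m⁻¹ * b * m) * m) *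
            ((u * k * m)⁻¹ * (τ (k * m) * m))⁻¹ := by
        calc m⁻¹ * ((k⁻¹ * u * k)⁻¹ * b * (k⁻¹ * u * k)) * m =
            (u * k * m)⁻¹ * (k * b * k⁻¹ * τ (k * m)) * m * ((u * k * m)⁻¹ * (τ (k * m) * m))⁻¹ := by group
          _ = (u * k * m)⁻¹ * (τ (k * m) * τ (m⁻¹ * b * m)) * m * ((u * k * m)⁻¹ * (τ (k * m) * m))⁻¹ := by
            rw [h3]
          _ = _ := by group
      rw [h4]
      exact mul_mem (mul_mem two (wd _ h1)) (inv_mem two)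
    have h3 : b ∈ UJ cs h X ({i₀}ᶜ : Set I) := RGD.Sup_mono hsub (Slope.mem_of_conj_mem_B R hm hbU h1)
    have h4 : (k⁻¹ * u * k)⁻¹ * b * (k⁻¹ * u * k) ∈ UJ cs h X ({i₀}ᶜ : Set I) :=
      RGD.Sup_mono hsub (Slope.mem_of_conj_mem_B R hm
        (mul_mem (mul_mem (inv_mem (VJ_le_U _ hvk)) hbU) (VJ_le_U _ hvk)) h2)
    refine ⟨h3, ?_⟩
    have h5 : b⁻¹ * ((k⁻¹ * u * k)⁻¹ * b * (k⁻¹ * u * k)) ∈ UJ cs h X ({i₀}ᶜ : Set I) := mul_mem (inv_mem h3) h4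
    have h6 : b⁻¹ * ((k⁻¹ * u * k)⁻¹ * b * (k⁻¹ * u * k)) ∈ VJ cs h X ({i₀}ᶜ : Set I) := by
      have h7 := (Subgroup.mem_normalizer_iff.1 (LJ_le_normalizer_VJ R _
        (inv_mem (BJ_le_LJ (T := T) (UJ_le_BJ h3)))) _).1 (inv_mem hvk)
      rw [inv_inv] at h7
      have h8 := mul_mem h7 hvk
      have h9 : b⁻¹ * (k⁻¹ * u * k)⁻¹ * b * (k⁻¹ * u * k) = b⁻¹ * ((k⁻¹ * u * k)⁻¹ * b * (k⁻¹ * u * k)) := by group
      rwa [h9] at h8
    have h7 : b⁻¹ * ((k⁻¹ * u * k)⁻¹ * b * (k⁻¹ * u * k)) = 1 := by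
      have h8 : b⁻¹ * ((k⁻¹ * u * k)⁻¹ * b * (k⁻¹ * u * k)) ∈
          UJ cs h X ({i₀}ᶜ : Set I) ⊓ VJ cs h X ({i₀}ᶜ : Set I) := ⟨h5, h6⟩
      rwa [UJ_inf_VJ R (T := T), Subgroup.mem_bot] at h8
    have h8 : (k⁻¹ * u * k)⁻¹ * b * (k⁻¹ * u * k) = b := (inv_mul_eq_one.1 h7).symm
    calc b * (k⁻¹ * u * k) = (k⁻¹ * u * k) * ((k⁻¹ * u * k)⁻¹ * b * (k⁻¹ * u * k)) := by group
      _ = _ := by rw [h8]
  have c1 := card_mul_le (D := RGD.Sup X (RGD.Pos cs h) ⊓ H) (S := S) (fun b hb => (hD b hb).1) hS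
    (fun x hx hx' => hfree x hx' (hD x hx).2)
  have c2 := card_le_mul_index (RGD.Sup X (RGD.Pos cs h)) H
  rw [hU, hHi] at c2
  have hpos : 0 < Nat.card ↥(UJ cs h X ({i₀}ᶜ : Set I)) := Nat.card_pos
  refine Nat.le_of_mul_le_mul_left ?_ hpos
  calc Nat.card ↥(UJ cs h X ({i₀}ᶜ : Set I)) * (Nat.card ↥(VJ cs h X ({i₀}ᶜ : Set I)) * Nat.card S) =
      (Nat.card ↥(UJ cs h X ({i₀}ᶜ : Set I)) * Nat.card ↥(VJ cs h X ({i₀}ᶜ : Set I))) * Nat.card S := by ring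
    _ ≤ (Nat.card ↥(RGD.Sup X (RGD.Pos cs h) ⊓ H) * (fix τ).index) * Nat.card S := Nat.mul_le_mul_right _ c2
    _ = (Nat.card ↥(RGD.Sup X (RGD.Pos cs h) ⊓ H) * Nat.card S) * (fix τ).index := by ring
    _ ≤ _ := Nat.mul_le_mul_right _ c1

/-! ### Coefficients -/

/-- `X γ ∩ Sup (D ∖ {γ}) = 1` -/
theorem inf_diff [Finite Y] {D : Set (I → ℤ)} (hD : D ⊆ RGD.Pos cs h) (hc : Unique.Closed cs h D) {γ : I → ℤ}
    (hγ : γ ∈ D) (hc' : Unique.Closed cs h (D \ {γ})) {x : Y} (hx : x ∈ X γ) (hx' : x ∈ RGD.Sup X (D \ {γ})) :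
    x = 1 := by
  classical
  have hfin : D.Finite := (RGD.finite_roots (cs := cs) (h := h)).subset fun z hz => (hD hz).1
  obtain ⟨s, rfl⟩ : ∃ s : Finset (I → ℤ), (s : Set (I → ℤ)) = D := ⟨hfin.toFinset, hfin.coe_toFinset⟩
  have e1 : ((s.erase γ : Finset (I → ℤ)) : Set (I → ℤ)) = (s : Set (I → ℤ)) \ {γ} := Finset.coe_erase γ s
  have c1 := CardSup.card_sup R hD hc
  have c2 := CardSup.card_sup R (s := s.erase γ) (by rw [e1]; exact Set.sdiff_subset.trans hD) (by rw [e1]; exact hc')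
  rw [e1] at c2
  have c3 : Nat.card (RGD.Sup X (s : Set (I → ℤ))) = Nat.card (X γ) * Nat.card (RGD.Sup X ((s : Set (I → ℤ)) \ {γ})) := by
    rw [c1, c2]
    exact (Finset.mul_prod_erase s (fun z => Nat.card (X z)) (Finset.mem_coe.1 hγ)).symm
  -- surjection
  have hsurj : Function.Surjective (fun g : X γ × RGD.Sup X ((s : Set (I → ℤ)) \ {γ}) =>
      (⟨g.1 * g.2, mul_mem (RGD.le_Sup hγ g.1.2) (RGD.Sup_mono Set.sdiff_subset g.2.2)⟩ :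
        RGD.Sup X (s : Set (I → ℤ)))) := by
    rintro ⟨g, hg⟩
    obtain ⟨a, ha, b, hb, rfl⟩ := (Unique.mem_peel R hD hc hγ).1 hg
    exact ⟨(⟨a, ha⟩, ⟨b, hb⟩), rfl⟩
  have hbij := (Nat.bijective_iff_surjective_and_card _).2 ⟨hsurj, by rw [Nat.card_prod, c3]⟩
  have h1 := hbij.1 (a₁ := (⟨x, hx⟩, ⟨x⁻¹, inv_mem hx'⟩)) (a₂ := (1, 1)) (Subtype.ext (by simp))
  have h2 := congrArg (fun g => (g.1 : Y)) h1
  simpa using h2

/-- **Intersections.** -/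
theorem mem_diff [Finite Y] {D O : Set (I → ℤ)} (hD : D ⊆ RGD.Pos cs h) (hc : Unique.Closed cs h D)
    (hO : ∀ x ∈ D, ∀ y ∈ D, ∀ z, Btwn cs h x y z → z ∈ O → x = z ∨ y = z) {u : Y} (hu : u ∈ RGD.Sup X D)
    (hu' : ∀ γ ∈ O, u ∈ RGD.Sup X (D \ {γ})) : u ∈ RGD.Sup X (D \ O) := by
  classical
  have hcl : ∀ O' ⊆ O, Unique.Closed cs h (D \ O') := fun O' hO' x hx y hy z hz =>
    ⟨hc x hx.1 y hy.1 z hz, fun h1 => (hO x hx.1 y hy.1 z hz (hO' h1)).elim (fun e => hx.2 (e ▸ h1))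
      (fun e => hy.2 (e ▸ h1))⟩
  have hfin : D.Finite := (RGD.finite_roots (cs := cs) (h := h)).subset fun z hz => (hD hz).1
  have key : ∀ s : Finset (I → ℤ), (s : Set (I → ℤ)) ⊆ O → (s : Set (I → ℤ)) ⊆ D → u ∈ RGD.Sup X (D \ (s : Set (I → ℤ))) := by
    intro s
    induction s using Finset.induction_on with
    | empty => intro _ _; simpa using hu
    | insert a s ha ih =>
      intro h1 h2
      rw [Finset.coe_insert] at h1 h2
      have h3 := ih (fun z hz => h1 (Set.mem_insert_of_mem _ hz)) (fun z hz => h2 (Set.mem_insert_of_mem _ hz))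
      have haO : a ∈ O := h1 (Set.mem_insert _ _)
      have haD : a ∈ D := h2 (Set.mem_insert _ _)
      have haD' : a ∈ D \ (s : Set (I → ℤ)) := ⟨haD, fun h => ha (Finset.mem_coe.1 h)⟩
      obtain ⟨b, hb, c, hc', e⟩ := (Unique.mem_peel R (Set.sdiff_subset.trans hD)
        (hcl _ fun z hz => h1 (Set.mem_insert_of_mem _ hz)) haD').1 h3
      have hsub : (D \ (s : Set (I → ℤ))) \ {a} ⊆ D \ {a} := fun z hz => ⟨hz.1.1, hz.2⟩
      have h4 : b ∈ RGD.Sup X (D \ {a}) := by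
        have h5 : b = u * c⁻¹ := by rw [e]; group
        rw [h5]
        exact mul_mem (hu' a haO) (inv_mem (RGD.Sup_mono hsub hc'))
      have h5 := inf_diff R hD hc haD (hcl {a} (by intro z hz; rw [Set.mem_singleton_iff.1 hz]; exact haO)) hb h4
      rw [e, h5, one_mul]
      have h6 : D \ ((insert a s : Finset (I → ℤ)) : Set (I → ℤ)) = (D \ (s : Set (I → ℤ))) \ {a} := by
        rw [Finset.coe_insert]
        ext z
        simp only [Set.mem_sdiff, Set.mem_insert_iff, Set.mem_singleton_iff]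
        tauto
      rw [h6]
      exact hc'
  have hfinO : (O ∩ D).Finite := hfin.subset Set.inter_subset_right
  have h1 := key hfinO.toFinset (by rw [hfinO.coe_toFinset]; exact Set.inter_subset_left)
    (by rw [hfinO.coe_toFinset]; exact Set.inter_subset_right)
  rw [hfinO.coe_toFinset] at h1
  have h2 : D \ (O ∩ D) = D \ O := by
    ext z
    simp only [Set.mem_sdiff, Set.mem_inter_iff]
    tauto
  rwa [h2] at h1

end

end Cfsg.Agent.H523.DspAlg
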