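import Cfsg.Agent.H523.DspTab
import Cfsg.Agent.H523.DspChev

/-!
# Automorphisms of order three of `E₇(2)`
-/

set_option autoImplicit false
set_option linter.unusedSectionVars false
set_option linter.unusedVariables false

namespace Cfsg.Agent.H523.DspE7

open CoxeterSystem Cfsg.Agent.ChevalleyStructure.CoxeterGeom Cfsg.Agent.Tits.Roots Cfsg.Agent.Tits.Core
  Cfsg.Agent.Tits.RootComb Cfsg.Agent.Nodes.Comb Cfsg.Agent.Nodes.Reps Cfsg.Agent.Nodes.BNOf Cfsg.Agent.Nodes.BNOf.RGD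
  Cfsg.Agent.Nodes.LeviDec Cfsg.Agent.Nodes.Bruhat Cfsg.Agent.Nodes.StabComb Cfsg.Agent.Nodes.MuSq
  Cfsg.Agent.Nodes.Coroot Cfsg.Agent.H523.DspNF Cfsg.Agent.Nodes Cfsg.Agent.H523.DspAlg Cfsg.Agent.H523.DspNode
  Cfsg.Agent.H81.PJTab Cfsg.Agent.H523.DspPath Cfsg.Agent.H523.DspTab Cfsg.Agent.H523.DspEnd
  Cfsg.Agent.Nodes.RGDLib Cfsg.Agent.H523.Dsp

/-- the positive roots of `E₇` -/
def L7 : List (List ℤ) := [
   [0, 0, 0, 0, 0, 0, 1], [0, 0, 0, 0, 0, 1, 0], [0, 0, 0, 0, 1, 0, 0], [0, 0, 0, 1, 0, 0, 0],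
   [0, 0, 1, 0, 0, 0, 0], [0, 1, 0, 0, 0, 0, 0], [1, 0, 0, 0, 0, 0, 0], [0, 0, 0, 0, 0, 1, 1],
   [0, 0, 0, 0, 1, 1, 0], [0, 0, 0, 1, 1, 0, 0], [0, 0, 1, 1, 0, 0, 0], [0, 1, 0, 1, 0, 0, 0],
   [1, 0, 1, 0, 0, 0, 0], [0, 0, 0, 0, 1, 1, 1], [0, 0, 0, 1, 1, 1, 0], [0, 0, 1, 1, 1, 0, 0],
   [0, 1, 0, 1, 1, 0, 0], [0, 1, 1, 1, 0, 0, 0], [1, 0, 1, 1, 0, 0, 0], [0, 0, 0, 1, 1, 1, 1],
   [0, 0, 1, 1, 1, 1, 0], [0, 1, 0, 1, 1, 1, 0], [0, 1, 1, 1, 1, 0, 0], [1, 0, 1, 1, 1, 0, 0],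
   [1, 1, 1, 1, 0, 0, 0], [0, 0, 1, 1, 1, 1, 1], [0, 1, 0, 1, 1, 1, 1], [0, 1, 1, 1, 1, 1, 0],
   [0, 1, 1, 2, 1, 0, 0], [1, 0, 1, 1, 1, 1, 0], [1, 1, 1, 1, 1, 0, 0], [0, 1, 1, 1, 1, 1, 1],
   [0, 1, 1, 2, 1, 1, 0], [1, 0, 1, 1, 1, 1, 1], [1, 1, 1, 1, 1, 1, 0], [1, 1, 1, 2, 1, 0, 0],
   [0, 1, 1, 2, 1, 1, 1], [0, 1, 1, 2, 2, 1, 0], [1, 1, 1, 1, 1, 1, 1], [1, 1, 1, 2, 1, 1, 0],
   [1, 1, 2, 2, 1, 0, 0], [0, 1, 1, 2, 2, 1, 1], [1, 1, 1, 2, 1, 1, 1], [1, 1, 1, 2, 2, 1, 0],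
   [1, 1, 2, 2, 1, 1, 0], [0, 1, 1, 2, 2, 2, 1], [1, 1, 1, 2, 2, 1, 1], [1, 1, 2, 2, 1, 1, 1],
   [1, 1, 2, 2, 2, 1, 0], [1, 1, 1, 2, 2, 2, 1], [1, 1, 2, 2, 2, 1, 1], [1, 1, 2, 3, 2, 1, 0],
   [1, 1, 2, 2, 2, 2, 1], [1, 1, 2, 3, 2, 1, 1], [1, 2, 2, 3, 2, 1, 0], [1, 1, 2, 3, 2, 2, 1],
   [1, 2, 2, 3, 2, 1, 1], [1, 1, 2, 3, 3, 2, 1], [1, 2, 2, 3, 2, 2, 1], [1, 2, 2, 3, 3, 2, 1],
   [1, 2, 2, 4, 3, 2, 1], [1, 2, 3, 4, 3, 2, 1], [2, 2, 3, 4, 3, 2, 1]]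

open Cfsg.Agent.H81.PJExc

theorem rt7 : RT 7 aE7 L7 (fun _ => 1) (fun _ => 1) where
  nodup := by decide +kernel
  len := by decide +kernel
  nn := by decide +kernel
  base := by decide +kernel
  step := by decide +kernel
  desc := by decide +kernel

theorem hQ7 : ∀ v ∈ L7, 0 < v.getD 0 0 → v ≠ ei 7 0 → v.getD 0 0 ≤ v.getD 2 0 ∧ prL aE7 v 0 ≤ v.getD 0 0 := by
  decide +kernel

theorem hP7 : ∀ v ∈ L7, decide (v.getD 0 0 = 1) = true → v = ei 7 0 ∨ ∃ j : Fin 7, j ≠ 0 ∧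
    decide ((rfL aE7 v j).getD 0 0 = 1) = true ∧ rfL aE7 v j ∈ L7 ∧ (rfL aE7 v j).sum < v.sum := by
  decide +kernel

theorem top7 : ∀ v ∈ L7, 0 < v.getD 0 0 → v.getD 0 0 ≠ 1 → v = [2, 2, 3, 4, 3, 2, 1] := by
  decide +kernel

theorem rp7 : ∀ v ∈ L7, v.getD 0 0 = 1 → (∀ j : Fin 7, j ≠ 0 → prL aE7 v j = - (aE7.getD j []).getD 0 0) →
    v = [1, 2, 3, 4, 3, 2, 1] := by
  decide +kernel

theorem cen7 : ∀ v ∈ L7, v.getD 0 0 = 0 → ∃ j : Fin 7, v.getD j 0 ≠ 0 ∧ ∀ z ∈ L7,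
    btT 7 v [2, 2, 3, 4, 3, 2, 1] z 0 j = false ∧ btT 7 (negL v) [2, 2, 3, 4, 3, 2, 1] z 0 j = false := by
  decide +kernel

theorem b17 : ∀ z ∈ L7 ++ L7.map negL, btT 7 (ei 7 0) [-1, -2, -3, -4, -3, -2, -1] z 0 1 = false ∧
    btT 7 (ei 7 0) [2, 2, 3, 4, 3, 2, 1] z 0 1 = false ∧
    (btT 7 [-1, -2, -3, -4, -3, -2, -1] [2, 2, 3, 4, 3, 2, 1] z 0 1 = true → z = ei 7 0) := by
  decide +kernel

theorem card7 : ((L7.filter fun v => decide (0 < v.getD 0 0)).map fun _ => 1).sum = 33 := by decide +kernel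

section

universe v

variable {W : Type*} {Y : Type v} [Group W] [Group Y] {M : CoxeterMatrix (Fin 7)} {cs : CoxeterSystem M W}
  {A : Fin 7 → Fin 7 → ℤ} {h : IsCartan M A} {p : ℕ} {T : Subgroup Y} {n : Fin 7 → Y}
  {X : (Fin 7 → ℤ) → Subgroup Y} [Finite W] (R : RGD cs h p T n X) {τ : MulAut Y} {w : W} {m u : Y}

include R in
theorem nf7 [Finite Y] [IsSimpleGroup Y] [Fact p.Prime] (hG : G1 cs h X = ⊤)
    (hA : ∀ i j : Fin 7, (aE7.getD i []).getD j 0 = A i j) (hq : ∀ i, Nat.card (X (sr i)) = 2)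
    (N : NF R τ 0 w m u) : 2 ^ 34 ≤ (fix τ).index := by
  have hWf : Fintype W := Fintype.ofFinite W
  have hq' : ∀ i, Nat.card (X (sr i)) = 2 ^ 1 := hq
  have hS := sh_E7
  have hVJ : Nat.card ↥(VJ cs h X ({0}ᶜ : Set (Fin 7))) = 2 ^ 33 := by
    rw [card_VJ cs h hS hA rt7 R hq' 0]
    have := card7
    change ((L7.filter fun v => decide (0 < v.getD 0 0)).map fun _ => 1).sum = 33 at this
    exact congrArg _ this
  have hA02 : A 0 2 = -1 := by rw [← hA]; decide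
  have hA0 : ∀ k : Fin 7, k ≠ 0 → k ≠ 2 → A 0 k = 0 := by
    intro k; rw [← hA]; revert k; decide
  have hQ : ∀ x, IsRoot cs h x → 0 < x 0 → x ≠ sr 0 → x 0 ≤ x 2 ∧ pairing A 0 x ≤ x 0 := by
    intro x hx h0 hne
    obtain ⟨v, hv, rfl⟩ := spec_pos cs h hS hA rt7 hx h0
    have h1 := hQ7 v hv h0 (fun e => hne (by rw [e, toF_ei_sr]))
    rw [pairing_toF hS hA (rt7.len v hv)]
    exact h1
  have hS2 : 2 ≤ Nat.card (RGD.Sup X (AA cs h (0 : Fin 7) 2)) := by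
    have h1 : X (sr 2) ≤ RGD.Sup X (AA cs h (0 : Fin 7) 2) :=
      RGD.le_Sup ⟨isRoot_sr cs h 2, sr_ne (by decide), by rw [sr_self]; norm_num⟩
    have h2 := Subgroup.card_le_of_le h1
    rwa [hq] at h2
  have hfin : Nat.card ↥(VJ cs h X ({0}ᶜ : Set (Fin 7))) * Nat.card (RGD.Sup X (AA cs h (0 : Fin 7) 2)) ≤ (fix τ).index →
      2 ^ 34 ≤ (fix τ).index := by
    intro h1
    rw [hVJ] at h1
    calc 2 ^ 34 = 2 ^ 33 * 2 := by norm_num
      _ ≤ _ := Nat.mul_le_mul_left _ hS2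
      _ ≤ _ := h1
  rcases dich R N (j₀ := 2) (by decide) hA02 hA0 (fun x hx h0 hne => (hQ x hx h0 hne).1)
    (fun x hx h0 hne => (hQ x hx h0 hne).2) with h1 | h1
  · exact hfin h1
  obtain ⟨ϑ, hϑe⟩ : ∃ ϑ : Fin 7 → ℤ, ϑ = toF 7 [2, 2, 3, 4, 3, 2, 1] := ⟨_, rfl⟩
  have hϑ : IsRoot cs h ϑ := by rw [hϑe]; exact isRoot_toF cs h hS hA rt7 _ (by decide +kernel)
  have hu : u ∈ X ϑ := by
    refine RGD.Sup_le (S := NotJ cs h ({0}ᶜ : Set (Fin 7)) \ Orb cs h 0) ?_ h1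
    rintro x ⟨hx, hxO⟩
    rw [mem_NotJ_iff] at hx
    obtain ⟨v, hv, rfl⟩ := spec_pos cs h hS hA rt7 hx.1 hx.2
    have h2 : v.getD 0 0 ≠ 1 := fun e => hxO (orb_of cs h hS hA rt7 (P := fun v => decide (v.getD 0 0 = 1)) hP7 v hv
      (decide_eq_true e))
    rw [top7 v hv hx.2 h2, ← hϑe]
  have hw : rep cs h w (sr 0) = sr 0 - ϑ := by
    obtain ⟨v, hv, h2⟩ := spec_pos cs h hS hA rt7 (((isRoot_sr cs h (0 : Fin 7)).act w).neg) (i := 0)
      (by rw [Pi.neg_apply, N.apply]; norm_num)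
    have h3 : rep cs h w (sr 0) = - toF 7 v := by rw [← h2, neg_neg]
    have h4 : v.getD 0 0 = 1 := by
      have := N.apply
      rw [h3, Pi.neg_apply] at this
      change - v.getD 0 0 = -1 at this
      omega
    have h5 : ∀ j : Fin 7, j ≠ 0 → prL aE7 v j = - (aE7.getD j []).getD 0 0 := by
      intro j hj
      have h6 := N.pair j hj
      rw [h3] at h6
      have h7 : pairing A j (- toF 7 v) = - pairing A j (toF 7 v) := by
        have := pairing_sub' (A := A) j 0 (toF 7 v)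
        rw [zero_sub] at this
        rw [this]
        simp [pairing]
      rw [h7, pairing_toF hS hA (rt7.len v hv), ← hA] at h6
      have h8 : (aE7.getD j []).getD (0 : Fin 7) 0 = (aE7.getD j []).getD 0 0 := rfl
      rw [h8] at h6
      omega
    rw [h3, rp7 v hv h4 h5, hϑe]
    funext k
    revert k
    rw [← toF_ei_sr]
    decide
  have hlw : sr 0 - ϑ = toF 7 [-1, -2, -3, -4, -3, -2, -1] := by
    rw [hϑe, ← toF_ei_sr]
    funext k
    revert k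
    decide
  refine hfin (index_end R hG N hϑ hw ?_ (hq 0) ?_ hu (by decide) hA02 hA0 (fun x hx h0 hne => (hQ x hx h0 hne).1) ?_ ?_ ?_)
  · rw [hϑe, pairing_toF hS hA (by decide)]
    rfl
  · have hc2 : Nat.card (X ϑ) = 2 := by
      have := card_X_of cs h hS hA rt7 R hq' [2, 2, 3, 4, 3, 2, 1] (by decide +kernel)
      rwa [← hϑe] at this
    intro k hk x hx
    have h2 : LJ cs h T X ({0}ᶜ : Set (Fin 7)) ≤ Subgroup.centralizer ({x} : Set Y) := by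
      refine sup_le (fun t ht => ?_) (RGD.Sup_le fun y hy a ha => ?_)
      · rw [Subgroup.mem_centralizer_singleton_iff]
        exact T_comm R hϑ hc2 ht hx
      · rw [Subgroup.mem_centralizer_singleton_iff]
        have hy0 : y 0 = 0 := hy.2 0 (by simp)
        have hϑ0 : ϑ 0 = 2 := by rw [hϑe]; rfl
        refine comm_one R hy.1 hϑ (fun e => ?_) (fun e => ?_) (fun z hz => ?_) ha hx
        · rw [e, hϑ0] at hy0
          omega
        · rw [e, Pi.neg_apply, hϑ0] at hy0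
          omega
        · have hz0 : 0 < z 0 := by
            have := Slope.btwn_pos' hz.symm (co 0) (by rw [co_apply, hϑ0]; norm_num) (by rw [co_apply, hy0])
            exact this
          obtain ⟨v, hv, rfl⟩ := spec_pos cs h hS hA rt7 hz.1 hz0
          obtain ⟨y', hy', hyy⟩ := spec cs h hS hA rt7 hy.1
          have h3 : y'.getD 0 0 = 0 := by
            rcases hyy with e | e
            · rw [e] at hy0; exact hy0
            · rw [e, Pi.neg_apply] at hy0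
              change - y'.getD 0 0 = 0 at hy0
              omega
          obtain ⟨j, hj, h4⟩ := cen7 y' hy' h3
          rcases hyy with e | e
          · rw [e, hϑe] at hz
            have h5 := btT_of hz 0 j (by
              unfold wdg
              change y'.getD 0 0 * _ - y'.getD j 0 * 2 ≠ 0
              rw [h3]
              omega)
            exact absurd h5 (by
              have := (h4 v hv).1
              change btT 7 y' [2, 2, 3, 4, 3, 2, 1] v (0 : Fin 7) j = false at this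
              rw [this]; decide)
          · rw [e, hϑe, ← toF_neg] at hz
            have h6 : (negL y').getD j 0 = - y'.getD j 0 := by
              have := congrFun (toF_neg (l := 7) y') j
              exact this
            have h7 : (negL y').getD 0 0 = 0 := by
              have := congrFun (toF_neg (l := 7) y') 0
              change (negL y').getD 0 0 = - y'.getD 0 0 at this
              rw [this, h3, neg_zero]
            have h5 := btT_of hz 0 j (by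
              unfold wdg
              change (negL y').getD 0 0 * _ - (negL y').getD j 0 * 2 ≠ 0
              rw [h7, h6]
              omega)
            exact absurd h5 (by
              have := (h4 v hv).2
              change btT 7 (negL y') [2, 2, 3, 4, 3, 2, 1] v (0 : Fin 7) j = false at this
              rw [this]; decide)
    exact Subgroup.mem_centralizer_singleton_iff.1 (h2 hk)
  · intro z hz
    obtain ⟨v, hv, rfl⟩ := spec' hS hA rt7 hz.1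
    rw [hlw, ← toF_ei_sr] at hz
    have h2 : btT 7 (ei 7 0) [-1, -2, -3, -4, -3, -2, -1] v 0 1 = true := btT_of hz 0 1 (by decide)
    rw [(b17 v hv).1] at h2
    exact absurd h2 (by decide)
  · intro z hz
    obtain ⟨v, hv, rfl⟩ := spec' hS hA rt7 hz.1
    rw [hϑe, ← toF_ei_sr] at hz
    have h2 : btT 7 (ei 7 0) [2, 2, 3, 4, 3, 2, 1] v 0 1 = true := btT_of hz 0 1 (by decide)
    rw [(b17 v hv).2.1] at h2
    exact absurd h2 (by decide)
  · intro z hz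
    obtain ⟨v, hv, rfl⟩ := spec' hS hA rt7 hz.1
    rw [hlw, hϑe] at hz
    have h2 := btT_of hz 0 1 (by decide)
    rw [(b17 v hv).2.2 h2, toF_ei_sr]

end

/-! ### `E₇(2)` -/

theorem path7 : ∀ i : Fin 7, i ≠ 0 → i ≠ 6 → 34 ≤ wgt (fun _ => 1) (gr 7 aE7 34 (ei 7 i)) := by decide +kernel

theorem path7' : ∀ i j : Fin 7, i = 0 ∨ i = 6 → j ≠ i → 34 ≤ wgt (fun _ => 1) (gr 7 aE7 34 (eij 7 i j)) := by
  decide +kernel

section

open Cfsg Cfsg.Lie Cfsg.Lie.ChevalleyDatum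
open Cfsg.Agent.ChevalleyStructure Cfsg.Agent.ChevalleyStructure.Elts Cfsg.Agent.ChevalleyStructure.CoxeterGeomTypes
open Cfsg.Agent.Nodes.RGDChev
open Cfsg.Agent.KFacts.RgdChevCoord (TT XX nc)
open Cfsg.Agent.H523.DspChev

variable {F : Type} [Field F] [Fintype F]

/-- **Automorphisms of order three of `E₇(2)`.** -/
theorem index_E7_two [IsSimpleGroup ↥(chevE7.group F)] (hF : Fintype.card F = 2) (τ : MulAut ↥(chevE7.group F))
    (hτ : τ ≠ 1) (h3 : τ ^ 3 = 1) : 2 ^ 34 ≤ (fix τ).index := by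
  classical
  obtain ⟨p, hpc⟩ := CharP.exists F
  have hpp : p.Prime := (CharP.char_is_prime_or_zero F p).resolve_right (CharP.char_ne_zero_of_finite F p)
  have : Fact p.Prime := ⟨hpp⟩
  have hp := typeE7
  let cs : CoxeterSystem CoxeterMatrix.E₇ CoxeterMatrix.E₇.Group := CoxeterMatrix.E₇.toCoxeterSystem
  have hfin : Finite CoxeterMatrix.E₇.Group := finite_W hp cs
  have R := rgd (K := F) hp cs p
  have hc : ∀ j : Fin 7, Nat.card ↥(XX chevE7 7 F (sr j)) = 2 := fun j => by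
    rw [Cfsg.Agent.H81.PJChev.card_X hp cs (isRoot_sr cs hp.isCartan j), Nat.card_eq_fintype_card, hF]
  refine index_ge_nf R (G1_eq_top hp cs) (fun σ h _ => triv_E7 σ h) (fun i => ?_) τ hτ h3
  by_cases h0 : i = 0 ∨ i = 6
  · refine Or.inr ⟨?_, fun j hj => exists_path2 sh_E7 aE7_ok (q := 2) (by norm_num) (fun _ => 1) _
      (fun j => by rw [hc, pow_one]) 34 34 i j (path7' i j h0 hj)⟩
    rcases h0 with rfl | rfl
    · exact Or.inr fun τ' h1 h2 w m u N => nf7 R (G1_eq_top hp cs) aE7_ok hc N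
    · exact Or.inl ⟨3, by norm_num, div_E7⟩
  · push Not at h0
    exact Or.inl (exists_path sh_E7 aE7_ok (q := 2) (by norm_num) (fun _ => 1) _ (fun j => by rw [hc, pow_one]) 34 34 i
      (path7 i h0.1 h0.2))

end

end Cfsg.Agent.H523.DspE7
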