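import Cfsg.Agent.H523.DspNode

/-!
# The endgame: the displacement element is a long root element of the centre
-/

set_option autoImplicit false
set_option linter.unusedSectionVars false
set_option linter.unusedVariables false

namespace Cfsg.Agent.H523.DspEnd

open CoxeterSystem Cfsg.Agent.ChevalleyStructure.CoxeterGeom Cfsg.Agent.Tits.Roots Cfsg.Agent.Tits.Core
  Cfsg.Agent.Tits.RootComb Cfsg.Agent.Nodes.Comb Cfsg.Agent.Nodes.Reps Cfsg.Agent.Nodes.BNOf Cfsg.Agent.Nodes.BNOf.RGD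
  Cfsg.Agent.FixBN Cfsg.Agent.Tits.OfBN Cfsg.Agent.Tits.OppRes Cfsg.Agent.LieExceptional.BNPairCore
  Cfsg.Agent.OddHalf.Table.AutBldg Cfsg.Agent.OddHalf.Table.AutRGD Cfsg.Agent.OddHalf.Table.AutNorm
  Cfsg.Agent.Tits.Exchange Cfsg.Agent.H612.WModel Cfsg.Agent.H81.PJSum Cfsg.Agent.H523.Dsp Cfsg.Agent.Tits.Core.Bldg
  Cfsg.Agent.H905.DC Cfsg.Agent.UGT.U2.FOne Cfsg.Agent.Nodes.RGDLib Cfsg.Agent.Tits Cfsg.Agent.H523.DspRgd
  Cfsg.Agent.Nodes.LeviDec Cfsg.Agent.Nodes.Bruhat Cfsg.Agent.Nodes.StabComb Cfsg.Agent.Nodes.MuSq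
  Cfsg.Agent.Nodes.Coroot Cfsg.Agent.H523.DspNF Cfsg.Agent.Nodes Cfsg.Agent.H523.DspAlg Cfsg.Agent.H523.DspNode
open scoped commutatorElement

universe v

variable {I W : Type*} {Y : Type v} [Fintype I] [DecidableEq I] [Group W] [Group Y] {M : CoxeterMatrix I}
  {cs : CoxeterSystem M W} {A : I → I → ℤ} {h : IsCartan M A} {p : ℕ} {T : Subgroup Y} {n : I → Y}
  {X : (I → ℤ) → Subgroup Y} [Finite W]

theorem eq_of_card_two {G : Type*} [Group G] {H : Subgroup G} (h2 : Nat.card H = 2) {r x : G} (hr : r ∈ H) (hr1 : r ≠ 1)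
    (hx : x ∈ H) : x = 1 ∨ x = r := by
  by_cases hx1 : x = 1
  · exact Or.inl hx1
  · right
    obtain ⟨y, -, hy⟩ := (Nat.card_eq_two_iff' (1 : H)).1 h2
    have h1 := hy ⟨x, hx⟩ (fun e => hx1 (congrArg Subtype.val e))
    have h3 := hy ⟨r, hr⟩ (fun e => hr1 (congrArg Subtype.val e))
    exact congrArg Subtype.val (h1.trans h3.symm)

theorem sq_of_card_two {G : Type*} [Group G] {H : Subgroup G} (h2 : Nat.card H = 2) {r : G} (hr : r ∈ H) (hr1 : r ≠ 1) :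
    r * r = 1 :=
  (eq_of_card_two h2 hr hr1 (mul_mem hr hr)).resolve_right fun e => hr1 (mul_eq_left.1 e)

section

variable (R : RGD cs h p T n X) {τ : MulAut Y} {i₀ : I} {w : W} {m u : Y}

include R

/-- root groups of order two -/
theorem exists_sigma {ϑ : I → ℤ} (hϑ : IsRoot cs h ϑ) (h2 : Nat.card (X ϑ) = 2) (h2' : Nat.card (X (-ϑ)) = 2) {ρ : Y}
    (hρ : ρ ∈ X ϑ) (hρ1 : ρ ≠ 1) : ∃ σ ∈ X (-ϑ), σ ≠ 1 ∧ ρ * σ * ρ = σ * ρ * σ ∧
      ∃ w' : W, Rp cs R.nsys w' (ρ * σ * ρ) ∧ ∀ z, rep cs h w' z = z - cpr cs h z ϑ • ϑ := by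
  have hWf : Fintype W := Fintype.ofFinite W
  obtain ⟨a, ha, b, hb, w', hw', -, hrep⟩ := exists_mu' R hϑ hρ hρ1
  obtain ⟨⟨σ, hσ⟩, hσ1, -⟩ := (Nat.card_eq_two_iff' (1 : X (-ϑ))).1 h2'
  have hσ1 : σ ≠ 1 := fun e => hσ1 (Subtype.ext e)
  have r2 := sq_of_card_two h2 hρ hρ1
  have s2 := sq_of_card_two h2' hσ hσ1
  have ri : ρ⁻¹ = ρ := inv_eq_of_mul_eq_one_right r2
  have si : σ⁻¹ = σ := inv_eq_of_mul_eq_one_right s2
  have hne : ρ ≠ σ := by
    rintro rfl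
    have h1 : ρ ∈ X ϑ ⊓ X (-ϑ) := ⟨hρ, hσ⟩
    have h3 : ϑ ≠ -ϑ := by
      intro e
      apply hϑ.ne_zero
      funext k
      have := congrFun e k
      rw [Pi.neg_apply] at this
      rw [Pi.zero_apply]
      omega
    rw [OppDec.X_inf_X R hϑ hϑ.neg h3, Subgroup.mem_bot] at h1
    exact hρ1 h1
  have hrϑ : rep cs h w' ϑ = -ϑ := by
    rw [hrep, cpr_self cs h hϑ]
    funext k
    simp only [Pi.sub_apply, Pi.smul_apply, smul_eq_mul, Pi.neg_apply]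
    ring
  have c1 : a * ρ * b * ρ * (a * ρ * b)⁻¹ = σ := by
    have h1 := R.conj_mem hw' hϑ hρ
    rw [hrϑ] at h1
    refine (eq_of_card_two h2' hσ hσ1 h1).resolve_left fun e => hρ1 ?_
    have h3 : ρ = (a * ρ * b)⁻¹ * (a * ρ * b * ρ * (a * ρ * b)⁻¹) * (a * ρ * b) := by group
    rw [h3, e]; group
  have c2 : a * ρ * b * σ * (a * ρ * b)⁻¹ = ρ := by
    have h1 := R.conj_mem hw' hϑ.neg hσ
    rw [map_neg, hrϑ, neg_neg] at h1
    refine (eq_of_card_two h2 hρ hρ1 h1).resolve_left fun e => hσ1 ?_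
    have h3 : σ = (a * ρ * b)⁻¹ * (a * ρ * b * σ * (a * ρ * b)⁻¹) * (a * ρ * b) := by group
    rw [h3, e]; group
  rcases eq_of_card_two h2' hσ hσ1 ha with ea | ea <;> rcases eq_of_card_two h2' hσ hσ1 hb with eb | eb <;>
    rw [ea, eb] at c1 c2 hw'
  · exfalso
    rw [one_mul, mul_one, mul_inv_cancel_right] at c1
    exact hne c1
  · exfalso
    rw [one_mul] at c2
    have h4 : ρ * σ * σ * (ρ * σ)⁻¹ = ρ * σ * ρ⁻¹ := by group
    rw [h4] at c2
    have h5 : σ = ρ := by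
      have : σ = ρ⁻¹ * (ρ * σ * ρ⁻¹) * ρ := by group
      rw [this, c2]; group
    exact hne h5.symm
  · exfalso
    rw [mul_one] at c1
    have h4 : σ * ρ * ρ * (σ * ρ)⁻¹ = σ * ρ * σ⁻¹ := by group
    rw [h4] at c1
    have h5 : ρ = σ := by
      have : ρ = σ⁻¹ * (σ * ρ * σ⁻¹) * σ := by group
      rw [this, c1]; group
    exact hne h5
  · have k1 : σ * ρ * σ * ρ * (σ * ρ * σ)⁻¹ = σ * ρ * σ * ρ * (σ⁻¹ * ρ⁻¹ * σ⁻¹) := by group
    rw [k1, ri, si] at c1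
    have k2 : ρ * σ * ρ * σ * ρ = σ := by
      calc ρ * σ * ρ * σ * ρ = σ⁻¹ * (σ * ρ * σ * ρ * (σ * ρ * σ)) * σ⁻¹ := by group
        _ = σ⁻¹ * σ * σ⁻¹ := by rw [c1]
        _ = σ := by rw [si, s2, one_mul]
    have k3 : ρ * σ * ρ = σ * ρ * σ := by
      calc ρ * σ * ρ = (ρ * σ * ρ * σ * ρ) * ρ⁻¹ * σ⁻¹ := by group
        _ = σ * ρ * σ := by rw [k2, ri, si]
    refine ⟨σ, hσ, hσ1, k3, w', ?_, hrep⟩
    rw [k3]
    exact hw'

omit R in
theorem pairing_sub' (i : I) (x y : I → ℤ) : pairing A i (x - y) = pairing A i x - pairing A i y := by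
  unfold pairing
  rw [← Finset.sum_sub_distrib]
  refine Finset.sum_congr rfl fun k _ => ?_
  rw [Pi.sub_apply]
  ring

omit R [Finite W] in
theorem cprs {R : RGD cs h p T n X} [Finite W] (N : NF R τ i₀ w m u) {ϑ : I → ℤ} (hϑ : IsRoot cs h ϑ)
    (hw : rep cs h w (sr i₀) = sr i₀ - ϑ) :
    ϑ i₀ = 2 ∧ (∀ j, j ≠ i₀ → cpr cs h ϑ (sr j) = 0) ∧ (∀ j, j ≠ i₀ → cpr cs h (sr j) ϑ = 0) ∧
      cpr cs h (sr i₀) ϑ = 1 ∧ ∀ z, cpr cs h z ϑ = z i₀ := by
  have hWf : Fintype W := Fintype.ofFinite W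
  have h1 : ϑ i₀ = 2 := by
    have := N.apply
    rw [hw, Pi.sub_apply, sr_self] at this
    omega
  have h2 : ∀ j, j ≠ i₀ → cpr cs h ϑ (sr j) = 0 := by
    intro j hj
    have h3 := N.pair j hj
    rw [hw, pairing_sub'] at h3
    rw [cpr_sr]
    have h4 : pairing A j (sr i₀) = A j i₀ := by
      unfold sr
      rw [pairing_single, mul_one]
    omega
  have h3 : ∀ j, j ≠ i₀ → cpr cs h (sr j) ϑ = 0 := fun j hj =>
    (cpr_zero_comm cs h hϑ (isRoot_sr cs h j)).1 (h2 j hj)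
  have h4 : ∀ z : I → ℤ, cpr cs h z ϑ = z i₀ * cpr cs h (sr i₀) ϑ := by
    intro z
    have h5 : cpr cs h z ϑ = ell cs h hϑ z := rfl
    rw [h5]
    conv_lhs => rw [eq_sum z]
    rw [map_sum, Finset.sum_eq_single i₀]
    · rw [ell_apply, cpr_smul cs h _ _ hϑ]
    · intro b _ hb
      rw [ell_apply, cpr_smul cs h _ _ hϑ, h3 b hb, mul_zero]
    · intro hb
      exact absurd (Finset.mem_univ _) hb
  have h5 : cpr cs h (sr i₀) ϑ = 1 := by
    have h6 := h4 ϑ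
    rw [cpr_self cs h hϑ, h1] at h6
    omega
  refine ⟨h1, h2, h3, h5, fun z => ?_⟩
  rw [h4, h5, mul_one]

omit R [Finite W] in
theorem rep_J {R : RGD cs h p T n X} (N : NF R τ i₀ w m u) {x : I → ℤ} (hx : x i₀ = 0) : rep cs h w x = x := by
  conv_lhs => rw [eq_sum x]
  conv_rhs => rw [eq_sum x]
  rw [map_sum]
  refine Finset.sum_congr rfl fun k _ => ?_
  by_cases hk : k = i₀
  · rw [hk, hx, zero_smul, map_zero]
  · rw [map_smul, N.fixJ k hk]

omit R [Finite W] in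
theorem conj_LJ {R : RGD cs h p T n X} (N : NF R τ i₀ w m u) {k : Y} (hk : k ∈ LJ cs h T X ({i₀}ᶜ : Set I)) :
    m⁻¹ * k * m ∈ LJ cs h T X ({i₀}ᶜ : Set I) := by
  have h1 : LJ cs h T X ({i₀}ᶜ : Set I) ≤ cj m (LJ cs h T X ({i₀}ᶜ : Set I)) := by
    refine sup_le (fun a ha => mem_cj.2 (T_le_LJ ?_)) (RGD.Sup_le fun x hx a ha => ?_)
    · have h1 := (Subgroup.mem_normalizer_iff.1 (inv_mem N.rp.mem_normalizer) a).1 ha
      rwa [inv_inv] at h1
    · refine mem_cj.2 (X_le_LJ hx ?_)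
      have h1 := R.conj_mem' N.rp hx.1 ha
      rwa [N.inv_rep, rep_J N (hx.2 i₀ (by simp))] at h1
  exact mem_cj.1 (h1 hk)

omit R in
theorem card_ϑ {R : RGD cs h p T n X} [Finite Y] (N : NF R τ i₀ w m u)
    {ϑ : I → ℤ} (hϑ : IsRoot cs h ϑ) (hw : rep cs h w (sr i₀) = sr i₀ - ϑ) (hp : pairing A i₀ ϑ = 1)
    (h2 : Nat.card (X (sr i₀)) = 2) : Nat.card (X ϑ) = 2 ∧ Nat.card (X (-ϑ)) = 2 := by
  have e1 : rep cs h w⁻¹ (rep cs h (cs.simple i₀) ϑ) = - sr i₀ := by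
    rw [N.inv_rep, rep_simple_eq, hp, one_smul]
    have : ϑ - sr i₀ = - (rep cs h w (sr i₀)) := by rw [hw]; abel
    rw [this, map_neg, N.ww]
  have k1 : Nat.card (X (sr i₀)) = Nat.card (X (-sr i₀)) := by
    have := CardSup.card_X_rep R (cs.simple i₀) (isRoot_sr cs h i₀)
    rw [rep_simple_sr] at this
    exact this.symm
  have k2 : Nat.card (X ϑ) = Nat.card (X (-sr i₀)) := by
    have a1 := CardSup.card_X_rep R (cs.simple i₀) hϑ
    have a2 := CardSup.card_X_rep R w⁻¹ (hϑ.act (cs.simple i₀))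
    rw [e1] at a2
    rw [← a1, ← a2]
  have k3 : Nat.card (X (-ϑ)) = Nat.card (X ϑ) := by
    obtain ⟨v, i, hv⟩ := hϑ
    have a1 := CardSup.card_X_rep R v (isRoot_sr cs h i)
    have a2 := CardSup.card_X_rep R v (isRoot_sr cs h i).neg
    have a3 := CardSup.card_X_rep R (cs.simple i) (isRoot_sr cs h i)
    rw [map_neg, ← hv] at a2
    rw [← hv] at a1
    rw [rep_simple_sr] at a3
    rw [a2, a3, a1]
  exact ⟨k2.trans (k1.symm.trans h2), k3.trans (k2.trans (k1.symm.trans h2))⟩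

/-- **The endgame, first part**: `τ` is the conjugation by an element of order three of a long root subgroup. -/
theorem eq_conj [Finite Y] [IsSimpleGroup Y] [Fact p.Prime] [Nonempty I] (hG : G1 cs h X = ⊤) (N : NF R τ i₀ w m u)
    {ϑ : I → ℤ} (hϑ : IsRoot cs h ϑ) (hw : rep cs h w (sr i₀) = sr i₀ - ϑ) (hp : pairing A i₀ ϑ = 1)
    (h2 : Nat.card (X (sr i₀)) = 2) (hcen : ∀ k ∈ LJ cs h T X ({i₀}ᶜ : Set I), ∀ x ∈ X ϑ, k * x = x * k)
    (hu : u ∈ X ϑ) :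
    u ≠ 1 ∧ ∃ σ ∈ X (-ϑ), σ ≠ 1 ∧ u * σ * u = σ * u * σ ∧ Rp cs R.nsys w (u * σ * u) ∧
      τ = MulAut.conj (u * σ * u * u) := by
  classical
  have hWf : Fintype W := Fintype.ofFinite W
  obtain ⟨c1, c2, c3, c4, c5⟩ := cprs N hϑ hw
  have hcard : Nat.card (X ϑ) = 2 ∧ Nat.card (X (-ϑ)) = 2 := card_ϑ N hϑ hw hp h2
  -- `τ` and `B`
  have hBi : ∀ g : Y, m⁻¹ * τ g * m ∈ RGD.B cs h T X → g ∈ RGD.B cs h T X := by
    intro g hg
    have h3 : (RGD.B cs h T X).map (MulAut.conj m⁻¹ * τ : MulAut Y).toMonoidHom = RGD.B cs h T X := by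
      apply Subgroup.eq_of_le_of_card_ge
      · rintro _ ⟨b, hb, rfl⟩
        have := N.wd b hb
        show m⁻¹ * τ b * m⁻¹⁻¹ ∈ _
        rwa [inv_inv]
      · rw [Subgroup.card_map_of_injective (MulAut.conj m⁻¹ * τ : MulAut Y).injective]
    have h4 : (MulAut.conj m⁻¹ * τ : MulAut Y) g ∈ (RGD.B cs h T X).map (MulAut.conj m⁻¹ * τ : MulAut Y).toMonoidHom := by
      rw [h3]
      show m⁻¹ * τ g * m⁻¹⁻¹ ∈ _
      rwa [inv_inv]
    obtain ⟨b, hb, hb2⟩ := h4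
    rwa [← (MulAut.conj m⁻¹ * τ : MulAut Y).injective hb2]
  have hu1 : u ≠ 1 := by
    intro e
    have h3 := N.two 1 (one_mem _)
    rw [e, one_mul, one_mul, ← mul_assoc] at h3
    have h4 := R.eq_one_of_mem_B N.rp (hBi m h3)
    have h5 := N.apply
    rw [h4, map_one, Module.End.one_apply, sr_self] at h5
    omega
  refine ⟨hu1, ?_⟩
  obtain ⟨σ, hσ, hσ1, hbr, w', hw', hrep⟩ := exists_sigma R hϑ hcard.1 hcard.2 hu hu1
  have hww : w' = w := by
    apply rep_injective cs h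
    refine LinearMap.ext fun x => ?_
    rw [hrep, c5]
    have h7 : x = x i₀ • sr i₀ + ∑ k ∈ Finset.univ.erase i₀, x k • sr k := by
      rw [Finset.add_sum_erase _ (fun k => x k • sr k) (Finset.mem_univ i₀), ← eq_sum]
    have h8 : x - x i₀ • ϑ = x i₀ • sr i₀ + ∑ k ∈ Finset.univ.erase i₀, x k • sr k - x i₀ • ϑ := by rw [← h7]
    rw [h8]
    conv_rhs => rw [eq_sum x]
    rw [map_sum]
    rw [← Finset.add_sum_erase _ _ (Finset.mem_univ i₀), map_smul, hw]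
    have h5 : ∑ k ∈ Finset.univ.erase i₀, rep cs h w (x k • sr k) = ∑ k ∈ Finset.univ.erase i₀, x k • sr k := by
      refine Finset.sum_congr rfl fun k hk => ?_
      rw [map_smul, N.fixJ k (Finset.ne_of_mem_erase hk)]
    rw [h5]
    rw [smul_sub]
    abel
  subst hww
  obtain ⟨μ, hμ⟩ : ∃ μ, μ = u * σ * u := ⟨_, rfl⟩
  rw [← hμ] at hw'
  refine ⟨σ, hσ, hσ1, hbr, by rw [← hμ]; exact hw', ?_⟩
  rw [← hμ]
  have hui := sq_of_card_two hcard.1 hu hu1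
  have hσi := sq_of_card_two hcard.2 hσ hσ1
  have ui : u⁻¹ = u := inv_eq_of_mul_eq_one_right hui
  have si : σ⁻¹ = σ := inv_eq_of_mul_eq_one_right hσi
  have μi : μ * μ = 1 := by
    rw [hμ]
    conv_lhs => rw [hbr]
    calc σ * u * σ * (σ * u * σ) = σ * u * (σ * σ) * u * σ := by group
      _ = σ * (u * u) * σ := by rw [hσi]; group
      _ = 1 := by rw [hui, mul_one, hσi]
  have μ1 : μ⁻¹ = μ := inv_eq_of_mul_eq_one_right μi
  have huB : u ∈ RGD.B cs h T X := VJ_le_B _ N.mem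
  -- `m = μ t`
  obtain ⟨t, ht, hmt⟩ : ∃ t ∈ T, m = μ * t := ⟨μ⁻¹ * m, hw'.unique N.rp, by group⟩
  have htB : t ∈ RGD.B cs h T X := T_le_B ht
  obtain ⟨z, hz⟩ : ∃ z, z = μ * u := ⟨_, rfl⟩
  rw [← hz]
  -- `z` centralises the Levi subgroup
  have hcμ : ∀ k ∈ LJ cs h T X ({i₀}ᶜ : Set I), k * σ = σ * k := by
    intro k hk
    have e1 : m⁻¹ * σ * m ∈ X ϑ := by
      have h1 := R.conj_mem' N.rp hϑ.neg hσ
      rw [N.inv_rep, map_neg, hrep, cpr_self cs h hϑ] at h1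
      have h3 : -(ϑ - (2 : ℤ) • ϑ) = ϑ := by rw [two_smul]; abel
      rwa [h3] at h1
    have e2 := hcen _ (conj_LJ N hk) _ e1
    have e3 : m⁻¹ * (k * σ) * m = m⁻¹ * (σ * k) * m := by
      calc m⁻¹ * (k * σ) * m = m⁻¹ * k * m * (m⁻¹ * σ * m) := by group
        _ = m⁻¹ * σ * m * (m⁻¹ * k * m) := e2
        _ = _ := by group
    exact mul_left_cancel (mul_right_cancel e3)
  have hμu : μ * u * μ = σ := by
    calc μ * u * μ = u * σ * (u * u) * u * σ * u := by rw [hμ]; group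
      _ = (u * σ * u) * σ * u := by rw [hui]; group
      _ = σ * u * (σ * σ) * u := by rw [hbr]; group
      _ = σ * (u * u) := by rw [hσi]; group
      _ = σ := by rw [hui, mul_one]
  have hzk : ∀ k ∈ LJ cs h T X ({i₀}ᶜ : Set I), k * z = z * k := by
    intro k hk
    have e1 := hcen k hk u hu
    have e2 := hcμ k hk
    calc k * z = (k * u) * σ * u * u := by rw [hz, hμ]; group
      _ = u * (k * σ) * u * u := by rw [e1]; group
      _ = u * σ * (k * u) * u := by rw [e2]; group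
      _ = u * σ * (u * k) * u := by rw [e1]
      _ = u * σ * u * (k * u) := by group
      _ = u * σ * u * (u * k) := by rw [e1]
      _ = z * k := by rw [hz, hμ]; group
  obtain ⟨α, hα⟩ : ∃ α : MulAut Y, α = (MulAut.conj z)⁻¹ * τ := ⟨_, rfl⟩
  have hαa : ∀ g, α g = z⁻¹ * τ g * z := by
    intro g
    rw [hα]
    show (MulAut.conj z)⁻¹ (τ g) = _
    rw [← map_inv, MulAut.conj_apply, inv_inv]
  suffices hα1 : α = 1 by
    have : τ = MulAut.conj z * α := by rw [hα]; group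
    rw [this, hα1, mul_one]
  -- the images of three families of elements
  have i1 : ∀ b ∈ RGD.B cs h T X, α b ∈ RGD.B cs h T X := by
    intro b hb
    have h3 : α b = (t⁻¹ * u)⁻¹ * (m⁻¹ * τ b * m) * (t⁻¹ * u) := by
      rw [hαa, hz, hmt]; group
    rw [h3]
    exact mul_mem (mul_mem (inv_mem (mul_mem (inv_mem htB) huB)) (N.wd b hb)) (mul_mem (inv_mem htB) huB)
  have i2 : ∀ k ∈ LJ cs h T X ({i₀}ᶜ : Set I), k⁻¹ * α k ∈ RGD.B cs h T X := by
    intro k hk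
    have h3 : k⁻¹ * α k = (t⁻¹ * u)⁻¹ * ((k * m)⁻¹ * (τ k * m)) * (t⁻¹ * u) := by
      have h4 := hzk k⁻¹ (inv_mem hk)
      calc k⁻¹ * α k = k⁻¹ * z⁻¹ * τ k * z := by rw [hαa]; group
        _ = z⁻¹ * (z * k⁻¹) * z⁻¹ * τ k * z := by group
        _ = z⁻¹ * (k⁻¹ * z) * z⁻¹ * τ k * z := by rw [h4]
        _ = _ := by rw [hz, hmt]; group
    rw [h3]
    exact mul_mem (mul_mem (inv_mem (mul_mem (inv_mem htB) huB)) (N.one k hk)) (mul_mem (inv_mem htB) huB)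
  have i3 : ∀ k ∈ LJ cs h T X ({i₀}ᶜ : Set I), (k * μ)⁻¹ * α (k * μ) ∈ RGD.B cs h T X := by
    intro k hk
    have e1 : μ⁻¹ * z⁻¹ * u * μ = u := by
      calc μ⁻¹ * z⁻¹ * u * μ = μ⁻¹ * u⁻¹ * μ⁻¹ * u * μ := by rw [hz]; group
        _ = (μ * u * μ) * u * μ := by rw [μ1, ui]
        _ = σ * u * (u * σ * u) := by rw [hμu, hμ]
        _ = σ * (u * u) * σ * u := by group
        _ = u := by rw [hui, mul_one, hσi, one_mul]
    have e2 : (k * μ)⁻¹ * α (k * μ) = (μ⁻¹ * z⁻¹ * u * μ) * (t * ((u * k * m)⁻¹ * (τ (k * m) * m)) * (m⁻¹ * τ t * m)⁻¹ * t⁻¹ * u) := by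
      have h4 := hzk k⁻¹ (inv_mem hk)
      have h5 : τ (k * m) = τ (k * μ) * τ t := by rw [← map_mul, hmt, mul_assoc]
      have h6 : u * k⁻¹ * u⁻¹ = k⁻¹ := by
        rw [← hcen _ (inv_mem hk) u hu]; group
      rw [h5]
      calc (k * μ)⁻¹ * α (k * μ) = μ⁻¹ * k⁻¹ * z⁻¹ * τ (k * μ) * z := by rw [hαa]; group
        _ = μ⁻¹ * z⁻¹ * (z * k⁻¹) * z⁻¹ * τ (k * μ) * z := by group
        _ = μ⁻¹ * z⁻¹ * (k⁻¹ * z) * z⁻¹ * τ (k * μ) * z := by rw [h4]
        _ = μ⁻¹ * z⁻¹ * (u * k⁻¹ * u⁻¹) * τ (k * μ) * z := by rw [h6]; group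
        _ = _ := by rw [hz, hmt]; group
    rw [e2, e1]
    exact mul_mem huB (mul_mem (mul_mem (mul_mem (mul_mem htB (N.two k hk)) (inv_mem (N.wd t htB))) (inv_mem htB)) huB)
  -- the building
  have hgen := rgd_gen_of_G1 R hG
  have hne : ((R.bnPair hgen).S).Nonempty := ⟨_, ((eS R hgen) (Classical.arbitrary I)).2⟩
  have hcore := normalCore_eq_bot (R.bnPair hgen) hne
  obtain ⟨hN', cs', hcs, hfin, hS⟩ := exists_setup R hgen hcore
  have hC : Cfsg.Agent.Tits.OppRes.Cox cs' := inferInstance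
  have hKeep : Keep (R.bnPair hgen) α := by
    intro b
    refine ⟨fun hb => ?_, fun hb => i1 b hb⟩
    have h3 : (RGD.B cs h T X).map (α : MulAut Y).toMonoidHom = RGD.B cs h T X := by
      apply Subgroup.eq_of_le_of_card_ge
      · rintro _ ⟨b, hb, rfl⟩
        exact i1 b hb
      · rw [Subgroup.card_map_of_injective (α : MulAut Y).injective]
    have h4 : α b ∈ (RGD.B cs h T X).map (α : MulAut Y).toMonoidHom := by rw [h3]; exact hb
    obtain ⟨b', hb', hb2⟩ := h4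
    rw [← α.injective hb2]
    exact hb'
  have hmkeq : ∀ a b : Y, (QuotientGroup.mk a : Y ⧸ (R.bnPair hgen).B) = QuotientGroup.mk b ↔ a⁻¹ * b ∈ B cs h T X :=
    fun a b => QuotientGroup.eq
  have hfixk : ∀ k ∈ LJ cs h T X ({i₀}ᶜ : Set I), act α hKeep (QuotientGroup.mk k) = QuotientGroup.mk k := by
    intro k hk
    rw [act_mk]
    exact ((hmkeq _ _).2 (i2 k hk)).symm
  have hfixkμ : ∀ k ∈ LJ cs h T X ({i₀}ᶜ : Set I), act α hKeep (QuotientGroup.mk (k * μ)) = QuotientGroup.mk (k * μ) := by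
    intro k hk
    rw [act_mk]
    exact ((hmkeq _ _).2 (i3 k hk)).symm
  have hxn : ∀ i, i ≠ i₀ → ∀ x ∈ X (sr i), x * n i ∈ LJ cs h T X ({i₀}ᶜ : Set I) := fun i hi x hx =>
    mul_mem (X_le_LJ (sr_mem_PosJ (J := {i₀}ᶜ) hi |> PosJ_subset _) hx) (n_mem_LJ R (J := {i₀}ᶜ) hi)
  have hsg1 : ∀ i, i ≠ i₀ → sg (eS R hgen) cs' hcs hKeep i = i := by
    intro i hi
    apply hC.inj
    rw [← fW_simple' (eS R hgen) cs' hcs hKeep]
    have h5 : (bldg (R.bnPair hgen) (eS R hgen) cs' hcs).δ (QuotientGroup.mk 1) (QuotientGroup.mk (n i)) = cs'.simple i := by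
      rw [bldg_δ_mk, inv_one, one_mul, wt_word R hcs (ω := [i]) (k := n i)
        (by rw [wordProd_singleton]; exact rp_simple cs R.nsys i), wordProd_singleton]
    have h4 := δ_act (eS R hgen) cs' hcs hKeep (QuotientGroup.mk 1) (QuotientGroup.mk (n i))
    rw [hfixk 1 (one_mem _), hfixk (n i) (n_mem_LJ R (J := {i₀}ᶜ) hi), h5] at h4
    exact h4.symm
  have hsg : ∀ i, sg (eS R hgen) cs' hcs hKeep i = i := by
    intro i
    by_cases hi : i = i₀
    · subst hi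
      by_contra hcon
      have h3 := hsg1 _ hcon
      exact hcon (sg_injective (eS R hgen) cs' hcs hKeep h3)
    · exact hsg1 i hi
  -- an opposite chamber
  obtain ⟨k₀, hk₀⟩ := exists_rp cs R.nsys (wJ cs ({i₀}ᶜ : Set I))
  obtain ⟨ω, hω⟩ := cs.wordProd_surjective (wJ cs ({i₀}ᶜ : Set I) * w')
  have hCs : Cfsg.Agent.Tits.OppRes.Cox cs := inferInstance
  have hk₀L : k₀ ∈ LJ cs h T X ({i₀}ᶜ : Set I) := rp_mem_LJ R (hCs.wJ_mem _) hk₀
  have hcd : (bldg (R.bnPair hgen) (eS R hgen) cs' hcs).δ (QuotientGroup.mk 1) (QuotientGroup.mk (k₀ * μ)) = w0 cs' := by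
    rw [bldg_δ_mk, inv_one, one_mul, wt_word R hcs (ω := ω) (by rw [hω]; exact hk₀.mul hw')]
    refine hC.eq_wJ_of_descents (J := Set.univ) (by rw [Exchange.WJ_univ]; trivial) fun j _ => ?_
    rcases lt_or_gt_of_ne (cs'.length_mul_simple_ne (cs'.wordProd ω) j) with h3 | h3
    · exact h3
    · exfalso
      have h4 : 0 ≤ rep cs' h (cs'.wordProd ω) (sr j) := (lt_iff' cs' h _ j).1 h3
      rw [← rep_word cs cs' h ω, hω, rep_mul_apply] at h4
      by_cases hj : j = i₀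
      · subst hj
        have h5 := h4 j
        rw [rep_co (hCs.wJ_mem _) (by simp), N.apply] at h5
        simp only [Pi.zero_apply] at h5
        omega
      · rw [N.fixJ j hj] at h4
        have h5 := hCs.len_wJ_mul (OppRes.simple_mem_WJ (cs := cs) (J := ({i₀}ᶜ : Set I)) hj)
        rw [length_simple] at h5
        have h6 := nonpos_of_lt cs h (wJ cs ({i₀}ᶜ : Set I)) j (by omega)
        exact ((isRoot_sr cs h j).act (wJ cs ({i₀}ᶜ : Set I))).ne_zero (le_antisymm h6 h4)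
  have hd : act α hKeep (QuotientGroup.mk (k₀ * μ)) = (1 : Y) • QuotientGroup.mk (k₀ * μ) := by
    rw [one_smul]; exact hfixkμ _ hk₀L
  have key := eq_conj_of_agree (eS R hgen) cs' hcs hcore hKeep hsg (u := 1) hcd ?_ hd
  · rw [key, map_one]
  intro i y hy
  rw [one_smul]
  rcases (mem_pan_iff hcs i 1).1 hy with rfl | ⟨x, hx, rfl⟩
  · exact hfixk 1 (one_mem _)
  by_cases hi : i = i₀
  · subst hi
    obtain ⟨z', hz1, hz2⟩ := act_proj (eS R hgen) cs' hcs hKeep hsg (u := 1) (one_mem _) hcd hd i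
    rw [one_smul] at hz2
    by_cases hyz : (QuotientGroup.mk (1 * (x * n i)) : Y ⧸ (R.bnPair hgen).B) = z'
    · rw [hyz, hz2]
    · have hφc : act α hKeep (QuotientGroup.mk 1) = QuotientGroup.mk 1 := hfixk 1 (one_mem _)
      have hφ : ∀ a b, (bldg (R.bnPair hgen) (eS R hgen) cs' hcs).δ (act α hKeep a) (act α hKeep b) =
          (bldg (R.bnPair hgen) (eS R hgen) cs' hcs).δ a b := fun a b => by
        rw [δ_act, fW_of_sg_id (eS R hgen) cs' hcs hKeep hsg]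
      obtain ⟨r, hr, hr1⟩ := Bruhat.exists_ne_one R i
      have q1 : ∀ a, (bldg (R.bnPair hgen) (eS R hgen) cs' hcs).δ (QuotientGroup.mk 1) a = cs'.simple i →
          a = QuotientGroup.mk (n i) ∨ a = QuotientGroup.mk (r * n i) := by
        intro a ha
        obtain ⟨x, hx, rfl⟩ := pan_eq R hgen cs' hcs i ha
        rcases eq_of_card_two h2 hr hr1 hx with rfl | rfl
        · left; rw [one_mul]
        · right; rfl
      have q3 : ∀ a b c, (bldg (R.bnPair hgen) (eS R hgen) cs' hcs).δ (QuotientGroup.mk 1) a = cs'.simple i →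
          (bldg (R.bnPair hgen) (eS R hgen) cs' hcs).δ (QuotientGroup.mk 1) b = cs'.simple i →
          (bldg (R.bnPair hgen) (eS R hgen) cs' hcs).δ (QuotientGroup.mk 1) c = cs'.simple i →
          a = b ∨ a = c ∨ b = c := by
        intro a b c ha hb hc
        rcases q1 a ha with h3 | h3 <;> rcases q1 b hb with h4 | h4 <;> rcases q1 c hc with h5 | h5 <;>
          simp [h3, h4, h5]
      rcases hy with hy | hy1
      · rw [hy]
        exact hφc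
      replace hy1 : (bldg (R.bnPair hgen) (eS R hgen) cs' hcs).δ (QuotientGroup.mk 1)
          (QuotientGroup.mk (1 * (x * n i))) = cs'.simple i := hy1
      have hy2 : (bldg (R.bnPair hgen) (eS R hgen) cs' hcs).δ (QuotientGroup.mk 1)
          (act α hKeep (QuotientGroup.mk (1 * (x * n i)))) = cs'.simple i := by
        rw [← hy1]
        conv_lhs => rw [← hφc]
        exact hφ _ _
      rcases q3 _ _ _ hy2 hz1 hy1 with h3 | h3 | h3
      · exfalso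
        apply hyz
        have h4 := hφ (QuotientGroup.mk (1 * (x * n i))) z'
        rw [h3, hz2, ((bldg (R.bnPair hgen) (eS R hgen) cs' hcs).eq_one _ _).2 rfl] at h4
        exact ((bldg (R.bnPair hgen) (eS R hgen) cs' hcs).eq_one _ _).1 h4.symm
      · exact h3
      · exact absurd h3.symm hyz
  · rw [one_mul]
    exact hfixk _ (hxn i hi x hx)

/-- **The endgame.** -/
theorem index_end [Finite Y] [IsSimpleGroup Y] [Fact p.Prime] [Nonempty I] (hG : G1 cs h X = ⊤) (N : NF R τ i₀ w m u)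
    {ϑ : I → ℤ} (hϑ : IsRoot cs h ϑ) (hw : rep cs h w (sr i₀) = sr i₀ - ϑ) (hp : pairing A i₀ ϑ = 1)
    (h2 : Nat.card (X (sr i₀)) = 2) (hcen : ∀ k ∈ LJ cs h T X ({i₀}ᶜ : Set I), ∀ x ∈ X ϑ, k * x = x * k)
    (hu : u ∈ X ϑ) {j₀ : I} (hij : i₀ ≠ j₀) (hA : A i₀ j₀ = -1) (hA0 : ∀ k, k ≠ i₀ → k ≠ j₀ → A i₀ k = 0)
    (hQ : ∀ x, IsRoot cs h x → 0 < x i₀ → x ≠ sr i₀ → x i₀ ≤ x j₀)
    (hb1 : ∀ z, ¬ Btwn cs h (sr i₀) (sr i₀ - ϑ) z) (hb2 : ∀ z, ¬ Btwn cs h (sr i₀) ϑ z)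
    (hb3 : ∀ z, Btwn cs h (sr i₀ - ϑ) ϑ z → z = sr i₀) :
    Nat.card ↥(VJ cs h X ({i₀}ᶜ : Set I)) * Nat.card (RGD.Sup X (AA cs h i₀ j₀)) ≤ (fix τ).index := by
  have hWf : Fintype W := Fintype.ofFinite W
  obtain ⟨hu1, σ, hσ, hσ1, hbr, hμw, hτ⟩ := eq_conj R hG N hϑ hw hp h2 hcen hu
  obtain ⟨c1, c2, c3, c4, c5⟩ := cprs N hϑ hw
  obtain ⟨μ, hμ⟩ : ∃ μ, μ = u * σ * u := ⟨_, rfl⟩
  rw [← hμ] at hμw hτ
  obtain ⟨r, hr, hr1⟩ := Bruhat.exists_ne_one R i₀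
  obtain ⟨s, hs⟩ : ∃ s, s = μ * r * μ⁻¹ := ⟨_, rfl⟩
  have ha : IsRoot cs h (sr i₀) := isRoot_sr cs h i₀
  have hb : IsRoot cs h (sr i₀ - ϑ) := by rw [← hw]; exact ha.act w
  have hbi : (sr i₀ - ϑ) i₀ = -1 := by rw [← hw]; exact N.apply
  have hsb : s ∈ X (sr i₀ - ϑ) := by
    rw [hs, ← hw]
    exact R.conj_mem hμw ha hr
  -- involutions
  have hσϑ : u * u = 1 ∧ σ * σ = 1 := by
    have hcard : Nat.card (X ϑ) = 2 ∧ Nat.card (X (-ϑ)) = 2 := card_ϑ N hϑ hw hp h2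
    exact ⟨sq_of_card_two hcard.1 hu hu1, sq_of_card_two hcard.2 hσ hσ1⟩
  obtain ⟨hui, hσi⟩ := hσϑ
  have ui : u⁻¹ = u := inv_eq_of_mul_eq_one_right hui
  have si : σ⁻¹ = σ := inv_eq_of_mul_eq_one_right hσi
  have μi : μ * μ = 1 := by
    rw [hμ]
    conv_lhs => rw [hbr]
    calc σ * u * σ * (σ * u * σ) = σ * u * (σ * σ) * u * σ := by group
      _ = σ * (u * u) * σ := by rw [hσi]; group
      _ = 1 := by rw [hui, mul_one, hσi]
  have μ1 : μ⁻¹ = μ := inv_eq_of_mul_eq_one_right μi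
  have hμu : μ * u * μ = σ := by
    calc μ * u * μ = u * σ * (u * u) * u * σ * u := by rw [hμ]; group
      _ = (u * σ * u) * σ * u := by rw [hui]; group
      _ = σ * u * (σ * σ) * u := by rw [hbr]; group
      _ = σ * (u * u) := by rw [hσi]; group
      _ = σ := by rw [hui, mul_one]
  have hrr : r * r = 1 := sq_of_card_two h2 hr hr1
  have hs2 : μ * s * μ⁻¹ = r := by
    rw [hs]
    calc μ * (μ * r * μ⁻¹) * μ⁻¹ = (μ * μ) * r * (μ * μ)⁻¹ := by group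
      _ = r := by rw [μi]; group
  have hs1 : s ≠ 1 := by
    intro e
    apply hr1
    rw [← hs2, e]; group
  -- commutators
  have hϑi : ϑ ≠ sr i₀ := fun e => by rw [e, sr_self] at c1; omega
  have n1 : ∀ x y : I → ℤ, x i₀ ≠ y i₀ → x ≠ y := fun x y hxy e => hxy (by rw [e])
  have ni : ∀ x : I → ℤ, (-x) i₀ = - x i₀ := fun x => rfl
  have k1 : r * s = s * r := comm_one R ha hb (n1 _ _ (by rw [hbi, sr_self]; norm_num))
    (by
      intro e
      have h3 := congrArg (fun x => cpr cs h x (sr i₀)) e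
      simp only [cpr_neg cs h _ ha, cpr_self cs h ha] at h3
      rw [cpr_sr, pairing_sub', hp, ← cpr_sr cs h, cpr_self cs h ha] at h3
      omega) hb1 hr hsb
  have k2 : r * u = u * r := comm_one R ha hϑ hϑi.symm (n1 _ _ (by rw [ni, sr_self, c1]; norm_num)) hb2 hr hu
  obtain ⟨κ, hκ⟩ : ∃ κ, κ = u⁻¹ * s * u * s⁻¹ := ⟨_, rfl⟩
  have hκX : κ ∈ X (sr i₀) := by
    have h3 := comm_in R hϑ hb (n1 _ _ (by rw [hbi, c1]; norm_num)) (n1 _ _ (by rw [ni, hbi, c1]; norm_num))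
      (fun z hz => hb3 z hz.symm) (inv_mem hu) hsb
    rw [commutatorElement_def, inv_inv] at h3
    rw [hκ]; exact h3
  have hκ1 : κ ≠ 1 := by
    intro e
    apply hs1
    refine eq_one_of_comm R hϑ hb (n1 _ _ (by rw [hbi, c1]; norm_num)) (n1 _ _ (by rw [ni, hbi, c1]; norm_num))
      (fun z hz => ?_) (by rw [c5, hbi]; norm_num) hu hu1 hsb ?_
    · have h3 := hz.act w
      have h4 : rep cs h w (-ϑ) = ϑ := by
        have h5 : ϑ = sr i₀ - rep cs h w (sr i₀) := by rw [hw]; abel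
        conv_lhs => rw [h5]
        rw [map_neg, map_sub, N.ww, hw]; abel
      have h5 : rep cs h w (sr i₀ - ϑ) = sr i₀ := by rw [← hw, N.ww]
      rw [h4, h5] at h3
      exact hb2 _ h3.symm
    · have h3 : u⁻¹ * s * u * s⁻¹ = 1 := by rw [← hκ, e]
      have h4 : s * u = u * (u⁻¹ * s * u * s⁻¹) * s := by group
      rw [h4, h3, mul_one]
  have k3 : κ * u = u * κ := comm_one R ha hϑ hϑi.symm (n1 _ _ (by rw [ni, sr_self, c1]; norm_num)) hb2 hκX hu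
  have hκκ : κ * κ = 1 := sq_of_card_two h2 hκX hκ1
  have hzz : μ * u * (μ * u) * (μ * u) = 1 := by
    calc μ * u * (μ * u) * (μ * u) = (μ * u * μ) * u * μ * u := by group
      _ = σ * u * (u * σ * u) * u := by rw [hμu, ← hμ]
      _ = σ * (u * u) * σ * (u * u) := by group
      _ = 1 := by rw [hui, mul_one, mul_one, hσi]
  obtain ⟨c, hc⟩ : ∃ c, c = u * κ := ⟨_, rfl⟩
  have hcc : c * c = 1 := by
    calc c * c = u * (κ * u) * κ := by rw [hc]; group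
      _ = (u * u) * (κ * κ) := by rw [k3]; group
      _ = 1 := by rw [hui, hκκ, mul_one]
  have ci : c⁻¹ = c := inv_eq_of_mul_eq_one_right hcc
  obtain ⟨y, hy⟩ : ∃ y, y = μ * c := ⟨_, rfl⟩
  -- the conjugate
  have hconj : (r * s) * (μ * u) * (r * s)⁻¹ = y := by
    have e1 : r * s * μ = μ * (s * r) := by
      calc r * s * μ = (μ * s * μ⁻¹) * (μ * r * μ⁻¹) * μ := by rw [hs2, ← hs]
        _ = _ := by group
    calc (r * s) * (μ * u) * (r * s)⁻¹ = (r * s * μ) * u * (r * s)⁻¹ := by group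
      _ = μ * (s * r) * u * (s * r)⁻¹ := by rw [e1, k1]
      _ = μ * s * (r * u) * r⁻¹ * s⁻¹ := by group
      _ = μ * s * u * s⁻¹ := by rw [k2]; group
      _ = μ * (u * κ) := by rw [hκ]; group
      _ = y := by rw [hy, hc]
  have hyyy : y * y * y = 1 := by
    rw [← hconj]
    calc _ = (r * s) * (μ * u * (μ * u) * (μ * u)) * (r * s)⁻¹ := by group
      _ = 1 := by rw [hzz]; group
  have hidx : (fix (MulAut.conj y)).index = (fix τ).index := by
    have e1 := index_fix_conj τ (r * s)⁻¹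
    have e2 : (MulAut.conj (r * s)⁻¹)⁻¹ * τ * MulAut.conj (r * s)⁻¹ = MulAut.conj y := by
      rw [hτ, ← map_inv, inv_inv, ← map_mul, ← map_mul, hconj]
    rw [e2] at e1
    exact e1
  rw [← hidx]
  have huB : u ∈ RGD.B cs h T X := VJ_le_B _ N.mem
  have hκV : κ ∈ VJ cs h X ({i₀}ᶜ : Set I) := RGD.le_Sup (sr_mem_NotJ (J := {i₀}ᶜ) (by simp)) hκX
  have hcV : c ∈ VJ cs h X ({i₀}ᶜ : Set I) := by rw [hc]; exact mul_mem N.mem hκV
  have hcB : c ∈ RGD.B cs h T X := VJ_le_B _ hcV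
  refine index_of R (τ := MulAut.conj y) (u := c) (k := 1) hμw N.hw0 hcV (one_mem _) ?_ ?_ ?_ (AA_le_UJ i₀ j₀) ?_
  · intro b hb
    rw [MulAut.conj_apply, hy]
    have e1 : μ⁻¹ * (μ * c * b * (μ * c)⁻¹) * μ = c * b * c⁻¹ := by group
    rw [e1]
    exact mul_mem (mul_mem hcB hb) (inv_mem hcB)
  · rw [map_one]
    have e1 : (1 * μ)⁻¹ * (1 * μ) = 1 := by group
    rw [e1]
    exact one_mem _
  · have e1 : (c * 1 * μ)⁻¹ * (MulAut.conj y (1 * μ) * μ) = 1 := by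
      rw [MulAut.conj_apply]
      calc (c * 1 * μ)⁻¹ * (y * (1 * μ) * y⁻¹ * μ) = μ⁻¹ * c⁻¹ * μ * c * μ * c⁻¹ := by rw [hy]; group
        _ = (μ * c) * (μ * c) * (μ * c) := by rw [ci, μ1]; group
        _ = 1 := by rw [← hy, hyyy]
    rw [e1]
    exact one_mem _
  · intro s hs hsc
    have e1 : (1 : Y)⁻¹ * c * 1 = κ * u := by rw [hc, k3]; group
    rw [e1] at hsc
    refine free_node R hij hA hA0 hQ hκX hκ1 ?_ hs hsc
    exact RGD.le_Sup (S := NotJ cs h ({i₀}ᶜ : Set I) \ {sr i₀}) ⟨mem_NotJ_iff.2 ⟨hϑ, by omega⟩, hϑi⟩ hu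

end

end Cfsg.Agent.H523.DspEnd
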