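import Cfsg.Agent.H523.DspMeet

/-!
# `Meet` from the size of the classes of the automorphisms of order `p`, refined

`meet_of_cent2` : if `|T : C_T(y)| ≥ m` for all automorphisms `y` of order `p` and `(|P| - 1) |P ∩ Inn T| < (p - 1) m` then
`Meet p T`.
-/

set_option autoImplicit false
set_option linter.unusedSectionVars false

namespace Cfsg.Agent.H523.DspMeet

open Cfsg.Agent.H903.SylMeet Cfsg.Agent.H523.Dsp

variable {p : ℕ} [Fact p.Prime] {T : Type*} [Group T] [Finite T] [IsSimpleGroup T]

/-- the elements conjugating `y` into `P` -/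
theorem card_into_le (hT : ¬ IsMulCommutative T) (P : Subgroup (MulAut T)) (y : MulAut T) (hy : y ∈ P) :
    Nat.card {x : T // MulAut.conj x * y * (MulAut.conj x)⁻¹ ∈ P} ≤
      Nat.card (fix y) * Nat.card ↥(P ⊓ (MulAut.conj : T →* MulAut T).range) := by
  classical
  have hfin : Fintype T := Fintype.ofFinite T
  let N : Finset T := Finset.univ.filter fun x : T => MulAut.conj x * y * (MulAut.conj x)⁻¹ ∈ P
  let f : T → MulAut T := fun x => MulAut.conj x * y * (MulAut.conj x)⁻¹
  have h1 : N.card ≤ Nat.card (fix y) * (N.image f).card := by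
    refine Finset.card_le_mul_card_image N _ fun b hb => ?_
    obtain ⟨x₀, hx₀, rfl⟩ := Finset.mem_image.1 hb
    rw [Nat.card_eq_fintype_card, Fintype.card_subtype]
    refine Finset.card_le_card_of_injOn (fun x => x₀⁻¹ * x) (fun x hx => ?_) (fun a _ b _ hab => by simpa using hab)
    rw [Finset.mem_coe, Finset.mem_filter] at hx
    rw [Finset.mem_coe, Finset.mem_filter]
    refine ⟨Finset.mem_univ _, (conj_eq_iff hT y _).1 ?_⟩
    have h2 : MulAut.conj x * y * (MulAut.conj x)⁻¹ = MulAut.conj x₀ * y * (MulAut.conj x₀)⁻¹ := hx.2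
    rw [map_mul, map_inv, mul_inv_rev, inv_inv]
    calc (MulAut.conj x₀)⁻¹ * MulAut.conj x * y * ((MulAut.conj x)⁻¹ * MulAut.conj x₀) =
        (MulAut.conj x₀)⁻¹ * (MulAut.conj x * y * (MulAut.conj x)⁻¹) * MulAut.conj x₀ := by group
      _ = y := by rw [h2]; group
  have h2 : (N.image f).card ≤ Nat.card ↥(P ⊓ (MulAut.conj : T →* MulAut T).range) := by
    have hfin2 : Fintype (MulAut T) := Fintype.ofFinite _
    have h3 : Nat.card ↥(P ⊓ (MulAut.conj : T →* MulAut T).range) =
        (Finset.univ.filter fun z : MulAut T => z ∈ P ⊓ (MulAut.conj : T →* MulAut T).range).card := by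
      rw [← Fintype.card_subtype, ← Nat.card_eq_fintype_card]
    rw [h3]
    refine Finset.card_le_card_of_injOn (fun z => z * y⁻¹) (fun z hz => ?_) (fun a _ b _ hab => by simpa using hab)
    rw [Finset.mem_coe] at hz
    obtain ⟨x, hx, rfl⟩ := Finset.mem_image.1 hz
    rw [Finset.mem_filter] at hx
    rw [Finset.mem_coe, Finset.mem_filter]
    refine ⟨Finset.mem_univ _, P.mul_mem hx.2 (P.inv_mem hy), ?_⟩
    show MulAut.conj x * y * (MulAut.conj x)⁻¹ * y⁻¹ ∈ _
    rw [conj_mul_mul_inv, mul_inv_cancel_right]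
    exact ⟨_, rfl⟩
  have h3 : Nat.card {x : T // MulAut.conj x * y * (MulAut.conj x)⁻¹ ∈ P} = N.card := by
    rw [Nat.card_eq_fintype_card, Fintype.card_subtype]
  rw [h3]
  exact h1.trans (Nat.mul_le_mul_left _ h2)

/-- **Classes of automorphisms of order `p`, refined.** -/
theorem meet_of_cent2 (hT : ¬ IsMulCommutative T) {m a : ℕ}
    (hm : ∀ y : MulAut T, orderOf y = p → m ≤ (fix y).index) (P : Sylow p (MulAut T))
    (ha : Nat.card ↥((P : Subgroup (MulAut T)) ⊓ (MulAut.conj : T →* MulAut T).range) ≤ a)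
    (h : (Nat.card P - 1) * a < (p - 1) * m) : Meet p T := by
  classical
  apply meet_of_sylow P
  by_contra hcon
  have hp : p.Prime := Fact.out
  have hfin : Fintype T := Fintype.ofFinite T
  have hfin2 : Fintype (MulAut T) := Fintype.ofFinite _
  let O : Finset (MulAut T) := Finset.univ.filter fun y => y ∈ (P : Subgroup (MulAut T)) ∧ orderOf y = p
  let F : T → Finset (MulAut T) := fun x => O.filter fun y => MulAut.conj x * y * (MulAut.conj x)⁻¹ ∈ (P : Subgroup (MulAut T))
  let G : MulAut T → Finset T := fun y => Finset.univ.filter fun x => MulAut.conj x * y * (MulAut.conj x)⁻¹ ∈ (P : Subgroup (MulAut T))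
  -- double counting
  have hdc : ∑ x : T, (F x).card = ∑ y ∈ O, (G y).card := by
    have := Finset.sum_card_bipartiteAbove_eq_sum_card_bipartiteBelow (s := (Finset.univ : Finset T)) (t := O)
      (fun x y => MulAut.conj x * y * (MulAut.conj x)⁻¹ ∈ (P : Subgroup (MulAut T)))
    exact this
  have hlow : ∀ x : T, p - 1 ≤ (F x).card := by
    intro x
    obtain ⟨y, hy, hxy, hyp⟩ := exists_orderOf_of_not_good P.isPGroup' hcon x
    have h1 : ((Finset.univ.filter fun z : MulAut T => z ∈ Subgroup.zpowers y).erase 1) ⊆ F x := by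
      intro z hz
      rw [Finset.mem_erase, Finset.mem_filter] at hz
      obtain ⟨hz1, -, hz2⟩ := hz
      have hzo : orderOf z = p := by
        have h2 : orderOf z ∣ p := by
          rw [← hyp, ← Nat.card_zpowers y]
          exact Subgroup.orderOf_dvd_natCard _ hz2
        exact (hp.eq_one_or_self_of_dvd _ h2).resolve_left fun h => hz1 (orderOf_eq_one_iff.1 h)
      obtain ⟨k, rfl⟩ := Subgroup.mem_zpowers_iff.1 hz2
      refine Finset.mem_filter.2 ⟨Finset.mem_filter.2 ⟨Finset.mem_univ _, Subgroup.zpow_mem _ hy k, hzo⟩, ?_⟩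
      have h3 : MulAut.conj x * y ^ k * (MulAut.conj x)⁻¹ = (MulAut.conj x * y * (MulAut.conj x)⁻¹) ^ k := by
        rw [conj_zpow]
      rw [h3]
      exact Subgroup.zpow_mem _ hxy k
    refine le_trans (le_of_eq ?_) (Finset.card_le_card h1)
    rw [Finset.card_erase_of_mem (Finset.mem_filter.2 ⟨Finset.mem_univ _, one_mem _⟩), ← Fintype.card_subtype,
      ← Nat.card_eq_fintype_card]
    have h2 := Nat.card_zpowers y
    rw [hyp] at h2
    exact congrArg (· - 1) h2.symm
  have hO : O.card ≤ Nat.card P - 1 := by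
    have h1 : O ⊆ (Finset.univ.filter fun z : MulAut T => z ∈ (P : Subgroup (MulAut T))).erase 1 := by
      intro z hz
      rw [Finset.mem_filter] at hz
      refine Finset.mem_erase.2 ⟨?_, Finset.mem_filter.2 ⟨Finset.mem_univ _, hz.2.1⟩⟩
      rintro rfl
      rw [orderOf_one] at hz
      exact hp.one_lt.ne hz.2.2
    refine (Finset.card_le_card h1).trans (le_of_eq ?_)
    rw [Finset.card_erase_of_mem (Finset.mem_filter.2 ⟨Finset.mem_univ _, one_mem _⟩), ← Fintype.card_subtype,
      ← Nat.card_eq_fintype_card]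
  have hup : ∀ y ∈ O, m * (G y).card ≤ a * Nat.card T := by
    intro y hy
    rw [Finset.mem_filter] at hy
    have h1 := card_into_le hT (P : Subgroup (MulAut T)) y hy.2.1
    have h2 : Nat.card {x : T // MulAut.conj x * y * (MulAut.conj x)⁻¹ ∈ (P : Subgroup (MulAut T))} = (G y).card := by
      rw [Nat.card_eq_fintype_card, Fintype.card_subtype]
    rw [h2] at h1
    calc m * (G y).card ≤ (fix y).index * (Nat.card (fix y) * a) :=
          Nat.mul_le_mul (hm y hy.2.2) (h1.trans (Nat.mul_le_mul_left _ ha))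
      _ = a * Nat.card T := by rw [← (fix y).index_mul_card]; ring
  have h1 : Nat.card T * (p - 1) ≤ ∑ x : T, (F x).card := by
    have : ∑ _x : T, (p - 1) ≤ ∑ x : T, (F x).card := Finset.sum_le_sum fun x _ => hlow x
    rwa [Finset.sum_const, Finset.card_univ, smul_eq_mul, ← Nat.card_eq_fintype_card] at this
  have h2 : m * ∑ y ∈ O, (G y).card ≤ (Nat.card P - 1) * (a * Nat.card T) := by
    rw [Finset.mul_sum]
    calc ∑ y ∈ O, m * (G y).card ≤ ∑ _y ∈ O, a * Nat.card T := Finset.sum_le_sum hup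
      _ = O.card * (a * Nat.card T) := by rw [Finset.sum_const, smul_eq_mul]
      _ ≤ _ := Nat.mul_le_mul_right _ hO
  have hT0 : 0 < Nat.card T := Nat.card_pos
  have h3 : m * (Nat.card T * (p - 1)) ≤ (Nat.card P - 1) * (a * Nat.card T) := by
    refine (Nat.mul_le_mul_left m (h1.trans hdc.le)).trans h2
  have h4 : (p - 1) * m * Nat.card T ≤ (Nat.card P - 1) * a * Nat.card T := by
    calc (p - 1) * m * Nat.card T = m * (Nat.card T * (p - 1)) := by ring
      _ ≤ (Nat.card P - 1) * (a * Nat.card T) := h3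
      _ = _ := by ring
  exact absurd (Nat.le_of_mul_le_mul_right h4 hT0) (not_le.2 h)

/-- the inner part of a `p`-subgroup -/
theorem card_inf_le (P : Sylow p (MulAut T)) :
    Nat.card ↥((P : Subgroup (MulAut T)) ⊓ (MulAut.conj : T →* MulAut T).range) ≤ p ^ padicValNat p (Nat.card T) := by
  have hp : p.Prime := Fact.out
  obtain ⟨k, hk⟩ := (IsPGroup.iff_card (p := p)).1 (P.isPGroup'.to_le
    (inf_le_left : (P : Subgroup (MulAut T)) ⊓ (MulAut.conj : T →* MulAut T).range ≤ P))
  rw [hk]
  have h1 : p ^ k ∣ Nat.card T := by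
    rw [← hk]
    have h2 : Nat.card ↥((P : Subgroup (MulAut T)) ⊓ (MulAut.conj : T →* MulAut T).range) ∣
        Nat.card ↥((MulAut.conj : T →* MulAut T).range) := Subgroup.card_dvd_of_le inf_le_right
    exact h2.trans (Subgroup.card_range_dvd _)
  exact Nat.pow_le_pow_right hp.pos ((padicValNat_dvd_iff_le Nat.card_pos.ne').1 h1)

end Cfsg.Agent.H523.DspMeet
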