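import Cfsg.Agent.H523.Dsp

/-!
# The residues moved by an automorphism as far as possible

`x` a chamber with maximal displacement `w = δ(x, θ x)`, `J` the set of the ascents of `w`. Then `δ(y, θ y) = w` for all `y` in the
`J`-residue of `x`, and `θ y` is the projection of `y`.
-/

set_option autoImplicit false
set_option linter.unusedSectionVars false

namespace Cfsg.Agent.H523.DspRes

open Cfsg.Agent.Tits.Core Cfsg.Agent.Tits.Core.Bldg Cfsg.Agent.Tits.Exchange Cfsg.Agent.Tits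
open Cfsg.Agent.FixBN Cfsg.Agent.FixBN.Cox Cfsg.Agent.UGT.U2.FOne

variable {I : Type*} {M : CoxeterMatrix I} {W : Type*} [Group W] {cs : CoxeterSystem M W} {C : Type*}
  {Δ : Bldg cs C}

local prefix:100 "ℓ" => cs.length

variable {θ : C → C} {J : Set I} {w : W}

/-- `w` commutes with `W_J` -/
theorem comm_WJ (hc : ∀ i ∈ J, cs.simple i * w = w * cs.simple i) : ∀ v ∈ WJ cs J, v * w = w * v := by
  intro u hu
  unfold WJ at hu
  induction hu using Subgroup.closure_induction with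
  | mem x hx =>
    obtain ⟨j, hj, rfl⟩ := hx
    exact hc j hj
  | one => rw [one_mul, mul_one]
  | mul x y _ _ hx hy => rw [mul_assoc, hy, ← mul_assoc, hx, mul_assoc]
  | inv x _ hx =>
    rw [inv_mul_eq_iff_eq_mul, ← mul_assoc, hx, mul_inv_cancel_right]

theorem mul_self [F : OppRes.Cox cs] (hc : ∀ i ∈ J, cs.simple i * w = w * cs.simple i) (e1 : wJ cs J * w = w0 cs) :
    w * w = 1 := by
  have h1 := F.w0_mul_self
  rw [← e1] at h1
  have h2 := comm_WJ hc _ (F.wJ_mem _)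
  have h3 := F.wJ_mul_self J
  calc w * w = wJ cs J * wJ cs J * (w * w) := by rw [h3, one_mul]
    _ = wJ cs J * (wJ cs J * w) * w := by group
    _ = wJ cs J * (w * wJ cs J) * w := by rw [h2]
    _ = wJ cs J * w * (wJ cs J * w) := by group
    _ = 1 := h1

/-- the displacement is constant on the residue -/
theorem const (hθ : ∀ x y, Δ.δ (θ x) (θ y) = Δ.δ x y) {x : C} (hx : Δ.δ x (θ x) = w)
    (hmax : ∀ y, ℓ (Δ.δ y (θ y)) ≤ ℓ w) (hc : ∀ i ∈ J, cs.simple i * w = w * cs.simple i)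
    (ha : ∀ i ∈ J, ℓ w < ℓ (cs.simple i * w)) {y : C} (hy : y ∈ Δ.Res J x) : Δ.δ y (θ y) = w := by
  refine Δ.Res_induction (p := fun y => Δ.δ y (θ y) = w) hx ?_ hy
  intro y _ z i hi hyz hyw
  have h1 : Δ.δ z (θ y) = cs.simple i * w := by
    rw [Δ.step_lt_left (Δ.δ_symm_simple hyz) (z := θ y) (by rw [hyw]; exact ha i hi), hyw]
  have h2 : Δ.δ (θ y) (θ z) = cs.simple i := by rw [hθ, hyz]
  rcases Δ.step z (θ y) (θ z) _ h2 with h3 | h3
  · rw [h3, h1, hc i hi, cs.simple_mul_simple_cancel_right]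
  · exfalso
    have h4 := hmax z
    rw [h3, h1] at h4
    have := ha i hi
    omega

/-- uniqueness of the projection -/
theorem eq_of_res (hc : ∀ i ∈ J, cs.simple i * w = w * cs.simple i) (ha : ∀ i ∈ J, ℓ w < ℓ (cs.simple i * w))
    {y z z' : C} (h1 : Δ.δ y z = w) (h2 : Δ.δ y z' = w) (h3 : z' ∈ Δ.Res J z) : z = z' := by
  have hm : IsMinR cs J w := (isMinR_iff cs).2 fun i hi => by rw [← hc i hi]; exact ha i hi
  have p1 : Δ.IsProj J z y z := Δ.isProj_of_isMinR (Δ.self_mem_Res J z) (by rw [h1]; exact hm)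
  have p2 : Δ.IsProj J z y z' := Δ.isProj_of_isMinR h3 (by rw [h2]; exact hm)
  exact p1.unique p2

/-- the second power -/
theorem two [F : OppRes.Cox cs] (hθ : ∀ x y, Δ.δ (θ x) (θ y) = Δ.δ x y) {x : C} (hx : Δ.δ x (θ x) = w)
    (h3 : θ (θ (θ x)) = x) (hww : w * w = 1) : Δ.δ x (θ (θ x)) = w := by
  have h4 : Δ.δ (θ (θ x)) x = w := by
    have h5 := hθ (θ x) (θ (θ x))
    rw [h3, hθ] at h5
    rw [h5, hx]
  rw [Δ.symm, h4]
  exact inv_eq_of_mul_eq_one_right hww

end Cfsg.Agent.H523.DspRes
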