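import Cfsg.Agent.H523.DspAlg

/-!
# The second step at a node
-/

set_option autoImplicit false
set_option linter.unusedSectionVars false
set_option linter.unusedVariables false

namespace Cfsg.Agent.H523.DspNode

open CoxeterSystem Cfsg.Agent.ChevalleyStructure.CoxeterGeom Cfsg.Agent.Tits.Roots Cfsg.Agent.Tits.Core
  Cfsg.Agent.Tits.RootComb Cfsg.Agent.Nodes.Comb Cfsg.Agent.Nodes.Reps Cfsg.Agent.Nodes.BNOf
  Cfsg.Agent.Nodes.LeviDec Cfsg.Agent.Nodes.Bruhat Cfsg.Agent.Nodes.StabComb Cfsg.Agent.Nodes.MuSq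
  Cfsg.Agent.Nodes.Coroot Cfsg.Agent.H523.Dsp Cfsg.Agent.H523.DspNF Cfsg.Agent.Nodes Cfsg.Agent.H523.DspAlg
open scoped commutatorElement

universe v

variable {I W : Type*} {Y : Type v} [Fintype I] [DecidableEq I] [Group W] [Group Y] {M : CoxeterMatrix I}
  {cs : CoxeterSystem M W} {A : I → I → ℤ} {h : IsCartan M A} {p : ℕ} {T : Subgroup Y} {n : I → Y}
  {X : (I → ℤ) → Subgroup Y} [Finite W]

/-- a coordinate -/
def co (i : I) : (I → ℤ) →+ ℤ := Pi.evalAddMonoidHom (fun _ => ℤ) i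

omit [Fintype I] [DecidableEq I] in
theorem co_apply (i : I) (x : I → ℤ) : co i x = x i := rfl

theorem eq_sum (x : I → ℤ) : x = ∑ k, x k • sr k := by
  funext l
  rw [Finset.sum_apply, Finset.sum_eq_single l]
  · rw [Pi.smul_apply, sr_self, smul_eq_mul, mul_one]
  · intro b _ hb
    rw [Pi.smul_apply, sr_ne hb.symm, smul_zero]
  · intro hb
    exact absurd (Finset.mem_univ l) hb

omit [Finite W] in
/-- `W_J` preserves the coordinates outside `J` -/
theorem rep_co {J : Set I} {w : W} (hw : w ∈ WJ cs J) {i : I} (hi : i ∉ J) (x : I → ℤ) : rep cs h w x i = x i := by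
  unfold WJ at hw
  induction hw using Subgroup.closure_induction generalizing x with
  | mem w hw =>
    obtain ⟨j, hj, rfl⟩ := hw
    have hij : i ≠ j := fun e => hi (e ▸ hj)
    rw [rep_simple_eq, Pi.sub_apply, Pi.smul_apply, sr_ne hij, smul_zero, sub_zero]
  | one => rw [map_one, Module.End.one_apply]
  | mul a b _ _ ha hb => rw [rep_mul_apply, ha, hb]
  | inv a _ ha =>
    have h1 := ha (rep cs h a⁻¹ x)
    rw [rep_apply_inv] at h1
    exact h1.symm

section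

variable (R : RGD cs h p T n X) {τ : MulAut Y} {i₀ : I} {w : W} {m u : Y}

omit [Finite W] in
theorem _root_.Cfsg.Agent.H523.DspNF.NF.co_rep {R : RGD cs h p T n X} (N : NF R τ i₀ w m u) (x : I → ℤ) :
    rep cs h w x i₀ = - x i₀ := by
  conv_lhs => rw [eq_sum x]
  rw [map_sum, Finset.sum_apply, Finset.sum_eq_single i₀]
  · rw [map_smul, Pi.smul_apply, N.apply, smul_eq_mul, mul_neg_one]
  · intro b _ hb
    rw [map_smul, N.fixJ b hb, Pi.smul_apply, sr_ne hb.symm, smul_zero]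
  · intro hb
    exact absurd (Finset.mem_univ _) hb

omit [Finite W] in
theorem _root_.Cfsg.Agent.H523.DspNF.NF.inv_rep {R : RGD cs h p T n X} (N : NF R τ i₀ w m u) (x : I → ℤ) :
    rep cs h w⁻¹ x = rep cs h w x := by
  conv_lhs => rw [← N.ww x]
  rw [rep_inv_apply]

omit [Finite W] in
theorem _root_.Cfsg.Agent.H523.DspNF.NF.hw0 {R : RGD cs h p T n X} (N : NF R τ i₀ w m u) :
    ∀ x, IsRoot cs h x → 0 ≤ x → 0 ≤ rep cs h w⁻¹ x → x i₀ = 0 := by
  intro x hx h0 h1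
  have h2 := h0 i₀
  have h3 := h1 i₀
  rw [N.inv_rep, N.co_rep] at h3
  simp only [Pi.zero_apply] at h2 h3
  omega

include R in
/-- the index from the second step, for a normal form -/
theorem index_nf [Finite Y] (N : NF R τ i₀ w m u) {k : Y} (hk : k ∈ LJ cs h T X ({i₀}ᶜ : Set I))
    {S : Subgroup Y} (hS : S ≤ UJ cs h X ({i₀}ᶜ : Set I))
    (hfree : ∀ s ∈ S, s * (k⁻¹ * u * k) = k⁻¹ * u * k * s → s = 1) :
    Nat.card ↥(VJ cs h X ({i₀}ᶜ : Set I)) * Nat.card S ≤ (fix τ).index :=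
  index_of R N.rp N.hw0 N.mem hk N.wd (N.one k hk) (N.two k hk) hS hfree

/-- the roots of the radical at the node `j₀` of the Levi subgroup at the node `i₀` -/
def AA (cs : CoxeterSystem M W) (h : IsCartan M A) (i₀ j₀ : I) : Set (I → ℤ) := {x | IsRoot cs h x ∧ x i₀ = 0 ∧ 0 < x j₀}

omit [Finite W] in
theorem AA_le_UJ (i₀ j₀ : I) : RGD.Sup X (AA cs h i₀ j₀) ≤ UJ cs h X ({i₀}ᶜ : Set I) := by
  refine RGD.Sup_mono ?_
  rintro x ⟨hx, h1, h2⟩
  refine ⟨hx, nonneg_of_pos_apply hx h2, fun k hk => ?_⟩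
  have h3 : k = i₀ := by simpa using hk
  rw [h3, h1]

include R in
/-- the free action at a node -/
theorem free_node {j₀ : I} (hij : i₀ ≠ j₀) (hA : A i₀ j₀ = -1) (hA0 : ∀ k, k ≠ i₀ → k ≠ j₀ → A i₀ k = 0)
    (hQ : ∀ x, IsRoot cs h x → 0 < x i₀ → x ≠ sr i₀ → x i₀ ≤ x j₀) {x u s : Y} (hx : x ∈ X (sr i₀)) (hx1 : x ≠ 1)
    (hu : u ∈ RGD.Sup X (NotJ cs h ({i₀}ᶜ : Set I) \ {sr i₀})) (hs : s ∈ RGD.Sup X (AA cs h i₀ j₀))
    (hsu : s * (x * u) = x * u * s) : s = 1 := by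
  have hWf : Fintype W := Fintype.ofFinite W
  have hpair : ∀ a : I → ℤ, a i₀ = 0 → pairing A i₀ a = - a j₀ := by
    intro a ha
    unfold pairing
    rw [Finset.sum_eq_single j₀]
    · rw [hA]; ring
    · intro b _ hb
      by_cases hbi : b = i₀
      · rw [hbi, ha, mul_zero]
      · rw [hA0 b hbi hb, zero_mul]
    · intro hb
      exact absurd (Finset.mem_univ _) hb
  refine free_of R (isRoot_sr cs h i₀) (f := co i₀) (g := co j₀) (ell := co j₀ - co i₀) (P := AA cs h i₀ j₀)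
    (Q := NotJ cs h ({i₀}ᶜ : Set I) \ {sr i₀}) ?_ ?_ ?_ ?_ ?_ ?_ ?_ hx hx1 hu hs hsu
  · intro z hz h0
    exact nonneg_of_pos_apply hz h0 i₀
  · rw [co_apply, sr_self]; norm_num
  · rw [co_apply, sr_ne hij.symm]
  · rw [AddMonoidHom.sub_apply, co_apply, co_apply, sr_self, sr_ne hij.symm]; norm_num
  · rintro a ⟨ha, h0, h1⟩
    refine ⟨ha, h0, h1, ?_, ?_⟩
    · rw [AddMonoidHom.sub_apply, co_apply, co_apply, h0, sub_zero]; exact h1
    · intro z hz
      have h2 : 0 < co j₀ z := Slope.btwn_pos' hz.symm (co j₀) h1 (by rw [map_neg, co_apply, sr_ne hij.symm, neg_zero])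
      have h3 : 0 ≤ z i₀ := nonneg_of_pos_apply hz.1 h2 i₀
      have h4 : 0 < -(co i₀ z) := by
        have := Slope.btwn_pos' hz (-co i₀) (by
          rw [AddMonoidHom.neg_apply, map_neg, co_apply, sr_self]; norm_num) (by
          rw [AddMonoidHom.neg_apply, co_apply, h0, neg_zero])
        rwa [AddMonoidHom.neg_apply] at this
      rw [co_apply] at h4
      omega
  · rintro a ⟨ha, h0, h1⟩
    have h2 : cpr cs h a (sr i₀) = - a j₀ := by rw [cpr_sr, hpair a h0]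
    rw [h2]
    simp only [AddMonoidHom.sub_apply, co_apply, Pi.sub_apply, Pi.smul_apply, sr_self, sr_ne hij.symm, smul_eq_mul, h0]
    refine ⟨by omega, by ring, by omega⟩
  · rintro b ⟨hb, hne⟩
    obtain ⟨k, hk, hk0⟩ := hb.2.2
    have h3 : k = i₀ := by simpa using hk
    rw [h3] at hk0
    refine ⟨hb.1, hk0, ?_⟩
    rw [AddMonoidHom.sub_apply, co_apply, co_apply]
    have := hQ b hb.1 hk0 hne
    omega

omit [Finite W] in
theorem mem_NotJ_iff {x : I → ℤ} : x ∈ NotJ cs h ({i₀}ᶜ : Set I) ↔ IsRoot cs h x ∧ 0 < x i₀ := by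
  constructor
  · rintro ⟨h1, h2, k, hk, hk0⟩
    have h3 : k = i₀ := by simpa using hk
    rw [h3] at hk0
    exact ⟨h1, hk0⟩
  · rintro ⟨h1, h2⟩
    exact ⟨h1, nonneg_of_pos_apply h1 h2, i₀, by simp, h2⟩

omit [Finite W] in
theorem NotJ_closed : Unique.Closed cs h (NotJ cs h ({i₀}ᶜ : Set I)) := by
  intro x hx y hy z hz
  rw [mem_NotJ_iff] at hx hy ⊢
  exact ⟨hz.1, Slope.btwn_pos' hz (co i₀) hx.2 hy.2.le⟩

omit [Finite W] in
theorem NotJ_pos : NotJ cs h ({i₀}ᶜ : Set I) ⊆ RGD.Pos cs h := fun x hx => ⟨hx.1, hx.2.1⟩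

/-- the orbit of the fundamental root -/
def Orb (cs : CoxeterSystem M W) (h : IsCartan M A) (i₀ : I) : Set (I → ℤ) :=
  {x | ∃ v ∈ WJ cs ({i₀}ᶜ : Set I), x = rep cs h v (sr i₀)}

include R in
/-- **All coefficients of the orbit vanish.** -/
theorem mem_diff_orb [Finite Y] (hO : ∀ x, IsRoot cs h x → 0 < x i₀ → x ≠ sr i₀ → pairing A i₀ x ≤ x i₀)
    (hu : u ∈ VJ cs h X ({i₀}ᶜ : Set I))
    (hall : ∀ k ∈ LJ cs h T X ({i₀}ᶜ : Set I), k⁻¹ * u * k ∈ RGD.Sup X (NotJ cs h ({i₀}ᶜ : Set I) \ {sr i₀})) :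
    u ∈ RGD.Sup X (NotJ cs h ({i₀}ᶜ : Set I) \ Orb cs h i₀) := by
  refine mem_diff R NotJ_pos NotJ_closed ?_ hu ?_
  · rintro x hx y hy z hz ⟨v, hv, rfl⟩
    by_contra hcon
    push Not at hcon
    obtain ⟨hxz, hyz⟩ := hcon
    rw [mem_NotJ_iff] at hx hy
    obtain ⟨-, m, a, b, hm, ha, hb, he⟩ := hz
    have e1 : m * 1 = a * x i₀ + b * y i₀ := by
      have := congrFun he i₀
      simp only [Pi.smul_apply, Pi.add_apply, smul_eq_mul] at this
      rwa [rep_co hv (by simp), sr_self] at this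
    have e2 : m * 2 = a * pairing A i₀ (rep cs h v⁻¹ x) + b * pairing A i₀ (rep cs h v⁻¹ y) := by
      have h1 := congrArg (fun t => pairing A i₀ (rep cs h v⁻¹ t)) he
      simp only [map_smul, map_add, rep_inv_apply] at h1
      have h2 : ∀ (c : ℤ) (s t : I → ℤ), pairing A i₀ (c • s + t) = c * pairing A i₀ s + pairing A i₀ t := by
        intro c s t
        unfold pairing
        rw [Finset.mul_sum, ← Finset.sum_add_distrib]
        refine Finset.sum_congr rfl fun k _ => ?_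
        rw [Pi.add_apply, Pi.smul_apply, smul_eq_mul]
        ring
      have h3 : pairing A i₀ (0 : I → ℤ) = 0 := by
        unfold pairing
        simp
      have h4 := h2 m (sr i₀) 0
      have h5 := h2 a (rep cs h v⁻¹ x) (b • rep cs h v⁻¹ y)
      have h6 := h2 b (rep cs h v⁻¹ y) 0
      rw [add_zero] at h4 h6
      rw [h4, h5, h6, h3] at h1
      have h7 : pairing A i₀ (sr i₀) = 2 := by
        unfold sr
        rw [pairing_single, h.diag, mul_one]
      rw [h7] at h1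
      linarith
    have key : ∀ t, IsRoot cs h t → 0 < t i₀ → t ≠ rep cs h v (sr i₀) → pairing A i₀ (rep cs h v⁻¹ t) ≤ t i₀ := by
      intro t ht h0 hne
      have h1 : rep cs h v⁻¹ t i₀ = t i₀ := rep_co (inv_mem hv) (by simp) t
      rw [← h1]
      refine hO _ (ht.act _) (by rw [h1]; exact h0) ?_
      intro e
      apply hne
      rw [← e, rep_apply_inv]
    have k1 := key x hx.1 hx.2 hxz
    have k2 := key y hy.1 hy.2 hyz
    have h1 : a * pairing A i₀ (rep cs h v⁻¹ x) ≤ a * x i₀ := mul_le_mul_of_nonneg_left k1 ha.le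
    have h2 : b * pairing A i₀ (rep cs h v⁻¹ y) ≤ b * y i₀ := mul_le_mul_of_nonneg_left k2 hb.le
    linarith
  · rintro γ ⟨v, hv, rfl⟩
    obtain ⟨g, hg⟩ := exists_rp cs R.nsys v
    have h1 := hall g (rp_mem_LJ R hv hg)
    have h2 := conj_mem_Sup R hg (S := NotJ cs h ({i₀}ᶜ : Set I) \ {sr i₀})
      (S' := NotJ cs h ({i₀}ᶜ : Set I) \ {rep cs h v (sr i₀)}) (fun x hx => hx.1.1)
      (fun x hx => ⟨NotJ.act hv hx.1, fun e => hx.2 (rep_injective_apply cs h v e)⟩) h1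
    have h3 : g * (g⁻¹ * u * g) * g⁻¹ = u := by group
    rwa [h3] at h2

end

end Cfsg.Agent.H523.DspNode
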