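import Cfsg.Agent.H523.Dsp
import Cfsg.Agent.OddHalf.NI.FTwo.IdentRgd
import Cfsg.Agent.H81.PJTab

/-!
# The size of the classes of automorphisms of a group with a root group datum

`index_ge` : if `τ ≠ 1` is an automorphism of a finite simple group `Y` with a root group datum, then `|Y : C_Y(τ)| ≥ N`, where
`N` is a lower bound of the weights of the paths from the fundamental functionals.
-/

set_option autoImplicit false
set_option linter.unusedSectionVars false

namespace Cfsg.Agent.H523.DspRgd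

open CoxeterSystem Cfsg.Agent.ChevalleyStructure.CoxeterGeom Cfsg.Agent.Tits.Roots Cfsg.Agent.Tits.Core
  Cfsg.Agent.Tits.RootComb Cfsg.Agent.Nodes.Comb Cfsg.Agent.Nodes.Reps Cfsg.Agent.Nodes.BNOf Cfsg.Agent.Nodes.BNOf.RGD
  Cfsg.Agent.FixBN Cfsg.Agent.Tits.OfBN Cfsg.Agent.Tits.OppRes Cfsg.Agent.LieExceptional.BNPairCore
  Cfsg.Agent.OddHalf.Table.AutBldg Cfsg.Agent.OddHalf.Table.AutRGD Cfsg.Agent.OddHalf.Table.AutNorm
  Cfsg.Agent.Tits.Exchange Cfsg.Agent.H612.WModel Cfsg.Agent.H81.PJSum Cfsg.Agent.H523.Dsp Cfsg.Agent.Tits.Core.Bldg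
  Cfsg.Agent.H905.DC Cfsg.Agent.UGT.U2.FOne Cfsg.Agent.Nodes.RGDLib Cfsg.Agent.Tits

section Path

variable {I : Type*} [Fintype I] [DecidableEq I]

/-- a path: the entries of the functional at the nodes fired are positive -/
def Path (A : I → I → ℤ) : (I → ℤ) → List I → Prop
  | _, [] => True
  | v, j :: ω => 0 < v j ∧ Path A (fire A v j) ω

variable {W : Type*} [Group W] {M : CoxeterMatrix I} {cs : CoxeterSystem M W} {A : I → I → ℤ} {h : IsCartan M A}

theorem Path.spec {l : I → ℤ} (h0 : ∀ i, 0 ≤ l i) : ∀ (ω : List I) (v : I → ℤ) (w : W), Path A v ω →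
    fl cs h l w = v → IsMinL cs {i | l i = 0} w →
    IsMinL cs {i | l i = 0} (w * cs.wordProd ω) ∧ cs.length (w * cs.wordProd ω) = cs.length w + ω.length := by
  intro ω
  induction ω with
  | nil =>
    intro v w _ _ hw
    rw [wordProd_nil, mul_one, List.length_nil, add_zero]
    exact ⟨hw, rfl⟩
  | cons j ω ih =>
    intro v w hp hv hw
    obtain ⟨h1, h2⟩ := hp
    obtain ⟨h3, h4⟩ := min_step (h := h) h0 hw (j := j) (by rw [hv]; exact h1)
    obtain ⟨h5, h6⟩ := ih _ (w * cs.simple j) h2 (by rw [fl_mul_simple, hv]) h3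
    rw [wordProd_cons, ← mul_assoc, List.length_cons]
    exact ⟨h5, by rw [h6, h4]; omega⟩

theorem Path.one (cs : CoxeterSystem M W) (h : IsCartan M A) {l : I → ℤ} (h0 : ∀ i, 0 ≤ l i) {ω : List I} (hp : Path A l ω) :
    IsMinL cs {i | l i = 0} (cs.wordProd ω) ∧ cs.IsReduced ω := by
  obtain ⟨h1, h2⟩ := Path.spec (cs := cs) (h := h) h0 ω l 1 hp (fl_one cs h l) (isMinL_one cs _)
  rw [one_mul] at h1 h2
  rw [cs.length_one, zero_add] at h2
  exact ⟨h1, h2⟩

end Path

section Sphere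

variable {I : Type*} {M : CoxeterMatrix I} {W : Type*} [Group W] {cs : CoxeterSystem M W} {C : Type*}
  {Δ : Bldg cs C}

/-- the size of a sphere of radius `w_J w₀` -/
theorem prod_le_sphere [F : Cfsg.Agent.Tits.OppRes.Cox cs] {q : I → ℕ} (hq : ∀ i, Δ.Param i (q i)) (hq0 : ∀ i, 0 < q i) (x : C)
    {J : Set I} {w : W} (h1 : wJ cs J * w = w0 cs) (h2 : cs.length (wJ cs J) + cs.length w = cs.length (w0 cs))
    {ω : List I} (hω : cs.IsReduced ω) (hm : IsMinL cs J (cs.wordProd ω)) :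
    (ω.map q).prod ≤ Nat.card {z // Δ.δ x z = w} := by
  obtain ⟨α, hα, hα'⟩ := cs.exists_isReduced (wJ cs J)
  obtain ⟨β, hβ, rfl⟩ := cs.exists_isReduced w
  have h3 := hm _ (F.wJ_mem J)
  obtain ⟨γ, hγ, hγ'⟩ := cs.exists_isReduced ((wJ cs J * cs.wordProd ω)⁻¹ * w0 cs)
  have h4 := F.len_mul_w0 (wJ cs J * cs.wordProd ω)⁻¹
  rw [cs.length_inv] at h4
  have r1 : cs.IsReduced (α ++ β) := by
    unfold CoxeterSystem.IsReduced
    rw [wordProd_append, ← hα', h1, ← h2, List.length_append, hβ.eq, hα', hα.eq]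
  have e2 : cs.wordProd (α ++ ω ++ γ) = w0 cs := by
    rw [wordProd_append, wordProd_append, ← hα', ← hγ', mul_inv_cancel_left]
  have r2 : cs.IsReduced (α ++ ω ++ γ) := by
    unfold CoxeterSystem.IsReduced
    rw [e2, ← h4, h3, hγ', hγ.eq, hα', hα.eq, hω.eq, List.length_append, List.length_append]
    omega
  have c1 := Opp.card_sphere Δ hq hq0 x r1
  have c2 := Opp.card_sphere Δ hq hq0 x r2
  rw [wordProd_append, ← hα', h1] at c1
  rw [e2, c1, List.map_append, List.prod_append, List.map_append, List.prod_append, List.map_append,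
    List.prod_append, mul_assoc] at c2
  have hpos : ∀ ω : List I, 0 < (ω.map q).prod := by
    intro ω
    apply List.prod_pos
    intro a ha
    obtain ⟨i, _, rfl⟩ := List.mem_map.1 ha
    exact hq0 i
  have c3 := Nat.eq_of_mul_eq_mul_left (hpos α) c2
  rw [Opp.card_sphere Δ hq hq0 x hβ, c3]
  exact Nat.le_mul_of_pos_right _ (hpos γ)

end Sphere

universe v

variable {I W : Type*} {Y : Type v} [Fintype I] [DecidableEq I] [Group W] [Group Y] {M : CoxeterMatrix I}
  {cs : CoxeterSystem M W} {A : I → I → ℤ} {h : IsCartan M A} {p : ℕ} {T : Subgroup Y} {n : I → Y}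
  {X : (I → ℤ) → Subgroup Y} [Finite W] (R : RGD cs h p T n X)

/-- powers of an automorphism -/
theorem exists_iter {I : Type*} {M : CoxeterMatrix I} {W : Type*} [Group W] {cs : CoxeterSystem M W} {C : Type*}
    {Δ : Bldg cs C} {G : Type*} [Group G] [MulAction G C] (t : Mv Δ G) (n : ℕ) :
    ∃ t' : Mv Δ G, t'.τ = (t.τ : MulAut G) ^ n ∧ t'.σ = t.σ^[n] ∧ t'.θ = t.θ^[n] := by
  induction n with
  | zero => exact ⟨Mv.one Δ G, rfl, rfl, rfl⟩
  | succ n ih =>
    obtain ⟨t', h1, h2, h3⟩ := ih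
    refine ⟨Mv.comp t t', ?_, ?_, ?_⟩
    · rw [pow_succ', ← h1]
      rfl
    · rw [Function.iterate_succ', ← h2]
      rfl
    · rw [Function.iterate_succ', ← h3]
      rfl

include R in
/-- **The size of the class of an automorphism.** `P J` is a condition on the set `J` of the left ascents of the
displacement. -/
theorem index_ge' [Finite Y] [IsSimpleGroup Y] [Fact p.Prime] [Nonempty I] (hG : G1 cs h X = ⊤) {N : ℕ}
    (τ : MulAut Y) (hτ : τ ≠ 1) (hN : ∀ (W' : Type v) [Group W'] [Finite W'] (cs' : CoxeterSystem M W') (J : Set I) (w : W')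
      (φ : W' ≃* W') (σ : I → I), (∀ i, φ (cs'.simple i) = cs'.simple (σ i)) → J ≠ Set.univ → wJ cs' J * w = w0 cs' →
      cs'.length (wJ cs' J) + cs'.length w = cs'.length (w0 cs') →
      (∀ i ∈ J, cs'.simple i * w = w * cs'.simple (σ i)) → (∀ i ∈ J, cs'.length w < cs'.length (cs'.simple i * w)) →
      (∀ i, i ∉ J → cs'.length (w * cs'.simple (σ i)) < cs'.length w) → (∀ i j, M (σ i) (σ j) = M i j) →
      (∀ n : ℕ, τ ^ n = 1 → ∀ i, σ^[n] i = i) → ∃ ω : List I, cs'.IsReduced ω ∧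
        IsMinL cs' J (cs'.wordProd ω) ∧ N ≤ (ω.map fun i => Nat.card ↥(X (sr i))).prod) :
    N ≤ (fix τ).index := by
  have hgen := rgd_gen_of_G1 R hG
  have hne : ((R.bnPair hgen).S).Nonempty := ⟨_, ((eS R hgen) (Classical.arbitrary I)).2⟩
  have hcore := normalCore_eq_bot (R.bnPair hgen) hne
  obtain ⟨hN', cs', hcs, hfin, hS⟩ := exists_setup R hgen hcore
  have hth := Tits.OfBN.thick (R.bnPair hgen) (eS R hgen) cs' hcs
  have S := FixBN.OfBN.sys (eS R hgen) cs' hcs hS
  obtain ⟨t, ht⟩ := exists_mv hS (eS R hgen) cs' hcs τ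
  have hC : Cfsg.Agent.Tits.OppRes.Cox cs' := inferInstance
  have hSA := strongAct (R.bnPair hgen) (eS R hgen) cs' hcs hcore
  have hfaith := hSA.faithful
  have hnc : Nonempty (Y ⧸ (R.bnPair hgen).B) := ⟨QuotientGroup.mk 1⟩
  have hmove : ∃ x, t.θ x ≠ x := by
    by_contra hcon
    push Not at hcon
    apply hτ
    ext g
    have h1 : ∀ x : Y ⧸ (R.bnPair hgen).B, τ g • x = g • x := by
      intro x
      have h2 := t.θ_smul g x
      rw [hcon, hcon, ht] at h2
      exact h2.symm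
    exact hfaith.eq_of_smul_eq_smul h1
  obtain ⟨x, J, hJ, e1, e2, e3, e4, e5, e6⟩ := exists_max hth t.φ_simple t.δ_θ hmove
  have hM : ∀ i j, M (t.σ i) (t.σ j) = M i j := by
    intro i j
    rw [← LieRecognition.CoxForm.orderOf_eq cs', ← LieRecognition.CoxForm.orderOf_eq cs', ← t.φ_simple, ← t.φ_simple,
      ← map_mul]
    exact t.φ.orderOf_eq _
  have hσ : ∀ n : ℕ, τ ^ n = 1 → ∀ i, t.σ^[n] i = i := by
    intro n hn i
    obtain ⟨t', h1, h2, h3⟩ := exists_iter t n
    have h4 : ∀ g, t'.τ g = (Mv.one (bldg (R.bnPair hgen) (eS R hgen) cs' hcs) Y).τ g := by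
      intro g
      have h5 : t'.τ = 1 := by rw [h1, ht, hn]
      rw [h5]
      rfl
    have h5 := Mv.θ_eq S hth h4
    have h6 : ∀ w : WP (R.bnPair hgen), t'.φ w = w := by
      intro w
      obtain ⟨y, rfl⟩ := (bldg (R.bnPair hgen) (eS R hgen) cs' hcs).exists_δ x w
      rw [← t'.δ_θ, h5, h5]
      rfl
    apply hC.inj
    rw [← h2, ← t'.φ_simple, h6]
  obtain ⟨ω, hω, hm, hle⟩ := hN _ cs' J _ t.φ t.σ t.φ_simple hJ e1 e2 e3 e4 e5 hM hσ
  have hpar : ∀ i, (Bl R hgen cs' hcs).Param i (Nat.card ↥(X (sr i))) := fun i x =>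
    Cfsg.Agent.OddHalf.NI.FTwo.IdentRgd.card_pan R hgen cs' hcs i x
  have h3 := prod_le_sphere hpar (fun i => Nat.card_pos) x e1 e2 hω hm
  have h4 := card_sphere_le S t x
  rw [ht] at h4
  exact hle.trans (h3.trans h4)

include R in
/-- **The size of the class of an automorphism**, crude form. -/
theorem index_ge [Finite Y] [IsSimpleGroup Y] [Fact p.Prime] [Nonempty I] (hG : G1 cs h X = ⊤) {N : ℕ}
    (hN : ∀ i : I, ∃ ω : List I, Path A (Pi.single i 1) ω ∧ N ≤ (ω.map fun j => Nat.card ↥(X (sr j))).prod)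
    (τ : MulAut Y) (hτ : τ ≠ 1) : N ≤ (fix τ).index := by
  refine index_ge' R hG τ hτ fun W' _ _ cs' J w φ σ _ hJ _ _ _ _ _ _ _ => ?_
  obtain ⟨i, hi⟩ : ∃ i, i ∉ J := by
    by_contra hcon
    push Not at hcon
    exact hJ (Set.eq_univ_of_forall hcon)
  obtain ⟨ω, h1, h2⟩ := hN i
  obtain ⟨h3, h4⟩ := Path.one cs' h (l := Pi.single i 1) (fun k => by
    rw [Pi.single_apply]; split_ifs <;> norm_num) h1
  refine ⟨ω, h4, fun u hu => h3 u (WJ_mono cs' ?_ hu), h2⟩
  intro k hk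
  have hki : k ≠ i := fun e => hi (e ▸ hk)
  show (Pi.single i 1 : I → ℤ) k = 0
  rw [Pi.single_apply, if_neg hki]

/-- the displacement is not of the form `w_J w₀`, `J` the complement of `i₀` -/
theorem excl {W' : Type*} [Group W'] [Finite W'] (cs' : CoxeterSystem M W') (h : IsCartan M A) {i₀ : I} {m : ℤ}
    (hm : 3 ≤ m) (hz : ∀ z : I → ℤ, (∀ j, j ≠ i₀ → ∑ k, A j k * z k = 0) → m ∣ z i₀) {w : W'}
    (e1 : wJ cs' {i₀}ᶜ * w = w0 cs') (e3 : ∀ i, i ≠ i₀ → cs'.simple i * w = w * cs'.simple i)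
    (e4 : ∀ i, i ≠ i₀ → cs'.length w < cs'.length (cs'.simple i * w))
    (e5 : cs'.length (w * cs'.simple i₀) < cs'.length w) : False := by
  have F : Cfsg.Agent.Tits.OppRes.Cox cs' := inferInstance
  -- `w` commutes with `W_J`
  have hcomm : ∀ u ∈ WJ cs' ({i₀}ᶜ : Set I), u * w = w * u := by
    intro u hu
    unfold WJ at hu
    induction hu using Subgroup.closure_induction with
    | mem x hx =>
      obtain ⟨j, hj, rfl⟩ := hx
      exact e3 j hj
    | one => rw [one_mul, mul_one]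
    | mul x y _ _ hx hy => rw [mul_assoc, hy, ← mul_assoc, hx, mul_assoc]
    | inv x _ hx =>
      rw [inv_mul_eq_iff_eq_mul, ← mul_assoc, hx, mul_inv_cancel_right]
  have hww : w * w = 1 := by
    have h1 := F.w0_mul_self
    rw [← e1] at h1
    have h2 := hcomm _ (F.wJ_mem _)
    have h3 := F.wJ_mul_self ({i₀}ᶜ : Set I)
    calc w * w = wJ cs' {i₀}ᶜ * wJ cs' {i₀}ᶜ * (w * w) := by rw [h3, one_mul]
      _ = wJ cs' {i₀}ᶜ * (wJ cs' {i₀}ᶜ * w) * w := by group
      _ = wJ cs' {i₀}ᶜ * (w * wJ cs' {i₀}ᶜ) * w := by rw [h2]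
      _ = wJ cs' {i₀}ᶜ * w * (wJ cs' {i₀}ᶜ * w) := by group
      _ = 1 := h1
  -- `w` fixes the simple roots of `J`
  have hfix : ∀ j, j ≠ i₀ → rep cs' h w (sr j) = sr j := by
    intro j hj
    have h1 : cs'.length w < cs'.length (w * cs'.simple j) := by rw [← e3 j hj]; exact e4 j hj
    have h2 : 0 ≤ rep cs' h w (sr j) := (lt_iff' cs' h w j).1 h1
    have h3 : rep cs' h (cs'.simple j) (rep cs' h w (sr j)) = - rep cs' h w (sr j) := by
      rw [← rep_mul_apply, e3 j hj, rep_mul_apply, rep_simple_sr, map_neg]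
    rw [rep_simple_eq] at h3
    refine ((isRoot_sr cs' h j).act w).eq_sr h2 j fun k hk => ?_
    have h4 := congrFun h3 k
    rw [Pi.sub_apply, Pi.smul_apply, sr_ne hk, smul_zero, sub_zero, Pi.neg_apply] at h4
    omega
  obtain ⟨x, hx⟩ : ∃ x, x = rep cs' h w (sr i₀) := ⟨_, rfl⟩
  have hneg : x ≤ 0 := by rw [hx]; exact nonpos_of_lt cs' h w i₀ e5
  have hpair : ∀ j, j ≠ i₀ → pairing A j x = A j i₀ := by
    intro j hj
    have h1 : rep cs' h (cs'.simple j) x = x - A j i₀ • sr j := by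
      rw [hx, ← rep_mul_apply, e3 j hj, rep_mul_apply, rep_simple_eq, map_sub, map_smul, hfix j hj]
      congr 2
      unfold sr
      rw [pairing_single, mul_one]
    rw [rep_simple_eq] at h1
    have h2 := congrFun h1 j
    rw [Pi.sub_apply, Pi.sub_apply, Pi.smul_apply, Pi.smul_apply, sr_self, smul_eq_mul, smul_eq_mul, mul_one,
      mul_one] at h2
    omega
  have hdvd : m ∣ x i₀ - 1 := by
    have h1 := hz (x - sr i₀) (fun j hj => by
      have h2 := hpair j hj
      have h3 : pairing A j (sr i₀) = A j i₀ := by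
        unfold sr
        rw [pairing_single, mul_one]
      unfold pairing at h2 h3
      simp only [Pi.sub_apply, mul_sub, Finset.sum_sub_distrib]
      rw [h2, h3, sub_self])
    rwa [Pi.sub_apply, sr_self] at h1
  have hsq : x i₀ * x i₀ = 1 := by
    have h1 : rep cs' h w x = sr i₀ := by
      rw [hx, ← rep_mul_apply, hww, map_one, Module.End.one_apply]
    have h2 : x = ∑ k, x k • sr k := by
      funext l
      rw [Finset.sum_apply, Finset.sum_eq_single l]
      · rw [Pi.smul_apply, sr_self, smul_eq_mul, mul_one]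
      · intro b _ hb
        rw [Pi.smul_apply, sr_ne hb.symm, smul_zero]
      · intro hb
        exact absurd (Finset.mem_univ l) hb
    have h3 := congrFun h1 i₀
    rw [h2, map_sum, Finset.sum_apply, sr_self, Finset.sum_eq_single i₀] at h3
    · rw [map_smul, ← hx, Pi.smul_apply, smul_eq_mul] at h3
      exact h3
    · intro b _ hb
      rw [map_smul, hfix b hb, Pi.smul_apply, sr_ne hb.symm, smul_zero]
    · intro hb
      exact absurd (Finset.mem_univ _) hb
  have h0 : x i₀ ≤ 0 := hneg i₀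
  rcases Int.isUnit_iff.1 (IsUnit.of_mul_eq_one _ hsq) with h1 | h1
  · omega
  · rw [h1] at hdvd
    have := Int.le_of_dvd (by norm_num) ((dvd_neg).2 hdvd)
    omega

include R in
/-- **The size of the class of an automorphism**, refined form for automorphisms of order three. -/
theorem index_ge_three [Finite Y] [IsSimpleGroup Y] [Fact p.Prime] [Nonempty I] (hG : G1 cs h X = ⊤) {N : ℕ}
    (hσ : ∀ σ : I → I, (∀ i j, M (σ i) (σ j) = M i j) → (∀ i, σ (σ (σ i)) = i) → ∀ i, σ i = i)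
    (hN : ∀ i : I, (∃ ω : List I, Path A (Pi.single i 1) ω ∧ N ≤ (ω.map fun j => Nat.card ↥(X (sr j))).prod) ∨
      ((∃ m : ℤ, 3 ≤ m ∧ ∀ z : I → ℤ, (∀ j, j ≠ i → ∑ k, A j k * z k = 0) → m ∣ z i) ∧
        ∀ j, j ≠ i → ∃ ω : List I, Path A (Pi.single i 1 + Pi.single j 1) ω ∧
          N ≤ (ω.map fun j => Nat.card ↥(X (sr j))).prod))
    (τ : MulAut Y) (hτ : τ ≠ 1) (h3 : τ ^ 3 = 1) : N ≤ (fix τ).index := by
  refine index_ge' R hG τ hτ fun W' _ _ cs' J w φ σ _ hJ e1 _ e3 e4 e5 hM hs => ?_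
  have hid : ∀ i, σ i = i := hσ σ hM fun i => hs 3 h3 i
  obtain ⟨i, hi⟩ : ∃ i, i ∉ J := by
    by_contra hcon
    push Not at hcon
    exact hJ (Set.eq_univ_of_forall hcon)
  rcases hN i with ⟨ω, h1, h2⟩ | ⟨⟨m, hm, hz⟩, h5⟩
  · obtain ⟨h3, h4⟩ := Path.one cs' h (l := Pi.single i 1) (fun k => by
      rw [Pi.single_apply]; split_ifs <;> norm_num) h1
    refine ⟨ω, h4, fun u hu => h3 u (WJ_mono cs' ?_ hu), h2⟩
    intro k hk
    have hki : k ≠ i := fun e => hi (e ▸ hk)
    show (Pi.single i 1 : I → ℤ) k = 0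
    rw [Pi.single_apply, if_neg hki]
  · by_cases hJi : J = {i}ᶜ
    · exfalso
      subst hJi
      exact excl cs' h hm hz e1 (fun j hj => by have := e3 j hj; rwa [hid] at this) (fun j hj => e4 j hj)
        (by have := e5 i hi; rwa [hid] at this)
    · obtain ⟨j, hji, hj⟩ : ∃ j, j ≠ i ∧ j ∉ J := by
        by_contra hcon
        push Not at hcon
        apply hJi
        ext k
        exact ⟨fun hk e => hi (e ▸ hk), fun hk => hcon k hk⟩
      obtain ⟨ω, h1, h2⟩ := h5 j hji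
      obtain ⟨h3, h4⟩ := Path.one cs' h (l := Pi.single i 1 + Pi.single j 1) (fun k => by
        rw [Pi.add_apply, Pi.single_apply, Pi.single_apply]; split_ifs <;> norm_num) h1
      refine ⟨ω, h4, fun u hu => h3 u (WJ_mono cs' ?_ hu), h2⟩
      intro k hk
      have hki : k ≠ i := fun e => hi (e ▸ hk)
      have hkj : k ≠ j := fun e => hj (e ▸ hk)
      show (Pi.single i 1 + Pi.single j 1 : I → ℤ) k = 0
      rw [Pi.add_apply, Pi.single_apply, Pi.single_apply, if_neg hki, if_neg hkj, add_zero]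

end Cfsg.Agent.H523.DspRgd
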