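import Cfsg.Agent.H523.DspTab
import Cfsg.Agent.KFacts.TwESix.Btw
import Cfsg.Agent.KFacts.TwESix.Facts

/-!
# Automorphisms of order three of `²E₆(2)`: the nodes 0 and 3
-/

set_option autoImplicit false
set_option linter.unusedSectionVars false
set_option linter.unusedVariables false

namespace Cfsg.Agent.H523.DspTw

open CoxeterSystem Cfsg.Agent.ChevalleyStructure.CoxeterGeom Cfsg.Agent.Tits.Roots Cfsg.Agent.Tits.Core
  Cfsg.Agent.Tits.RootComb Cfsg.Agent.Nodes.Comb Cfsg.Agent.Nodes.Reps Cfsg.Agent.Nodes.BNOf Cfsg.Agent.Nodes.BNOf.RGD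
  Cfsg.Agent.Nodes.LeviDec Cfsg.Agent.Nodes.Bruhat Cfsg.Agent.Nodes.StabComb Cfsg.Agent.Nodes.MuSq
  Cfsg.Agent.Nodes.Coroot Cfsg.Agent.H523.DspNF Cfsg.Agent.Nodes Cfsg.Agent.H523.DspAlg Cfsg.Agent.H523.DspNode
  Cfsg.Agent.H81.PJTab Cfsg.Agent.H523.DspPath Cfsg.Agent.H523.DspTab Cfsg.Agent.H523.DspEnd
  Cfsg.Agent.Nodes.RGDLib Cfsg.Agent.H523.Dsp Cfsg.Agent.Nodes.RGDTwE6 Cfsg.Agent.KFacts.TwESix.Comb
  Cfsg.Agent.KFacts.TwESix.Facts Cfsg.Agent.KFacts.TwESix.Btw Cfsg.Agent.H81.PJTwE6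
open scoped commutatorElement

universe v

section

variable {I W : Type*} {Y : Type v} [Fintype I] [DecidableEq I] [Group W] [Group Y] {M : CoxeterMatrix I}
  {cs : CoxeterSystem M W} {A : I → I → ℤ} {h : IsCartan M A} {p : ℕ} {T : Subgroup Y} {n : I → Y}
  {X : (I → ℤ) → Subgroup Y} [Finite W] {R : RGD cs h p T n X} {τ : MulAut Y} {i₀ : I} {w : W} {m u : Y}

/-- roots of the orbit are not between other ones -/
theorem orb_btw (hO : ∀ x, IsRoot cs h x → 0 < x i₀ → x ≠ sr i₀ → pairing A i₀ x ≤ x i₀) {x y z : I → ℤ}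
    (hx : x ∈ NotJ cs h ({i₀}ᶜ : Set I)) (hy : y ∈ NotJ cs h ({i₀}ᶜ : Set I)) (hz : Btwn cs h x y z)
    (hzO : z ∈ Orb cs h i₀) : x = z ∨ y = z := by
  obtain ⟨v, hv, rfl⟩ := hzO
  by_contra hcon
  push Not at hcon
  obtain ⟨hxz, hyz⟩ := hcon
  rw [mem_NotJ_iff] at hx hy
  obtain ⟨-, m, a, b, hm, ha, hb, he⟩ := hz
  have e1 : m * 1 = a * x i₀ + b * y i₀ := by
    have := congrFun he i₀
    simp only [Pi.smul_apply, Pi.add_apply, smul_eq_mul] at this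
    rwa [rep_co hv (by simp), sr_self] at this
  have e2 : m * 2 = a * pairing A i₀ (rep cs h v⁻¹ x) + b * pairing A i₀ (rep cs h v⁻¹ y) := by
    have h1 := congrArg (fun t => pairing A i₀ (rep cs h v⁻¹ t)) he
    simp only [map_smul, map_add, rep_inv_apply] at h1
    have h2 : ∀ (c : ℤ) (s t : I → ℤ), pairing A i₀ (c • s + t) = c * pairing A i₀ s + pairing A i₀ t := by
      intro c s t
      unfold pairing
      rw [Finset.mul_sum, ← Finset.sum_add_distrib]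
      refine Finset.sum_congr rfl fun k _ => ?_
      rw [Pi.add_apply, Pi.smul_apply, smul_eq_mul]
      ring
    have h3 : pairing A i₀ (0 : I → ℤ) = 0 := by
      unfold pairing
      simp
    have h4 := h2 m (sr i₀) 0
    have h5 := h2 a (rep cs h v⁻¹ x) (b • rep cs h v⁻¹ y)
    have h6 := h2 b (rep cs h v⁻¹ y) 0
    rw [add_zero] at h4 h6
    rw [h4, h5, h6, h3] at h1
    have h7 : pairing A i₀ (sr i₀) = 2 := by
      unfold sr
      rw [pairing_single, h.diag, mul_one]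
    rw [h7] at h1
    linarith
  have key : ∀ t, IsRoot cs h t → 0 < t i₀ → t ≠ rep cs h v (sr i₀) → pairing A i₀ (rep cs h v⁻¹ t) ≤ t i₀ := by
    intro t ht h0 hne
    have h1 : rep cs h v⁻¹ t i₀ = t i₀ := rep_co (inv_mem hv) (by simp) t
    rw [← h1]
    refine hO _ (ht.act _) (by rw [h1]; exact h0) ?_
    intro e
    apply hne
    rw [← e, rep_apply_inv]
  have k1 := key x hx.1 hx.2 hxz
  have k2 := key y hy.1 hy.2 hyz
  have h1 : a * pairing A i₀ (rep cs h v⁻¹ x) ≤ a * x i₀ := mul_le_mul_of_nonneg_left k1 ha.le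
  have h2 : b * pairing A i₀ (rep cs h v⁻¹ y) ≤ b * y i₀ := mul_le_mul_of_nonneg_left k2 hb.le
  linarith

theorem closed_orb (hO : ∀ x, IsRoot cs h x → 0 < x i₀ → x ≠ sr i₀ → pairing A i₀ x ≤ x i₀) {δ : I → ℤ}
    (hδ : δ ∈ Orb cs h i₀) : Unique.Closed cs h (NotJ cs h ({i₀}ᶜ : Set I) \ {δ}) := by
  intro x hx y hy z hz
  refine ⟨NotJ_closed x hx.1 y hy.1 z hz, fun e => ?_⟩
  rw [Set.mem_singleton_iff] at e
  subst e
  rcases orb_btw hO hx.1 hy.1 hz hδ with e | e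
  · exact hx.2 e
  · exact hy.2 e

/-- **The dichotomy**, for all conjugates. -/
theorem dich' [Finite Y] (R : RGD cs h p T n X) (N : NF R τ i₀ w m u) {j₀ : I} (hij : i₀ ≠ j₀) (hA : A i₀ j₀ = -1)
    (hA0 : ∀ k, k ≠ i₀ → k ≠ j₀ → A i₀ k = 0)
    (hQ : ∀ x, IsRoot cs h x → 0 < x i₀ → x ≠ sr i₀ → x i₀ ≤ x j₀)
    (hO : ∀ x, IsRoot cs h x → 0 < x i₀ → x ≠ sr i₀ → pairing A i₀ x ≤ x i₀) :
    Nat.card ↥(VJ cs h X ({i₀}ᶜ : Set I)) * Nat.card (Sup X (AA cs h i₀ j₀)) ≤ (fix τ).index ∨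
      ∀ k ∈ LJ cs h T X ({i₀}ᶜ : Set I), k⁻¹ * u * k ∈ Sup X (NotJ cs h ({i₀}ᶜ : Set I) \ Orb cs h i₀) := by
  by_cases hall : ∀ k ∈ LJ cs h T X ({i₀}ᶜ : Set I), k⁻¹ * u * k ∈ Sup X (NotJ cs h ({i₀}ᶜ : Set I) \ {sr i₀})
  · right
    intro k hk
    refine mem_diff_orb R hO ?_ fun l hl => ?_
    · have h1 := (Subgroup.mem_normalizer_iff.1 (LJ_le_normalizer_VJ R _ (inv_mem hk)) u).1 N.mem
      rwa [inv_inv] at h1
    · have h1 := hall (k * l) (mul_mem hk hl)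
      have h2 : (k * l)⁻¹ * u * (k * l) = l⁻¹ * (k⁻¹ * u * k) * l := by group
      rwa [h2] at h1
  · left
    push Not at hall
    obtain ⟨k, hk, hkn⟩ := hall
    have hvk : k⁻¹ * u * k ∈ VJ cs h X ({i₀}ᶜ : Set I) := by
      have h1 := (Subgroup.mem_normalizer_iff.1 (LJ_le_normalizer_VJ R _ (inv_mem hk)) u).1 N.mem
      rwa [inv_inv] at h1
    obtain ⟨x, hx, v, hv, e⟩ := (Unique.mem_peel R (S := NotJ cs h ({i₀}ᶜ : Set I)) (x := sr i₀) NotJ_pos NotJ_closed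
      (sr_mem_NotJ (J := {i₀}ᶜ) (by simp))).1 hvk
    refine index_nf R N hk (AA_le_UJ i₀ j₀) fun s hs hsu => ?_
    rw [e] at hsu
    refine free_node R hij hA hA0 hQ hx ?_ hv hs hsu
    rintro rfl
    rw [one_mul] at e
    rw [e] at hkn
    exact hkn hv

/-- `u ≠ 1` -/
theorem ne_one [Finite Y] (N : NF R τ i₀ w m u) : u ≠ 1 := by
  have hBi : ∀ g : Y, m⁻¹ * τ g * m ∈ B cs h T X → g ∈ B cs h T X := by
    intro g hg
    have h3 : (B cs h T X).map (MulAut.conj m⁻¹ * τ : MulAut Y).toMonoidHom = B cs h T X := by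
      apply Subgroup.eq_of_le_of_card_ge
      · rintro _ ⟨b, hb, rfl⟩
        have := N.wd b hb
        show m⁻¹ * τ b * m⁻¹⁻¹ ∈ _
        rwa [inv_inv]
      · rw [Subgroup.card_map_of_injective (MulAut.conj m⁻¹ * τ : MulAut Y).injective]
    have h4 : (MulAut.conj m⁻¹ * τ : MulAut Y) g ∈ (B cs h T X).map (MulAut.conj m⁻¹ * τ : MulAut Y).toMonoidHom := by
      rw [h3]
      show m⁻¹ * τ g * m⁻¹⁻¹ ∈ _
      rwa [inv_inv]
    obtain ⟨b, hb, hb2⟩ := h4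
    rwa [← (MulAut.conj m⁻¹ * τ : MulAut Y).injective hb2]
  intro e
  have h3 := N.two 1 (one_mem _)
  rw [e, one_mul, one_mul, ← mul_assoc] at h3
  have h4 := R.eq_one_of_mem_B N.rp (hBi m h3)
  have h5 := N.apply
  rw [h4, map_one, Module.End.one_apply, sr_self] at h5
  omega

end

variable {W : Type*} {Y : Type v} [Group W] [Group Y] {cs : CoxeterSystem CoxeterMatrix.F₄ W} {T : Subgroup Y}
  {n : Fin 4 → Y} {X : (Fin 4 → ℤ) → Subgroup Y} [Finite W] (R : RGD cs isCartan 2 T n X)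

include R in
/-- **The short step.** -/
theorem short_step [Finite Y] (D : Dat R) {S D' : Set (Fin 4 → ℤ)} {β γ : Fin 4 → ℤ} (hβ : IsRoot cs isCartan β)
    (hγ : IsRoot cs isCartan γ) (hββ : bf β β = 2) (hγγ : bf γ γ = 2) (h0 : bf β γ = 0) (hS : S ⊆ Pos cs isCartan)
    (hSc : Unique.Closed cs isCartan S) (hδ : γ + β ∈ S) (hSc' : Unique.Closed cs isCartan (S \ {γ + β}))
    (hD : D' ⊆ S \ {γ + β}) (hDc : Unique.Closed cs isCartan D') (hβD : β ∈ D')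
    (hne : ∀ z ∈ D' \ {β}, γ ≠ z ∧ γ ≠ -z ∧ ∀ t, Btwn cs isCartan γ z t → t ∈ S \ {γ + β}) {u : Y}
    (hu : u ∈ Sup X D') (hconj : ∀ y ∈ X γ, y * u * y⁻¹ ∈ Sup X D') : u ∈ Sup X (D' \ {β}) := by
  have hWf : Fintype W := Fintype.ofFinite W
  obtain ⟨x, hx, v, hv, e⟩ := (Unique.mem_peel R (fun z hz => hS (hD hz).1) hDc hβD).1 hu
  by_cases hx1 : x = 1
  · rw [e, hx1, one_mul]; exact hv
  exfalso
  obtain ⟨y, hy, hne2⟩ := orth_nd D hβ hγ hββ hγγ h0 hx hx1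
  have h1 : ⁅y, x⁆ ∈ X (γ + β) := orth_mem R hγ hβ hγγ hββ (by rw [bf_comm]; exact h0) hy hx
  have hroot : ∀ z ∈ S, IsRoot cs isCartan z := fun z hz => (hS hz).1
  have h2 : Sup X (D' \ {β}) ≤ (Sup X (S \ {γ + β})).comap (MulAut.conj y).toMonoidHom := by
    refine Sup_le fun z hz a ha => ?_
    rw [Subgroup.mem_comap]
    show y * a * y⁻¹ ∈ _
    obtain ⟨n1, n2, n3⟩ := hne z hz
    have h3 : ⁅y, a⁆ ∈ Sup X (S \ {γ + β}) := comm_mem_Sup R hγ (hroot z (hD hz.1).1) n1 n2 n3 hy ha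
    have h4 : y * a * y⁻¹ = ⁅y, a⁆ * a := by rw [commutatorElement_def]; group
    rw [h4]
    exact mul_mem h3 (le_Sup (hD hz.1) ha)
  have h3 : y * v * y⁻¹ ∈ Sup X (S \ {γ + β}) := h2 hv
  have h4 : ⁅y, x⁆ ∈ Sup X (S \ {γ + β}) := by
    have h5 : ⁅y, x⁆ = (y * u * y⁻¹) * (y * v * y⁻¹)⁻¹ * x⁻¹ := by
      rw [e, commutatorElement_def]; group
    rw [h5]
    exact mul_mem (mul_mem (Sup_mono hD (hconj y hy)) (inv_mem h3)) (inv_mem (le_Sup (hD hβD) hx))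
  have h5 := inf_diff R hS hSc hδ hSc' h1 h4
  exact hne2 (commutatorElement_eq_one_iff_mul_comm.1 h5).symm

/-! ### Cardinalities -/

section

variable {l : ℕ} {Al : List (List ℤ)} {A' : Fin l → Fin l → ℤ} {L : List (List ℤ)} {wt : List ℤ → ℕ} {w : Fin l → ℕ}
  {W' : Type*} [Group W'] {M : CoxeterMatrix (Fin l)} (cs' : CoxeterSystem M W') (h : IsCartan M A')
  (hS : Sh l Al) (hA : ∀ i j : Fin l, (Al.getD i []).getD j 0 = A' i j) (hT : RT l Al L wt w)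
  {Y' : Type*} [Group Y'] {p : ℕ} {T' : Subgroup Y'} {n' : Fin l → Y'} {X' : (Fin l → ℤ) → Subgroup Y'} [Finite W']

include hS hA hT

theorem card_SupP (R : RGD cs' h p T' n' X') {q : ℕ} (hq : ∀ i, Nat.card (X' (sr i)) = q ^ w i) {S : Set (Fin l → ℤ)}
    {P : List ℤ → Bool} (hP : ∀ x, x ∈ S ↔ ∃ v ∈ L, P v = true ∧ x = toF l v) (hc : Unique.Closed cs' h S) :
    Nat.card ↥(Sup X' S) = q ^ ((L.filter P).map wt).sum := by
  classical
  obtain ⟨Lf, hLf⟩ : ∃ Lf, Lf = L.filter P := ⟨_, rfl⟩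
  rw [← hLf]
  have hmem : ∀ v, v ∈ Lf ↔ v ∈ L ∧ P v = true := fun v => by
    rw [hLf, List.mem_filter]
  have hset : (((Lf.map (toF l)).toFinset : Finset (Fin l → ℤ)) : Set (Fin l → ℤ)) = S := by
    ext x
    rw [Finset.mem_coe, List.mem_toFinset, List.mem_map, hP]
    constructor
    · rintro ⟨v, hv, rfl⟩
      rw [hmem] at hv
      exact ⟨v, hv.1, hv.2, rfl⟩
    · rintro ⟨v, hv, h0, rfl⟩
      exact ⟨v, (hmem v).2 ⟨hv, h0⟩, rfl⟩
  have hpos : S ⊆ Pos cs' h := by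
    intro x hx
    obtain ⟨v, hv, -, rfl⟩ := (hP x).1 hx
    exact ⟨isRoot_toF cs' h hS hA hT v hv, toF_nonneg hS hA hT hv⟩
  have h1 := CardSup.card_sup R (s := (Lf.map (toF l)).toFinset) (by rw [hset]; exact hpos)
    (by rw [hset]; exact hc)
  rw [hset] at h1
  have hnd : (Lf.map (toF l)).Nodup := by
    refine List.Nodup.map_on ?_ (by rw [hLf]; exact hT.nodup.filter _)
    intro a ha b hb hab
    exact toF_inj (hT.len a ((hmem a).1 ha).1) (hT.len b ((hmem b).1 hb).1) hab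
  rw [h1, List.prod_toFinset _ hnd, List.map_map]
  have h3 : Lf.map ((fun x => Nat.card (X' x)) ∘ toF l) = Lf.map fun v => q ^ wt v := by
    refine List.map_congr_left fun v hv => ?_
    exact card_X_of cs' h hS hA hT R hq v ((hmem v).1 hv).1
  rw [h3, prod_pow]

end

/-- the positive roots -/
def L4 : List (List ℤ) := [
   [0, 0, 0, 1], [0, 0, 1, 0], [0, 1, 0, 0], [1, 0, 0, 0], [0, 0, 1, 1], [0, 1, 1, 0],
   [1, 1, 0, 0], [0, 1, 1, 1], [0, 1, 2, 0], [1, 1, 1, 0], [0, 1, 2, 1], [1, 1, 1, 1],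
   [1, 1, 2, 0], [0, 1, 2, 2], [1, 1, 2, 1], [1, 2, 2, 0], [1, 1, 2, 2], [1, 2, 2, 1],
   [1, 2, 2, 2], [1, 2, 3, 1], [1, 2, 3, 2], [1, 2, 4, 2], [1, 3, 4, 2], [2, 3, 4, 2]]

/-- the weight -/
def wtT (v : List ℤ) : ℕ := if bf (toF 4 v) (toF 4 v) = 4 then 1 else 2

theorem rtT : RT 4 aT L4 wtT wT where
  nodup := by decide +kernel
  len := by decide +kernel
  nn := by decide +kernel
  base := by decide +kernel
  step := by decide +kernel
  desc := by decide +kernel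

theorem hQ0 : ∀ v ∈ L4, 0 < v.getD 0 0 → v ≠ ei 4 0 → v.getD 0 0 ≤ v.getD 1 0 ∧ prL aT v 0 ≤ v.getD 0 0 := by
  decide +kernel

theorem hQ3 : ∀ v ∈ L4, 0 < v.getD 3 0 → v ≠ ei 4 3 → v.getD 3 0 ≤ v.getD 2 0 ∧ prL aT v 3 ≤ v.getD 3 0 := by
  decide +kernel

/-- the orbits -/
def P0 (v : List ℤ) : Bool := decide (v.getD 0 0 = 1) && decide (bf (toF 4 v) (toF 4 v) = 4)

def P3 (v : List ℤ) : Bool := decide (v.getD 3 0 = 1)

theorem hP0 : ∀ v ∈ L4, P0 v = true → v = ei 4 0 ∨ ∃ j : Fin 4, j ≠ 0 ∧ P0 (rfL aT v j) = true ∧ rfL aT v j ∈ L4 ∧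
    (rfL aT v j).sum < v.sum := by
  decide +kernel

theorem hP3 : ∀ v ∈ L4, P3 v = true → v = ei 4 3 ∨ ∃ j : Fin 4, j ≠ 3 ∧ P3 (rfL aT v j) = true ∧ rfL aT v j ∈ L4 ∧
    (rfL aT v j).sum < v.sum := by
  decide +kernel

theorem cV0 : ((L4.filter fun v => decide (0 < v.getD 0 0)).map wtT).sum = 21 := by decide +kernel

theorem cV3 : ((L4.filter fun v => decide (0 < v.getD 3 0)).map wtT).sum = 24 := by decide +kernel

theorem cA0 : ((L4.filter fun v => decide (v.getD 0 0 = 0) && decide (0 < v.getD 1 0)).map wtT).sum = 9 := by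
  decide +kernel

theorem cA3 : ((L4.filter fun v => decide (v.getD 3 0 = 0) && decide (0 < v.getD 2 0)).map wtT).sum = 9 := by
  decide +kernel

theorem cB3 : ((L4.filter fun v => decide (v.getD 3 0 = 0) && decide (0 < v.getD 0 0)).map wtT).sum = 6 := by
  decide +kernel

/-! ### The node 0 -/

theorem top0 : ∀ v ∈ L4, 0 < v.getD 0 0 → P0 v = false → (toF 4 v) 0 = 1 ∧ bf (toF 4 v) (toF 4 v) = 2 ∨
    toF 4 v = rho := by
  decide +kernel

theorem cl0 : ∀ x ∈ rts, x 0 = 1 → bf x x = 2 → ∀ y ∈ rts, y 0 = 1 → bf y y = 2 → ∀ z ∈ rts, bt x y z → z = rho := by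
  decide +kernel

theorem cl0' : ∀ x ∈ rts, x 0 = 1 → bf x x = 2 → ∀ z ∈ rts, ¬ bt x rho z ∧ ¬ bt rho x z := by
  decide +kernel

theorem st0 : ∀ β ∈ rts, β 0 = 1 → bf β β = 2 → ∃ γ ∈ rts, γ 0 = 0 ∧ bf γ γ = 2 ∧ bf β γ = 0 ∧ γ + β ∈ rts ∧
    bf (γ + β) (γ + β) = 4 ∧ ∀ z ∈ rts, (z 0 = 1 ∧ bf z z = 2) ∨ z = rho → z ≠ β → ¬ bt γ z (γ + β) := by
  decide +kernel

/-- the short roots of level one and the highest root -/
def D0 (cs : CoxeterSystem CoxeterMatrix.F₄ W) : Set (Fin 4 → ℤ) :=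
  {z | IsRoot cs isCartan z ∧ ((z 0 = 1 ∧ bf z z = 2) ∨ z = rho)}

theorem rho0 : rho 0 = 2 := rfl

theorem D0_pos {z : Fin 4 → ℤ} (hz : z ∈ D0 cs) : 0 < z 0 := by
  rcases hz.2 with ⟨h, -⟩ | h
  · rw [h]; norm_num
  · rw [h, rho0]; norm_num

theorem D0_NotJ {z : Fin 4 → ℤ} (hz : z ∈ D0 cs) : z ∈ NotJ cs isCartan ({0}ᶜ : Set (Fin 4)) :=
  mem_NotJ_iff.2 ⟨hz.1, D0_pos hz⟩

theorem ne_neg0 {x y : Fin 4 → ℤ} (hx : 0 < x 0) (hy : 0 < y 0) : x ≠ -y := by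
  rintro rfl
  rw [Pi.neg_apply] at hx
  omega

theorem D0_btw {x y z : Fin 4 → ℤ} (hx : x ∈ D0 cs) (hy : y ∈ D0 cs) (hz : Btwn cs isCartan x y z) :
    (z = x ∧ x = y) ∨ z = rho := by
  have hWf : Fintype W := Fintype.ofFinite W
  by_cases hxy : x = y
  · left
    subst hxy
    exact ⟨Unique.btwn_self hx.1 hz, rfl⟩
  right
  obtain ⟨h1, h2⟩ := btwn_spec cs hx.1 hy.1 hxy (ne_neg0 (D0_pos hx) (D0_pos hy)) hz
  rcases hx.2 with ⟨x1, x2⟩ | hx2 <;> rcases hy.2 with ⟨y1, y2⟩ | hy2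
  · exact cl0 x ((mem_rts cs).1 hx.1) x1 x2 y ((mem_rts cs).1 hy.1) y1 y2 z h1 h2
  · rw [hy2] at h2
    exact absurd h2 (cl0' x ((mem_rts cs).1 hx.1) x1 x2 z h1).1
  · rw [hx2] at h2
    exact absurd h2 (cl0' y ((mem_rts cs).1 hy.1) y1 y2 z h1).2
  · exact absurd (hx2.trans hy2.symm) hxy

theorem D0_closed : Unique.Closed cs isCartan (D0 cs) := by
  intro x hx y hy z hz
  rcases D0_btw hx hy hz with ⟨e, -⟩ | e
  · rw [e]; exact hx
  · exact ⟨hz.1, Or.inr e⟩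

section

variable (D : Dat R) {τ : MulAut Y} {w : W} {m u : Y}

include D in
theorem hcen_long [Finite Y] {ϑ : Fin 4 → ℤ} (hϑ : IsRoot cs isCartan ϑ) (hl : bf ϑ ϑ = 4) (h2 : Nat.card (X ϑ) = 2)
    {J : Set (Fin 4)} (hJ : ∀ y, IsRoot cs isCartan y → (∀ k, k ∉ J → y k = 0) → 0 ≤ bf y ϑ) :
    ∀ k ∈ LJ cs isCartan T X J, ∀ x ∈ X ϑ, k * x = x * k := by
  intro k hk x hx
  have h3 : LJ cs isCartan T X J ≤ Subgroup.centralizer ({x} : Set Y) := by
    refine sup_le (fun t ht => ?_) (Sup_le fun y hy a ha => ?_)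
    · rw [Subgroup.mem_centralizer_singleton_iff]
      exact T_comm R hϑ h2 ht hx
    · rw [Subgroup.mem_centralizer_singleton_iff]
      exact comm_long D hy.1 hϑ hl (hJ y hy.1 hy.2) ha hx
  exact Subgroup.mem_centralizer_singleton_iff.1 (h3 hk)

theorem hb0 : ∀ z ∈ rts, ¬ bt (sr 0) (sr 0 - rho) z ∧ ¬ bt (sr 0) rho z ∧ (bt (sr 0 - rho) rho z → z = sr 0) := by
  decide +kernel

theorem hne0 : (sr 0 : Fin 4 → ℤ) ≠ sr 0 - rho ∧ (sr 0 : Fin 4 → ℤ) ≠ - (sr 0 - rho) ∧ (sr 0 : Fin 4 → ℤ) ≠ rho ∧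
    (sr 0 : Fin 4 → ℤ) ≠ - rho ∧ (sr 0 - rho : Fin 4 → ℤ) ≠ rho ∧ (sr 0 - rho : Fin 4 → ℤ) ≠ - rho ∧
    (sr 0 - rho : Fin 4 → ℤ) ∈ rts ∧ pairing A 0 rho = 1 ∧ A 0 1 = -1 := by
  decide +kernel

theorem rp0 : ∀ x ∈ rts, x 0 = -1 → (∀ j, j ≠ 0 → pairing A j x = A j 0) → x = sr 0 - rho := by
  decide +kernel

include D in
/-- **The node 0.** -/
theorem nf0 [Finite Y] [IsSimpleGroup Y] (hG : G1 cs isCartan X = ⊤) (hq : ∀ i, Nat.card (X (sr i)) = 2 ^ wT i)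
    (N : NF R τ 0 w m u) : 2 ^ 30 ≤ (fix τ).index := by
  have hWf : Fintype W := Fintype.ofFinite W
  have hp2 : Fact (Nat.Prime 2) := ⟨Nat.prime_two⟩
  have hS := sh_T
  have hA := aT_ok
  have hVJ : Nat.card ↥(VJ cs isCartan X ({0}ᶜ : Set (Fin 4))) = 2 ^ 21 := by
    rw [card_VJ cs isCartan hS hA rtT R hq 0]
    exact congrArg _ cV0
  have hAA : Nat.card ↥(Sup X (AA cs isCartan (0 : Fin 4) 1)) = 2 ^ 9 := by
    rw [card_SupP cs isCartan hS hA rtT R hq (P := fun v => decide (v.getD 0 0 = 0) && decide (0 < v.getD 1 0)) ?_ ?_]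
    · exact congrArg _ cA0
    · intro x
      constructor
      · rintro ⟨h1, h2, h3⟩
        obtain ⟨v, hv, rfl⟩ := spec_pos cs isCartan hS hA rtT h1 h3
        refine ⟨v, hv, ?_, rfl⟩
        rw [Bool.and_eq_true, decide_eq_true_eq, decide_eq_true_eq]
        exact ⟨h2, h3⟩
      · rintro ⟨v, hv, h1, rfl⟩
        rw [Bool.and_eq_true, decide_eq_true_eq, decide_eq_true_eq] at h1
        exact ⟨isRoot_toF cs isCartan hS hA rtT v hv, h1.1, h1.2⟩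
    · intro x hx y hy z hz
      refine ⟨hz.1, ?_, Slope.btwn_pos' hz (co 1) hx.2.2 hy.2.2.le⟩
      have h1 := Slope.btwn_nonneg' hz (co 0) (by rw [co_apply, hx.2.1]) (by rw [co_apply, hy.2.1])
      have h2 := Slope.btwn_nonpos' hz (co 0) (by rw [co_apply, hx.2.1]) (by rw [co_apply, hy.2.1])
      rw [co_apply] at h1 h2
      omega
  have hA0 : ∀ k : Fin 4, k ≠ 0 → k ≠ 1 → A 0 k = 0 := by decide
  have hQ : ∀ x, IsRoot cs isCartan x → 0 < x 0 → x ≠ sr 0 → x 0 ≤ x 1 ∧ pairing A 0 x ≤ x 0 := by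
    intro x hx h0 hne
    obtain ⟨v, hv, rfl⟩ := spec_pos cs isCartan hS hA rtT hx h0
    have h1 := hQ0 v hv h0 (fun e => hne (by rw [e, toF_ei_sr]))
    rw [pairing_toF hS hA (rtT.len v hv)]
    exact h1
  have hO : ∀ x, IsRoot cs isCartan x → 0 < x 0 → x ≠ sr 0 → pairing A 0 x ≤ x 0 := fun x hx h0 hne =>
    (hQ x hx h0 hne).2
  have hfin : Nat.card ↥(VJ cs isCartan X ({0}ᶜ : Set (Fin 4))) * Nat.card (Sup X (AA cs isCartan (0 : Fin 4) 1)) ≤
      (fix τ).index → 2 ^ 30 ≤ (fix τ).index := by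
    intro h1
    rw [hVJ, hAA, ← pow_add] at h1
    exact h1
  rcases dich' R N (j₀ := 1) (by decide) hne0.2.2.2.2.2.2.2.2 hA0 (fun x hx h0 hne => (hQ x hx h0 hne).1) hO with h1 | h1
  · exact hfin h1
  have hOrb : ∀ z, IsRoot cs isCartan z → z 0 = 1 → bf z z = 4 → z ∈ Orb cs isCartan 0 := by
    intro z hz h0 hl
    obtain ⟨v, hv, rfl⟩ := spec_pos cs isCartan hS hA rtT hz (i := 0) (by rw [h0]; norm_num)
    refine orb_of cs isCartan hS hA rtT (P := P0) hP0 v hv ?_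
    unfold P0
    rw [Bool.and_eq_true, decide_eq_true_eq, decide_eq_true_eq]
    exact ⟨h0, hl⟩
  have hD0 : ∀ k ∈ LJ cs isCartan T X ({0}ᶜ : Set (Fin 4)), k⁻¹ * u * k ∈ Sup X (D0 cs) := by
    intro k hk
    refine Sup_mono ?_ (h1 k hk)
    rintro z ⟨hz, hzO⟩
    rw [mem_NotJ_iff] at hz
    refine ⟨hz.1, ?_⟩
    obtain ⟨v, hv, rfl⟩ := spec_pos cs isCartan hS hA rtT hz.1 hz.2
    refine top0 v hv hz.2 ?_
    by_contra hcon
    rw [Bool.not_eq_false] at hcon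
    exact hzO (orb_of cs isCartan hS hA rtT (P := P0) hP0 v hv hcon)
  have hu0 : u ∈ Sup X (D0 cs) := by
    have := hD0 1 (one_mem _)
    rwa [inv_one, one_mul, mul_one] at this
  -- the short roots
  have hshort : ∀ β, IsRoot cs isCartan β → β 0 = 1 → bf β β = 2 → u ∈ Sup X (D0 cs \ {β}) := by
    intro β hβ b0 b2
    obtain ⟨γ, hγ, g0, g2, gb, gr, gl, gn⟩ := st0 β ((mem_rts cs).1 hβ) b0 b2
    have hγr : IsRoot cs isCartan γ := (mem_rts cs).2 hγ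
    have hδ0 : (γ + β) 0 = 1 := by rw [Pi.add_apply, g0, b0]; norm_num
    have hδr : IsRoot cs isCartan (γ + β) := (mem_rts cs).2 gr
    have hδO := hOrb _ hδr hδ0 gl
    refine short_step R D (S := NotJ cs isCartan ({0}ᶜ : Set (Fin 4))) (γ := γ) hβ hγr b2 g2 gb NotJ_pos NotJ_closed
      (mem_NotJ_iff.2 ⟨hδr, by rw [hδ0]; norm_num⟩) (closed_orb hO hδO) ?_ D0_closed ⟨hβ, Or.inl ⟨b0, b2⟩⟩ ?_ hu0 ?_
    · intro z hz
      refine ⟨D0_NotJ hz, ?_⟩
      intro e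
      rw [Set.mem_singleton_iff] at e
      rcases hz.2 with ⟨-, h2⟩ | h2
      · rw [e, gl] at h2
        omega
      · rw [h2] at e
        have := congrFun e 0
        rw [hδ0, rho0] at this
        omega
    · intro z hz
      have hz0 := D0_pos hz.1
      refine ⟨?_, ?_, fun t ht => ?_⟩
      · rintro rfl; omega
      · rintro rfl
        rw [Pi.neg_apply] at g0
        omega
      · have ht0 : 0 < t 0 := Slope.btwn_pos' ht.symm (co 0) hz0 (by rw [co_apply, g0])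
        refine ⟨mem_NotJ_iff.2 ⟨ht.1, ht0⟩, ?_⟩
        intro e
        rw [Set.mem_singleton_iff] at e
        rw [e] at ht
        obtain ⟨-, h2⟩ := btwn_spec cs hγr hz.1.1 (by rintro rfl; omega) (by
          rintro rfl
          rw [Pi.neg_apply] at g0
          omega) ht
        exact gn z ((mem_rts cs).1 hz.1.1) hz.1.2 (fun e => hz.2 e) h2
    · intro y hy
      have := hD0 y⁻¹ (inv_mem (X_le_LJ ⟨hγr, fun k hk => by
        have : k = 0 := by simpa using hk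
        rw [this, g0]⟩ hy))
      rwa [inv_inv] at this
  have hu : u ∈ X rho := by
    have h2 := mem_diff R (D := D0 cs) (O := {z | IsRoot cs isCartan z ∧ z 0 = 1 ∧ bf z z = 2})
      (fun z hz => NotJ_pos (D0_NotJ hz)) D0_closed (fun x hx y hy z hz hzO => by
        rcases D0_btw hx hy hz with ⟨e, -⟩ | e
        · exact Or.inl e.symm
        · exfalso
          have h3 := hzO.2.1
          rw [e, rho0] at h3
          omega) hu0 (fun γ hγ => hshort γ hγ.1 hγ.2.1 hγ.2.2)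
    refine Sup_le (S := D0 cs \ {z | IsRoot cs isCartan z ∧ z 0 = 1 ∧ bf z z = 2}) ?_ h2
    rintro z ⟨hz, hzn⟩
    rcases hz.2 with h3 | h3
    · exact absurd ⟨hz.1, h3⟩ hzn
    · rw [h3]
  obtain ⟨n1, n2, n3, n4, n5, n6, n7, n8, n9⟩ := hne0
  have hw : rep cs isCartan w (sr 0) = sr 0 - rho :=
    rp0 _ ((mem_rts cs).1 ((isRoot_sr cs isCartan (0 : Fin 4)).act w)) N.apply N.pair
  have h2 : Nat.card (X (sr 0)) = 2 := hq 0
  have hρ := rho_root cs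
  have hc2 := (card_ϑ N hρ hw n8 h2).1
  refine hfin (index_end R hG N hρ hw n8 h2 (hcen_long R D hρ rho_long hc2 ?_) hu (by decide) n9 hA0
    (fun x hx h0 hne => (hQ x hx h0 hne).1) ?_ ?_ ?_)
  · intro y hy hy0
    rw [bf_rho, hy0 0 (by simp)]
    norm_num
  · intro z hz
    obtain ⟨h3, h4⟩ := btwn_spec cs (isRoot_sr cs isCartan 0) ((mem_rts cs).2 n7) n1 n2 hz
    exact (hb0 z h3).1 h4
  · intro z hz
    obtain ⟨h3, h4⟩ := btwn_spec cs (isRoot_sr cs isCartan 0) hρ n3 n4 hz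
    exact (hb0 z h3).2.1 h4
  · intro z hz
    obtain ⟨h3, h4⟩ := btwn_spec cs ((mem_rts cs).2 n7) hρ n5 n6 hz
    exact (hb0 z h3).2.2 h4

/-! ### The node 3 -/

/-- `α₁ + 2 α₂ + 2 α₃` -/
def s0 : Fin 4 → ℤ := ![0, 1, 2, 2]

/-- the short root of level two -/
def b0 : Fin 4 → ℤ := ![1, 2, 3, 2]

/-- `-α₂` -/
def g0 : Fin 4 → ℤ := ![0, 0, -1, 0]

theorem f3 : s0 ∈ rts ∧ b0 ∈ rts ∧ g0 ∈ rts ∧ bf s0 s0 = 4 ∧ bf b0 b0 = 2 ∧ bf g0 g0 = 2 ∧ bf b0 g0 = 0 ∧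
    g0 + b0 ≠ b0 ∧ g0 + b0 ∈ rts ∧ bf (g0 + b0) (g0 + b0) = 4 ∧ A 3 2 = -1 := by decide +kernel

theorem top3 : ∀ v ∈ L4, 0 < v.getD 3 0 → P3 v = false → (toF 4 v) 3 = 2 := by decide +kernel

theorem cl3 : ∀ x ∈ rts, x 3 = 2 → ∀ y ∈ rts, y 3 = 2 → ∀ z ∈ rts, bt x y z → z = b0 := by decide +kernel

theorem or3 : ∀ v ∈ L4, (decide (v.getD 3 0 = 2) && decide (bf (toF 4 v) (toF 4 v) = 4)) = true → v = [0, 1, 2, 2] ∨
    ∃ j : Fin 4, j ≠ 3 ∧ (decide ((rfL aT v j).getD 3 0 = 2) && decide (bf (toF 4 (rfL aT v j)) (toF 4 (rfL aT v j)) = 4))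
      = true ∧ rfL aT v j ∈ L4 ∧ (rfL aT v j).sum < v.sum := by
  decide +kernel

theorem lv3 : ∀ x ∈ rts, x 3 = 2 → bf x x = 4 ∨ x = b0 := by decide +kernel

theorem pp3 : ∀ a ∈ rts, a 3 = 0 → 0 < a 0 → a 0 = 1 ∧ bf a s0 = -2 ∧ -s0 ≠ a ∧ -s0 ≠ -a ∧ ∀ z ∈ rts, ¬ bt (-s0) a z := by
  decide +kernel

theorem qq3 : ∀ b ∈ rts, b 3 = 2 → b ≠ s0 → 0 ≤ b 0 + b 0 - b 3 := by decide +kernel

theorem no3 : ∀ z ∈ rts, 0 < z 0 → 0 ≤ z 3 := by decide +kernel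

/-- the roots of level two -/
def D2 (cs : CoxeterSystem CoxeterMatrix.F₄ W) : Set (Fin 4 → ℤ) := {z | IsRoot cs isCartan z ∧ z 3 = 2}

theorem ne_neg3 {x y : Fin 4 → ℤ} (hx : 0 < x 3) (hy : 0 < y 3) : x ≠ -y := by
  rintro rfl
  rw [Pi.neg_apply] at hx
  omega

theorem D2_btw {x y z : Fin 4 → ℤ} (hx : x ∈ D2 cs) (hy : y ∈ D2 cs) (hz : Btwn cs isCartan x y z) :
    z = x ∨ z = b0 := by
  have hWf : Fintype W := Fintype.ofFinite W
  by_cases hxy : x = y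
  · left
    subst hxy
    exact Unique.btwn_self hx.1 hz
  right
  have x3 := hx.2
  have y3 := hy.2
  obtain ⟨h1, h2⟩ := btwn_spec cs hx.1 hy.1 hxy (ne_neg3 (by omega) (by omega)) hz
  exact cl3 x ((mem_rts cs).1 hx.1) hx.2 y ((mem_rts cs).1 hy.1) hy.2 z h1 h2

theorem D2_closed : Unique.Closed cs isCartan (D2 cs) := by
  intro x hx y hy z hz
  rcases D2_btw hx hy hz with e | e
  · rw [e]; exact hx
  · exact ⟨hz.1, by rw [e]; rfl⟩

theorem D2_NotJ {z : Fin 4 → ℤ} (hz : z ∈ D2 cs) : z ∈ NotJ cs isCartan ({3}ᶜ : Set (Fin 4)) :=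
  mem_NotJ_iff.2 ⟨hz.1, by have := hz.2; omega⟩

/-- orbits of parabolic subgroups -/
theorem orb3 : ∀ v ∈ L4, (decide (v.getD 3 0 = 2) && decide (bf (toF 4 v) (toF 4 v) = 4)) = true →
    ∃ u ∈ WJ cs ({3}ᶜ : Set (Fin 4)), toF 4 v = rep cs isCartan u s0 := by
  have hS := sh_T
  have hA := aT_ok
  have key : ∀ (n : ℕ) (v : List ℤ), v ∈ L4 → (decide (v.getD 3 0 = 2) && decide (bf (toF 4 v) (toF 4 v) = 4)) = true →
      v.sum.toNat ≤ n → ∃ u ∈ WJ cs ({3}ᶜ : Set (Fin 4)), toF 4 v = rep cs isCartan u s0 := by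
    intro n
    induction n with
    | zero =>
      intro v hv hPv h0
      rcases or3 v hv hPv with rfl | ⟨j, -, -, h1, h2⟩
      · exact absurd h0 (by decide)
      · exfalso
        have h3 : 0 ≤ (rfL aT v j).sum := List.sum_nonneg (rtT.nn _ h1)
        omega
    | succ n ih =>
      intro v hv hPv h0
      rcases or3 v hv hPv with rfl | ⟨j, hj, hPj, h1, h2⟩
      · refine ⟨1, one_mem _, ?_⟩
        rw [map_one, Module.End.one_apply]
        funext k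
        revert k
        decide
      · have h3 : 0 ≤ (rfL aT v j).sum := List.sum_nonneg (rtT.nn _ h1)
        obtain ⟨u, hu, h4⟩ := ih _ h1 hPj (by omega)
        refine ⟨cs.simple j * u, mul_mem (Subgroup.subset_closure ⟨j, hj, rfl⟩) hu, ?_⟩
        rw [rep_mul_apply, ← h4, ← rep_toF cs isCartan hS hA (rtT.len v hv), ← rep_mul_apply,
          cs.simple_mul_simple_self, map_one, Module.End.one_apply]
  intro v hv hPv
  exact key _ v hv hPv le_rfl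

include D in
/-- **The node 3.** -/
theorem nf3 [Finite Y] (hq : ∀ i, Nat.card (X (sr i)) = 2 ^ wT i) (N : NF R τ 3 w m u) :
    2 ^ 30 ≤ (fix τ).index := by
  have hWf : Fintype W := Fintype.ofFinite W
  have hS := sh_T
  have hA := aT_ok
  obtain ⟨r1, r2, r3, l1, l2, l3, l4, l5, l6, l7, l8⟩ := f3
  have hs0 := (mem_rts cs).2 r1
  have hb0 := (mem_rts cs).2 r2
  have hg0 := (mem_rts cs).2 r3
  have hVJ : Nat.card ↥(VJ cs isCartan X ({3}ᶜ : Set (Fin 4))) = 2 ^ 24 := by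
    rw [card_VJ cs isCartan hS hA rtT R hq 3]
    exact congrArg _ cV3
  have hAA : Nat.card ↥(Sup X (AA cs isCartan (3 : Fin 4) 2)) = 2 ^ 9 := by
    rw [card_SupP cs isCartan hS hA rtT R hq (P := fun v => decide (v.getD 3 0 = 0) && decide (0 < v.getD 2 0)) ?_ ?_]
    · exact congrArg _ cA3
    · intro x
      constructor
      · rintro ⟨h1, h2, h3⟩
        obtain ⟨v, hv, rfl⟩ := spec_pos cs isCartan hS hA rtT h1 h3
        refine ⟨v, hv, ?_, rfl⟩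
        rw [Bool.and_eq_true, decide_eq_true_eq, decide_eq_true_eq]
        exact ⟨h2, h3⟩
      · rintro ⟨v, hv, h1, rfl⟩
        rw [Bool.and_eq_true, decide_eq_true_eq, decide_eq_true_eq] at h1
        exact ⟨isRoot_toF cs isCartan hS hA rtT v hv, h1.1, h1.2⟩
    · intro x hx y hy z hz
      refine ⟨hz.1, ?_, Slope.btwn_pos' hz (co 2) hx.2.2 hy.2.2.le⟩
      have h1 := Slope.btwn_nonneg' hz (co 3) (by rw [co_apply, hx.2.1]) (by rw [co_apply, hy.2.1])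
      have h2 := Slope.btwn_nonpos' hz (co 3) (by rw [co_apply, hx.2.1]) (by rw [co_apply, hy.2.1])
      rw [co_apply] at h1 h2
      omega
  have hBB : Nat.card ↥(Sup X {x | IsRoot cs isCartan x ∧ x 3 = 0 ∧ 0 < x 0}) = 2 ^ 6 := by
    rw [card_SupP cs isCartan hS hA rtT R hq (P := fun v => decide (v.getD 3 0 = 0) && decide (0 < v.getD 0 0)) ?_ ?_]
    · exact congrArg _ cB3
    · intro x
      constructor
      · rintro ⟨h1, h2, h3⟩
        obtain ⟨v, hv, rfl⟩ := spec_pos cs isCartan hS hA rtT h1 h3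
        refine ⟨v, hv, ?_, rfl⟩
        rw [Bool.and_eq_true, decide_eq_true_eq, decide_eq_true_eq]
        exact ⟨h2, h3⟩
      · rintro ⟨v, hv, h1, rfl⟩
        rw [Bool.and_eq_true, decide_eq_true_eq, decide_eq_true_eq] at h1
        exact ⟨isRoot_toF cs isCartan hS hA rtT v hv, h1.1, h1.2⟩
    · intro x hx y hy z hz
      refine ⟨hz.1, ?_, Slope.btwn_pos' hz (co 0) hx.2.2 hy.2.2.le⟩
      have h1 := Slope.btwn_nonneg' hz (co 3) (by rw [co_apply, hx.2.1]) (by rw [co_apply, hy.2.1])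
      have h2 := Slope.btwn_nonpos' hz (co 3) (by rw [co_apply, hx.2.1]) (by rw [co_apply, hy.2.1])
      rw [co_apply] at h1 h2
      omega
  have hA3 : ∀ k : Fin 4, k ≠ 3 → k ≠ 2 → A 3 k = 0 := by decide
  have hQ : ∀ x, IsRoot cs isCartan x → 0 < x 3 → x ≠ sr 3 → x 3 ≤ x 2 ∧ pairing A 3 x ≤ x 3 := by
    intro x hx h0 hne
    obtain ⟨v, hv, rfl⟩ := spec_pos cs isCartan hS hA rtT hx h0
    have h1 := hQ3 v hv h0 (fun e => hne (by rw [e, toF_ei_sr]))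
    rw [pairing_toF hS hA (rtT.len v hv)]
    exact h1
  rcases dich' R N (j₀ := 2) (by decide) l8 hA3 (fun x hx h0 hne => (hQ x hx h0 hne).1)
    (fun x hx h0 hne => (hQ x hx h0 hne).2) with h1 | h1
  · rw [hVJ, hAA, ← pow_add] at h1
    exact (Nat.pow_le_pow_right (by norm_num) (by norm_num)).trans h1
  have hD2 : ∀ k ∈ LJ cs isCartan T X ({3}ᶜ : Set (Fin 4)), k⁻¹ * u * k ∈ Sup X (D2 cs) := by
    intro k hk
    refine Sup_mono ?_ (h1 k hk)
    rintro z ⟨hz, hzO⟩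
    rw [mem_NotJ_iff] at hz
    refine ⟨hz.1, ?_⟩
    obtain ⟨v, hv, rfl⟩ := spec_pos cs isCartan hS hA rtT hz.1 hz.2
    refine top3 v hv hz.2 ?_
    by_contra hcon
    rw [Bool.not_eq_false] at hcon
    exact hzO (orb_of cs isCartan hS hA rtT (P := P3) hP3 v hv hcon)
  have hs0D : s0 ∈ D2 cs := ⟨hs0, rfl⟩
  by_cases hall : ∀ k ∈ LJ cs isCartan T X ({3}ᶜ : Set (Fin 4)), k⁻¹ * u * k ∈ Sup X (D2 cs \ {s0})
  · exfalso
    -- all conjugates are in `X b0`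
    have hb : ∀ k ∈ LJ cs isCartan T X ({3}ᶜ : Set (Fin 4)), k⁻¹ * u * k ∈ X b0 := by
      intro k hk
      have h2 := mem_diff R (D := D2 cs) (O := {z | IsRoot cs isCartan z ∧ z 3 = 2 ∧ bf z z = 4})
        (fun z hz => NotJ_pos (D2_NotJ hz)) D2_closed (fun x hx y hy z hz hzO => by
          rcases D2_btw hx hy hz with e | e
          · exact Or.inl e.symm
          · exfalso
            have h3 := hzO.2.2
            rw [e, l2] at h3
            omega) (hD2 k hk) (fun γ hγ => by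
          obtain ⟨v, hv, rfl⟩ := spec_pos cs isCartan hS hA rtT hγ.1 (i := 3) (by have := hγ.2.1; omega)
          obtain ⟨c, hc, e⟩ := orb3 (cs := cs) v hv (by
            rw [Bool.and_eq_true, decide_eq_true_eq, decide_eq_true_eq]
            exact hγ.2)
          obtain ⟨g, hg⟩ := exists_rp cs R.nsys c
          have h3 := hall (k * g) (mul_mem hk (rp_mem_LJ R hc hg))
          have h4 := conj_mem_Sup R hg (S := D2 cs \ {s0}) (S' := D2 cs \ {rep cs isCartan c s0}) (fun x hx => hx.1.1)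
            (fun x hx => ⟨⟨hx.1.1.act c, by rw [rep_co hc (by simp)]; exact hx.1.2⟩,
              fun e => hx.2 (rep_injective_apply cs isCartan c e)⟩) h3
          have h5 : g * ((k * g)⁻¹ * u * (k * g)) * g⁻¹ = k⁻¹ * u * k := by group
          rw [h5] at h4
          rw [e]
          exact h4)
      refine Sup_le (S := D2 cs \ {z | IsRoot cs isCartan z ∧ z 3 = 2 ∧ bf z z = 4}) ?_ h2
      rintro z ⟨hz, hzn⟩
      rcases lv3 z ((mem_rts cs).1 hz.1) hz.2 with h3 | h3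
      · exact absurd ⟨hz.1, hz.2, h3⟩ hzn
      · rw [h3]
    have hu : u ∈ X b0 := by
      have := hb 1 (one_mem _)
      rwa [inv_one, one_mul, mul_one] at this
    obtain ⟨y, hy, hne⟩ := orth_nd D hb0 hg0 l2 l3 l4 hu (ne_one N)
    apply hne
    have h3 : y * u * y⁻¹ ∈ X b0 := by
      have := hb y⁻¹ (inv_mem (X_le_LJ ⟨hg0, fun k hk => by
        have : k = 3 := by simpa using hk
        rw [this]; rfl⟩ hy))
      rwa [inv_inv] at this
    have h4 : ⁅y, u⁆ ∈ X b0 := by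
      rw [commutatorElement_def]
      exact mul_mem h3 (inv_mem hu)
    have h5 : ⁅y, u⁆ ∈ X (g0 + b0) := orth_mem R hg0 hb0 l3 l2 (by rw [bf_comm]; exact l4) hy hu
    have h6 : ⁅y, u⁆ ∈ X (g0 + b0) ⊓ X b0 := ⟨h5, h4⟩
    rw [OppDec.X_inf_X R ((mem_rts cs).2 l6) hb0 l5, Subgroup.mem_bot] at h6
    exact (commutatorElement_eq_one_iff_mul_comm.1 h6).symm
  · push Not at hall
    obtain ⟨k, hk, hkn⟩ := hall
    obtain ⟨x, hx, v, hv, e⟩ := (Unique.mem_peel R (S := D2 cs) (x := s0) (fun z hz => NotJ_pos (D2_NotJ hz)) D2_closed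
      hs0D).1 (hD2 k hk)
    have hx1 : x ≠ 1 := by
      rintro rfl
      rw [one_mul] at e
      rw [e] at hkn
      exact hkn hv
    have h2 := index_nf R N hk (S := Sup X {x | IsRoot cs isCartan x ∧ x 3 = 0 ∧ 0 < x 0}) ?_ ?_
    · rw [hVJ, hBB, ← pow_add] at h2
      exact h2
    · refine Sup_mono ?_
      rintro z ⟨hz, z3, z0⟩
      exact ⟨hz, nonneg_of_pos_apply hz z0, fun k hk => by
        have : k = 3 := by simpa using hk
        rw [this, z3]⟩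
    · intro s hs hsu
      rw [e] at hsu
      have ec : ∀ z : Fin 4 → ℤ, (co 0 + co 0 - co 3 : (Fin 4 → ℤ) →+ ℤ) z = z 0 + z 0 - z 3 := fun z => rfl
      refine free_of R hs0 (f := co 3) (g := co 0) (ell := co 0 + co 0 - co 3)
        (P := {x | IsRoot cs isCartan x ∧ x 3 = 0 ∧ 0 < x 0}) (Q := D2 cs \ {s0}) ?_ (by decide) (by decide)
        (by rw [ec]; decide) ?_ ?_ ?_ hx hx1 hv hs hsu
      · intro z hz h0
        exact no3 z ((mem_rts cs).1 hz) h0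
      · rintro a ⟨ha, a3, a0⟩
        obtain ⟨q1, q2, q3, q4, q5⟩ := pp3 a ((mem_rts cs).1 ha) a3 a0
        refine ⟨ha, a3, a0, by rw [ec, a3, q1]; norm_num, fun z hz => ?_⟩
        obtain ⟨h3, h4⟩ := btwn_spec cs hs0.neg ha q3 q4 hz
        exact q5 z h3 h4
      · rintro a ⟨ha, a3, a0⟩
        obtain ⟨q1, q2, q3, q4, q5⟩ := pp3 a ((mem_rts cs).1 ha) a3 a0
        have h3 := cpr_long cs a hs0 l1
        rw [q2] at h3
        have h4 : cpr cs isCartan a s0 = -1 := by omega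
        rw [h4, ec]
        simp only [co_apply, Pi.sub_apply, Pi.smul_apply, a3, q1]
        decide
      · rintro b ⟨hb, hbn⟩
        have hb3 := hb.2
        refine ⟨hb.1, by rw [co_apply]; omega, ?_⟩
        rw [ec]
        exact qq3 b ((mem_rts cs).1 hb.1) hb3 hbn

end

end Cfsg.Agent.H523.DspTw
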