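import Cfsg.Agent.H523.DspTw
import Cfsg.Agent.H523.DspChev
import Cfsg.Agent.KFacts.TwESix.Dat

/-!
# Automorphisms of order three of `²E₆(2)`
-/

set_option autoImplicit false
set_option linter.unusedSectionVars false
set_option linter.unusedVariables false

namespace Cfsg.Agent.H523.DspTwIdx

open CoxeterSystem Cfsg.Agent.ChevalleyStructure.CoxeterGeom Cfsg.Agent.Tits.Roots
open Cfsg Cfsg.Lie
open Cfsg.Agent.ChevalleyStructure Cfsg.Agent.ChevalleyStructure.CoxeterGeomTypes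
open Cfsg.Agent.H81.PJTab Cfsg.Agent.H81.PJTwE6
open Cfsg.Agent.H523.Dsp Cfsg.Agent.H523.DspRgd Cfsg.Agent.H523.DspPath Cfsg.Agent.H523.DspNF Cfsg.Agent.H523.DspChev
  Cfsg.Agent.Nodes.RGDTwE6 Cfsg.Agent.H523.DspTw

theorem path4 : 30 ≤ wgt wT (gr 4 aT 30 (ei 4 2)) := by decide +kernel

theorem path4' : ∀ i j : Fin 4, i ≠ 2 → j ≠ i → 30 ≤ wgt wT (gr 4 aT 30 (eij 4 i j)) := by
  decide +kernel

theorem diag_F4 : ((srch (fun i j => CoxeterMatrix.F₄ i j) [0, 1, 2, 3] []).all fun r =>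
    (r.all fun p => p.2 == p.1) || (r.contains (0, 3) && r.contains (3, 0))) = true := by decide +kernel

theorem triv_F4 (σ : Fin 4 → Fin 4) (h : ∀ i j, CoxeterMatrix.F₄ (σ i) (σ j) = CoxeterMatrix.F₄ i j)
    (h3 : ∀ i, σ (σ (σ i)) = i) : ∀ i, σ i = i := by
  obtain ⟨r, h1, h2, -, h4⟩ := mem_srch (E := fun i j => CoxeterMatrix.F₄ i j) h [0, 1, 2, 3] [] (by simp)
  have h5 := List.all_eq_true.1 diag_F4 r h1
  rw [Bool.or_eq_true, Bool.and_eq_true, List.contains_iff_mem, List.contains_iff_mem] at h5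
  rcases h5 with h5 | ⟨h5, h6⟩
  · intro i
    exact beq_iff_eq.1 (List.all_eq_true.1 h5 _ (h4 i (by revert i; decide)))
  · exfalso
    have h7 : (3 : Fin 4) = σ 0 := h2 _ h5
    have h8 : (0 : Fin 4) = σ 3 := h2 _ h6
    have h9 := h3 0
    rw [← h7, ← h8, ← h7] at h9
    exact absurd h9 (by decide)

theorem div_F4 (z : Fin 4 → ℤ) (h : ∀ j, j ≠ 1 → ∑ k, Cfsg.Agent.Nodes.RGDTwE6.A j k * z k = 0) : (6 : ℤ) ∣ z 1 := by
  have h0 := h 0 (by decide)
  have h2 := h 2 (by decide)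
  have h3 := h 3 (by decide)
  simp only [Fin.sum_univ_four] at h0 h2 h3
  simp [Cfsg.Agent.Nodes.RGDTwE6.A] at h0 h2 h3
  omega

variable {K : Type} [Field K] [Fintype K]

/-- **Automorphisms of order three of `²E₆(2)`.** -/
theorem index_tw_two [IsSimpleGroup ↥(twistedE6 K 2)] (hK : Fintype.card K = 2 ^ 2)
    (τ : MulAut ↥(twistedE6 K 2)) (hτ : τ ≠ 1) (h3 : τ ^ 3 = 1) : 2 ^ 30 ≤ (fix τ).index := by
  classical
  have hq : IsPrimePow 2 := Nat.prime_two.isPrimePow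
  obtain ⟨φ, hφ, hqq⟩ := TwE6Basic.exists_frob hq hK
  have hch : CharP K 2 := by
    obtain ⟨p, hpc⟩ := CharP.exists K
    have hpp : p.Prime := (CharP.char_is_prime_or_zero K p).resolve_right (CharP.char_ne_zero_of_finite K p)
    have : Fact p.Prime := ⟨hpp⟩
    obtain ⟨k, -, hk⟩ := FiniteField.card K p
    rw [hK] at hk
    have h1 : p ∣ 2 ^ 2 := hk ▸ dvd_pow_self p k.2.ne'
    have h2 : p = 2 := (Nat.prime_dvd_prime_iff_eq hpp Nat.prime_two).1 (hpp.dvd_of_dvd_pow h1)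
    exact h2 ▸ hpc
  have hp2 : Fact (Nat.Prime 2) := ⟨Nat.prime_two⟩
  let cs : CoxeterSystem CoxeterMatrix.F₄ CoxeterMatrix.F₄.Group := CoxeterMatrix.F₄.toCoxeterSystem
  have hfin : Finite CoxeterMatrix.F₄.Group := Cfsg.Agent.Nodes.RGDChev.finite_W Cfsg.Agent.H81.PJExc.typeF4 CoxeterMatrix.F₄.toCoxeterSystem
  have R := Cfsg.Agent.Nodes.RGDTwE6.rgd cs hφ hqq 2
  have hD := Cfsg.Agent.KFacts.TwESix.Dat.dat cs hφ hqq hK (by norm_num : 1 < 2)
  have hc : ∀ i : Fin 4, Nat.card ↥(X φ 2 (sr i)) = 2 ^ wT i := card_X_tw hφ hqq le_rfl hK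
  have hG := Cfsg.Agent.Nodes.RGDTwE6.G1_eq_top cs hφ hqq
  have hpair : ∀ i j : Fin 4, i ≠ 2 → j ≠ i → ∃ ω : List (Fin 4),
      Path Cfsg.Agent.Nodes.RGDTwE6.A (Pi.single i 1 + Pi.single j 1) ω ∧
        2 ^ 30 ≤ (ω.map fun j => Nat.card ↥(X φ 2 (sr j))).prod := fun i j hi hj =>
    exists_path2 sh_T aT_ok (q := 2) (by norm_num) wT _ hc 30 30 i j (path4' i j hi hj)
  refine index_ge_nf R hG triv_F4 (fun i => ?_) τ hτ h3
  by_cases h1 : i = 2
  · subst h1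
    exact Or.inl (exists_path sh_T aT_ok (q := 2) (by norm_num) wT _ hc 30 30 2 path4)
  · refine Or.inr ⟨?_, fun j hj => hpair i j h1 hj⟩
    have hi : i = 0 ∨ i = 1 ∨ i = 3 := by
      revert h1
      revert i
      decide
    rcases hi with rfl | rfl | rfl
    · exact Or.inr fun τ' _ _ w m u N => nf0 R hD hG hc N
    · exact Or.inl ⟨6, by norm_num, div_F4⟩
    · exact Or.inr fun τ' _ _ w m u N => nf3 R hD hc N

end Cfsg.Agent.H523.DspTwIdx
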