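import Cfsg.Agent.H523.Three
import Cfsg.Agent.H523.DspE7

/-!
# `Meet 3` for `E₇(2)`
-/

set_option autoImplicit false

namespace Cfsg.Agent.H523.Three

open Cfsg Cfsg.Lie Cfsg.Agent.H903.SylMeet Cfsg.Agent.H172.SI Cfsg.Agent.H523.Dsp Cfsg.Agent.H523.DspMeet
  Cfsg.Agent.H523.DspChev

theorem v_E7_two : padicValNat 3 (pr 2 [2, 6, 8, 10, 12, 14, 18]) ≤ 11 := by
  by_contra hcon
  push Not at hcon
  have h1 : 3 ^ 12 ∣ pr 2 [2, 6, 8, 10, 12, 14, 18] := (pow_dvd_pow 3 hcon).trans pow_padicValNat_dvd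
  revert h1
  decide +kernel

/-- **`E₇(q)`** -/
theorem cross3_E7 {F : Type} [Field F] [Fintype F] (h : ¬ 3 ∣ Fintype.card F) : Meet 3 ↥(chevE7.group F) := by
  classical
  by_cases hF2 : Fintype.card F = 2
  · have : Finite (GL chevE7.Idx F) := inferInstance
    obtain ⟨hs, hT⟩ := Cfsg.Agent.S1054.result (F := F) chevE7 (by simp)
    obtain ⟨ℓ, f, q, j, f', hℓ, hch, hf, hf', hf0, hFc, hqd, hFq, hpq, hq2⟩ := exists_split (p := 3) F h
    have : Fact ℓ.Prime := ⟨hℓ⟩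
    have hout := Cfsg.Agent.S2124.result ℓ f hFc
    have hv : padicValNat 3 (Nat.card (Cfsg.Out ↥(chevE7.group F))) = j := by
      refine hout1 (not_dvd_of_lt (Nat.gcd_pos_of_pos_left _ (by norm_num)) ?_) hf hf' hout
      have := Nat.gcd_le_left (ℓ ^ f - 1) (show 0 < 2 by norm_num)
      omega
    have hj : j = 0 := by
      by_contra hj
      have h1 : 3 ≤ 3 ^ j := Nat.le_self_pow hj 3
      have h2 : q ^ 3 ≤ q ^ 3 ^ j := Nat.pow_le_pow_right (by omega) h1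
      have h3 : 2 ^ 3 ≤ q ^ 3 := Nat.pow_le_pow_left hq2 3
      omega
    have h1 := v_le (T := ↥(chevE7.group F)) (by norm_num : ¬ 3 ∣ 2) le_rfl (by simp) (card_dvd deg_E7 hF2)
    refine meet_three hT (m := 2 ^ 34) (B := 3 ^ 11) (fun y hy h3 => DspE7.index_E7_two hF2 y hy h3) ?_ (by norm_num)
    refine Nat.pow_le_pow_right (by norm_num) ?_
    have h2 := v_E7_two
    omega
  · exact cross3_E7_of h hF2

end Cfsg.Agent.H523.Three
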